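import Groth.Agent.FTors52.Kappa
import Groth.Agent.FComplLib.IdealComap

/-!
# Generators of the open ideals of a completion

The completion of a locally Noetherian scheme is a locally Noetherian formal scheme whose open ideals over
the trace of an affine open are generated by the ideal of the subscheme.
-/

set_option autoImplicit false

universe u

open CategoryTheory CategoryTheory.Limits AlgebraicGeometry Opposite TopologicalSpace

namespace Groth.Agent.FTors52

open FMod90

variable {X : Scheme.{u}} {𝓘 : X.IdealSheafData} (hX : (FSch.completionAlong X 𝓘).IsFormal)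

include hX in
theorem isAdic_completion : (FSch.completionAlong X 𝓘).IsAdic := fun n => by
  have : ∀ m, IsClosedImmersion (FSch.completionToX X 𝓘 m) := fun m => inferInstance
  haveI := FComplLib.isClosedImmersion_toX hX (n + 1)
  have e : ((FSch.completionAlong X 𝓘).toX (n + 1)).ker = 𝓘.comap (FSch.completionToX X 𝓘 (n + 1)) := by
    rw [← FComplLib.ker_comp_comap ((FSch.completionAlong X 𝓘).toX (n + 1))
      (FSch.completionToX X 𝓘 (n + 1))]
    erw [FSch.toX_p (FSch.completionAlong X 𝓘) (FSch.completionToX X 𝓘)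
      (FSch.completionToX_comm X 𝓘) (n + 1), Scheme.IdealSheafData.ker_subschemeι, pow_one]
  rw [e, ← FComplLib.comap_pow]
  exact FComplLib.ker_inclusion _

include hX in
theorem isLocNoethFormal_completion [IsLocallyNoetherian X] :
    (FSch.completionAlong X 𝓘).IsLocNoethFormal :=
  ⟨hX, isAdic_completion hX, fun n =>
    LocallyOfFiniteType.isLocallyNoetherian ((𝓘 ^ (n + 1)).subschemeι)⟩

theorem isAffineOpen_tr (W : X.affineOpens) : IsAffineOpen (tr X 𝓘 W) :=
  W.2.preimage (FSch.completionToX X 𝓘 0)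

variable [IsLocallyNoetherian X]

/-- The adic ideal over the trace of an affine open comes from the ideal of the subscheme. -/
theorem isAdicRing_tr (W : X.affineOpens) :
    IsAdicRing hX (isAffineOpen_tr W) ((𝓘.ideal W).map (sh X 𝓘 hX W)) := by
  obtain ⟨J, hJ⟩ := exists_isAdicRing (isLocNoethFormal_completion hX) (isAffineOpen_tr W)
  suffices (𝓘.ideal W).map (sh X 𝓘 hX W) = J by rw [this]; exact hJ
  have h1 : (𝓘.ideal W).map (sh X 𝓘 hX W) ≤ J := by
    refine Ideal.map_le_iff_le_comap.2 fun a ha => ?_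
    have : sh X 𝓘 hX W a ∈ RingHom.ker (pr hX (tr X 𝓘 W) 0) :=
      (pr_sh_eq_zero_iff hX 0 W a).2 (by rw [zero_add, pow_one]; exact ha)
    rw [hJ.ker_pr, zero_add, pow_one] at this
    exact this
  have := hJ.complete
  refine le_antisymm h1 (Submodule.le_of_le_smul_of_le_jacobson_bot hJ.fg
    (IsAdicComplete.le_jacobson_bot J) fun b hb => ?_)
  obtain ⟨a, ha⟩ := (appLE_eq_app (FSch.completionToX X 𝓘 1) W.1 _
    (FSch.lvU_p _ hX (FSch.completionToX X 𝓘) (FSch.completionToX_comm X 𝓘) 1 W.1)).2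
      ((𝓘 ^ (1 + 1)).subschemeι_app_surjective W) (pr hX (tr X 𝓘 W) 1 b)
  rw [← pr_sh hX] at ha
  have hd : b - sh X 𝓘 hX W a ∈ J ^ (1 + 1) := by
    rw [← hJ.ker_pr, RingHom.mem_ker, map_sub, ha, sub_self]
  have ha0 : a ∈ 𝓘.ideal W := by
    have : pr hX (tr X 𝓘 W) 0 (sh X 𝓘 hX W a) = 0 := by
      rw [← ρ_pr hX (tr X 𝓘 W) 0, ha, ρ_pr hX (tr X 𝓘 W) 0, ← RingHom.mem_ker, hJ.ker_pr, zero_add, pow_one]
      exact hb
    have h2 := (pr_sh_eq_zero_iff hX 0 W a).1 this
    rw [zero_add, pow_one] at h2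
    exact h2
  refine Submodule.mem_sup.2 ⟨sh X 𝓘 hX W a, Ideal.mem_map_of_mem _ ha0, b - sh X 𝓘 hX W a, ?_,
    add_sub_cancel _ _⟩
  rw [smul_eq_mul, ← pow_two]
  exact hd

/-- Over the trace of an affine open the open ideals are generated by the powers of the ideal. -/
theorem mem_map_of_pr_eq_zero {n : ℕ} {W : X.affineOpens}
    {b : Ring ((FSch.completionAlong X 𝓘).Osh hX) (tr X 𝓘 W)} (hb : pr hX (tr X 𝓘 W) n b = 0) :
    b ∈ (𝓘.ideal W ^ (n + 1)).map (sh X 𝓘 hX W) := by
  rw [Ideal.map_pow, ← (isAdicRing_tr hX W).ker_pr n]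
  exact hb

end Groth.Agent.FTors52
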