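import Groth.Agent.FTors52.Formal
import Groth.Agent.FComplLib.Spf
import Groth.Agent.QCoh.Bound
import Groth.Prelude.Def_DerComp
import Mathlib.AlgebraicGeometry.IdealSheaf.Functorial

/-!
# Formal schemes adic over a formal spectrum: the ideal of definition is generated by scalars
-/

set_option autoImplicit false

universe u

open CategoryTheory CategoryTheory.Limits AlgebraicGeometry Opposite TopologicalSpace

namespace Groth.Agent.FTors52

open FMod90

variable {𝔛 𝔜 : FSch.Sys.{u}}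

/-- For an adic morphism the smallest level is the preimage of the smallest level at every level. -/
theorem isPullback_toX (f : 𝔛 ⟶ 𝔜) (hf : FSch.IsAdicHom f) :
    ∀ n, IsPullback (𝔛.toX n) ((f : FSch.Hom 𝔛 𝔜).app 0) ((f : FSch.Hom 𝔛 𝔜).app n) (𝔜.toX n)
  | 0 => by
    have : IsIso (𝔛.toX 0) := inferInstanceAs (IsIso (𝟙 _))
    have : IsIso (𝔜.toX 0) := inferInstanceAs (IsIso (𝟙 _))
    exact IsPullback.of_horiz_isIso ⟨FSch.Hom.toX_comm f 0⟩
  | n + 1 => (isPullback_toX f hf n).paste_horiz (hf n)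

theorem ker_toX_eq_comap (f : 𝔛 ⟶ 𝔜) (hf : FSch.IsAdicHom f) (h𝔜 : 𝔜.IsFormal) (n : ℕ) :
    (𝔛.toX n).ker = (𝔜.toX n).ker.comap ((f : FSch.Hom 𝔛 𝔜).app n) := by
  have := FSch.Sys.toX_isClosedImmersion 𝔜 h𝔜 n
  have e := (isPullback_toX f hf n).isoPullback_hom_fst
  rw [← Scheme.IdealSheafData.ker_fst_of_isClosedImmersion, ← e, Scheme.Hom.ker_comp_of_isIso]

variable {A : Type u} [CommRing A] {J : Ideal A} {h : 𝔛.IsFormal}
  (f : 𝔛 ⟶ FSch.spf A J)

/-- The scalars on the sections of a level. -/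
noncomputable def scalLvl (U : (𝔛.X 0).Opens) (n : ℕ) : A →+* Rn h U n :=
  (((f : FSch.Hom 𝔛 (FSch.spf A J)).app n).appLE ⊤ (𝔛.lvU h n U) le_top).hom.comp
    ((Scheme.ΓSpecIso (CommRingCat.of (A ⧸ J ^ (n + 1)))).inv.hom.comp (Ideal.Quotient.mk (J ^ (n + 1))))

theorem ρ_scalLvl (U : (𝔛.X 0).Opens) (n : ℕ) (a : A) :
    ρ h U n (scalLvl f U (n + 1) a) = scalLvl f U n a := by
  let q : CommRingCat.of (A ⧸ J ^ (n + 2)) ⟶ CommRingCat.of (A ⧸ J ^ (n + 1)) :=
    CommRingCat.ofHom (Ideal.Quotient.factor (Ideal.pow_le_pow_right (Nat.le_succ (n + 1))))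
  have e := FSch.appLE_comp_appLE_of_eq (𝔛.ι n) ((f : FSch.Hom 𝔛 (FSch.spf A J)).app (n + 1))
    _ ((f : FSch.Hom 𝔛 (FSch.spf A J)).comm n).symm ⊤ (𝔛.lvU h (n + 1) U) (𝔛.lvU h n U)
    le_top (𝔛.lvU_le h n U) le_top
  refine (congr($e ((Scheme.ΓSpecIso (CommRingCat.of (A ⧸ J ^ (n + 2)))).inv
    (Ideal.Quotient.mk (J ^ (n + 2)) a)))).trans ?_
  have e' : Scheme.Hom.appLE (((f : FSch.Hom 𝔛 (FSch.spf A J)).app n) ≫ (FSch.spf A J).ι n) ⊤
      (𝔛.lvU h n U) le_top = ((FSch.spf A J).ι n).appTop ≫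
        ((f : FSch.Hom 𝔛 (FSch.spf A J)).app n).appLE ⊤ (𝔛.lvU h n U) le_top :=
    Scheme.Hom.comp_appLE _ _ _ _ _
  refine (congr($e' _)).trans ?_
  refine congrArg (((f : FSch.Hom 𝔛 (FSch.spf A J)).app n).appLE ⊤ (𝔛.lvU h n U) le_top) ?_
  exact congr($((Scheme.ΓSpecIso_inv_naturality q).symm) (Ideal.Quotient.mk (J ^ (n + 2)) a))

theorem scalLvl_res {U V : (𝔛.X 0).Opens} (hVU : V ≤ U) (n : ℕ) (a : A) :
    resLvl hVU n (scalLvl (h := h) f U n a) = scalLvl f V n a :=
  congr($(Scheme.Hom.appLE_map ((f : FSch.Hom 𝔛 (FSch.spf A J)).app n)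
    (le_top : 𝔛.lvU h n U ≤ _ ⁻¹ᵁ (⊤ : ((FSch.spf A J).X n).Opens))
    ((Opens.map (𝔛.gInv h n)).map (homOfLE hVU)).op) _)

/-- The scalars on the sections of the structure sheaf. -/
theorem exists_scal :
    ∃ σ : A → DerComp.GSec (𝔛.Osh h), ∀ a U n, pr h U n ((σ a).1 U) = scalLvl f U n a := by
  choose s hs using fun (a : A) (U : (𝔛.X 0).Opens) =>
    exists_ring h U (fun n => scalLvl f U n a) fun n => ρ_scalLvl f U n a
  refine ⟨fun a => ⟨s a, fun U V g => ring_ext h V fun n => ?_⟩, fun a U n => hs a U n⟩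
  refine (pr_rres h U (leOfHom g) n (s a U)).trans ?_
  rw [hs]
  exact (scalLvl_res f (leOfHom g) n a).trans (hs a V n).symm

/-- The scalar given by an element of the base ring. -/
noncomputable def scal (a : A) : DerComp.GSec (𝔛.Osh h) := (exists_scal f).choose a

theorem pr_scal (a : A) (U : (𝔛.X 0).Opens) (n : ℕ) :
    pr h U n ((scal f a).1 U) = scalLvl f U n a := (exists_scal f).choose_spec a U n

theorem scal_add (a b : A) (U : (𝔛.X 0).Opens) :
    (scal (h := h) f (a + b)).1 U = (scal f a).1 U + (scal f b).1 U :=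
  ring_ext h U fun n => by rw [map_add, pr_scal, pr_scal, pr_scal, map_add]

theorem scal_mul (a b : A) (U : (𝔛.X 0).Opens) :
    (scal (h := h) f (a * b)).1 U = (scal f a).1 U * (scal f b).1 U :=
  ring_ext h U fun n => by rw [map_mul, pr_scal, pr_scal, pr_scal, map_mul]

variable {f} (hf : FSch.IsAdicHom f)

include hf

/-- The ideal of the smallest level in a level is generated by the base ideal. -/
theorem Nid_eq_map {U : (𝔛.X 0).Opens} (hU : IsAffineOpen U) (n : ℕ) :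
    Nid h hU n = J.map (scalLvl f U n) := by
  let Y : Scheme.{u} := Spec (CommRingCat.of (A ⧸ J ^ (n + 1)))
  have h1 := ModPairLib.ideal_comap ((FSch.spf A J).toX n).ker ((f : FSch.Hom 𝔛 (FSch.spf A J)).app n)
    ⟨(⊤ : Y.Opens), isAffineOpen_top Y⟩ ⟨𝔛.lvU h n U, isAffineOpen_lvU h hU n⟩ le_top
  rw [← ker_toX_eq_comap f hf (FComplLib.isFormal_spf A J) n] at h1
  refine h1.trans ?_
  rw [FComplLib.spf_toX]
  refine (congrArg (Ideal.map _) (FComplLib.ker_specMap_ideal _
    (Ideal.Quotient.factor_surjective _))).trans ?_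
  rw [Ideal.Quotient.factor_ker, zero_add, pow_one, Ideal.map_map]
  exact Ideal.map_map _ _

/-- Over an affine open the scalars of generators of the base ideal generate the ideal of definition. -/
theorem span_scal (h𝔛 : 𝔛.IsLocNoethFormal) {U : (𝔛.X 0).Opens} {hU : IsAffineOpen U}
    {K : Ideal (Ring (𝔛.Osh h) U)} (hK : IsAdicRing h hU K) {d : ℕ} (g : Fin d → A)
    (hg : Ideal.span (Set.range g) = J) :
    K = Ideal.span (Set.range fun i => (scal f (g i)).1 U) := by
  set L := Ideal.span (Set.range fun i => (scal (h := h) f (g i)).1 U)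
  have hL : ∀ n, L.map (pr h U n) = K.map (pr h U n) := fun n => by
    rw [hK.map_pr, Nid_eq_map hf hU n]
    conv_rhs => arg 2; rw [← hg]
    rw [Ideal.map_span, Ideal.map_span, ← Set.range_comp,
      ← Set.range_comp]
    congr 2
    funext i
    exact pr_scal f (g i) U n
  have hsup : L ⊔ K ^ (1 + 1) = K := by
    have h1 := congrArg (Ideal.comap (pr h U 1)) (hL 1)
    rw [Ideal.comap_map_of_surjective' _ (pr_surjective h hU 1),
      Ideal.comap_map_of_surjective' _ (pr_surjective h hU 1), hK.ker_pr,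
      sup_eq_left.2 (Ideal.pow_le_self (by omega) : K ^ (1 + 1) ≤ K)] at h1
    exact h1
  have := hK.complete
  refine le_antisymm ?_ (le_sup_left.trans hsup.le)
  refine Submodule.le_of_le_smul_of_le_jacobson_bot hK.fg (IsAdicComplete.le_jacobson_bot K) ?_
  rw [smul_eq_mul, ← pow_two]
  exact hsup.ge

end Groth.Agent.FTors52
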