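import Groth.Agent.FTors52.IndCohExt
import Mathlib.CategoryTheory.Filtered.Final

/-!
# Morphisms from coherent modules to filtered colimits on a Noetherian formal scheme

A section of a filtered colimit which vanishes already vanishes locally at a later stage, and on a
quasi-compact formal scheme morphisms from coherent modules factor through a stage, uniquely up to
passing to a later stage.
-/

set_option autoImplicit false

universe u

open CategoryTheory CategoryTheory.Limits AlgebraicGeometry Opposite TopologicalSpace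

namespace Groth.Agent.FTors52

open FMod90

section general

variable {T : TopCat.{u}} {O : Sheaf (Opens.grothendieckTopology T) CommRingCat.{u}}
  {I : Type u} [SmallCategory I] [IsFiltered I] {K : I ⥤ ModSite.Mod O} {c : Cocone K}
  {U : Opens T}

/-- A section killed in a filtered colimit is killed locally at a later stage. -/
theorem exists_eq_zero_stage (hc : IsColimit c) {j : I} (z : Sec (K.obj j) U)
    (hz : appL (c.ι.app j) U z = 0) {x : T} (hx : x ∈ U) :
    ∃ (W : Opens T) (hW : W ≤ U) (k : I) (g : j ⟶ k), x ∈ W ∧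
      appL (K.map g) W (res (K.obj j) hW z) = 0 := by
  classical
  let E : (Σ p : I × I, p.1 ⟶ p.2) → ModSite.Mod O := fun f => K.obj f.1.1
  let d : ∐ E ⟶ ∐ K.obj := Sigma.desc fun f =>
    Sigma.ι K.obj f.1.1 - K.map f.2 ≫ Sigma.ι K.obj f.1.2
  let π : ∐ K.obj ⟶ c.pt := Sigma.desc fun i => c.ι.app i
  have hd : d ≫ π = 0 := Sigma.hom_ext _ _ fun f => by simp [d, π, E, sub_eq_zero]
  have hcok : IsColimit (CokernelCofork.ofπ π hd) := by
    refine CokernelCofork.IsColimit.ofπ π hd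
      (fun {Z} g hg => hc.desc ⟨Z, ⟨fun i => Sigma.ι K.obj i ≫ g, fun i i' f => ?_⟩⟩)
      (fun {Z} g hg => Sigma.hom_ext _ _ fun i => by simp [π])
      fun {Z} g hg m hm => hc.hom_ext fun i => by simp [← hm, π]
    have h1 := congrArg (Sigma.ι E ⟨(i, i'), f⟩ ≫ ·) hg
    simp [d, E, sub_eq_zero] at h1
    simpa using h1.symm
  have hex := ShortComplex.exact_of_g_is_cokernel (ShortComplex.mk d π hd) hcok
  have h0 : appL π U (appL (Sigma.ι K.obj j) U z) = 0 := by
    rw [← appL_comp, Sigma.ι_desc]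
    exact hz
  obtain ⟨W, hW, w, hxW, hw⟩ := locLift_of_exact hex h0 x hx
  obtain ⟨W', hW', n, σ, t, hxW', ht⟩ := exists_sum_of_isColimit (colimit.isColimit (Discrete.functor E)) w hxW
  let ob : Finset I := insert j (Finset.univ.image (fun q => (σ q).as.1.1) ∪
    Finset.univ.image (fun q => (σ q).as.1.2))
  have m₁ : ∀ q, (σ q).as.1.1 ∈ ob := fun q =>
    Finset.mem_insert_of_mem (Finset.mem_union_left _ (Finset.mem_image_of_mem _ (Finset.mem_univ q)))
  have m₂ : ∀ q, (σ q).as.1.2 ∈ ob := fun q =>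
    Finset.mem_insert_of_mem (Finset.mem_union_right _ (Finset.mem_image_of_mem _ (Finset.mem_univ q)))
  let H : Finset (Σ' (X Y : I) (_ : X ∈ ob) (_ : Y ∈ ob), X ⟶ Y) :=
    Finset.univ.image fun q => ⟨_, _, m₁ q, m₂ q, (σ q).as.2⟩
  obtain ⟨S, τ, hτ⟩ := IsFiltered.sup_exists ob H
  let φ : ∐ K.obj ⟶ K.obj S :=
    Sigma.desc fun i => if hi : i ∈ ob then K.map (τ hi) else 0
  have hφj : Sigma.ι K.obj j ≫ φ = K.map (τ (Finset.mem_insert_self j _)) :=
    (Sigma.ι_desc _ j).trans (dif_pos _)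
  have hφq : ∀ q, Sigma.ι E (σ q).as ≫ d ≫ φ = 0 := fun q => by
    simp only [d, φ, E, Sigma.ι_desc_assoc, Preadditive.sub_comp, Category.assoc, Sigma.ι_desc, dif_pos (m₁ q),
      dif_pos (m₂ q)]
    rw [sub_eq_zero, ← K.map_comp, hτ (m₁ q) (m₂ q) (Finset.mem_image_of_mem _ (Finset.mem_univ q))]
  refine ⟨W', hW'.trans hW, S, τ (Finset.mem_insert_self j _), hxW', ?_⟩
  rw [← hφj, appL_comp, ← res_appL, ← res_res hW hW', ← hw, res_appL]
  refine (congrArg (fun v => appL φ W' (appL d W' v)) ht).trans ?_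
  simp only [map_sum]
  refine Finset.sum_eq_zero fun q _ => ?_
  have h1 := congrArg (fun f => appL f W' (t q)) (hφq q)
  simp only [appL_comp, appL_zero] at h1
  exact h1

variable {Z : Set T}

/-- A locally attained monotone property is attained on a compact set at one stage. -/
theorem exists_stage (hZ : IsCompact Z) (P : I → T → Prop)
    (hmono : ∀ {k k'} (_ : k ⟶ k') x, P k x → P k' x)
    (hloc : ∀ x ∈ Z, ∃ (W : Opens T) (k : I), x ∈ W ∧ ∀ y ∈ Z, y ∈ W → P k y) :
    ∃ k, ∀ x ∈ Z, P k x := by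
  classical
  choose W k hxW hk using fun x : Z => hloc x.1 x.2
  obtain ⟨t, ht⟩ := hZ.elim_finite_subcover (fun x : Z => (W x : Set T)) (fun x => (W x).2)
    fun x hx => Set.mem_iUnion.2 ⟨⟨x, hx⟩, hxW ⟨x, hx⟩⟩
  obtain ⟨S, hS⟩ := IsFiltered.sup_objs_exists (t.image k)
  refine ⟨S, fun x hx => ?_⟩
  obtain ⟨x', hx', hxx'⟩ := Set.mem_iUnion₂.1 (ht hx)
  exact hmono (hS (Finset.mem_image_of_mem k hx')).some x (hk x' x hx hxx')

end general

variable {𝔛 : FSch.Sys.{u}} {h : 𝔛.IsFormal} (h𝔛 : 𝔛.IsLocNoethFormal) {I : Type u} [SmallCategory I]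
  [IsFiltered I] {K : I ⥤ FSch.ModF 𝔛 h} {c : Cocone K} {C : FSch.ModF 𝔛 h}

include h𝔛

/-- A morphism from a coherent module killed in a filtered colimit is killed at a later stage. -/
theorem exists_comp_eq_zero [CompactSpace (𝔛.X 0)] (hc : IsColimit c) (hC : FSch.IsCohF 𝔛 h C) {j : I}
    (φ : C ⟶ K.obj j) (hφ : φ ≫ c.ι.app j = 0) : ∃ (k : I) (g : j ⟶ k), φ ≫ K.map g = 0 := by
  obtain ⟨⟨_, k, g⟩, hg⟩ := exists_stage (I := Under j) (Z := (Set.univ : Set (𝔛.X 0))) isCompact_univ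
    (fun p x => ∃ W : (𝔛.X 0).Opens, x ∈ W ∧
      ∀ (V : (𝔛.X 0).Opens) (y : Sec C V), V ≤ W → appL (φ ≫ K.map p.hom) V y = 0)
    (fun {p p'} e x ⟨W, hxW, hW⟩ => ⟨W, hxW, fun V y hV => by
      rw [← Under.w e, K.map_comp, ← Category.assoc, appL_comp, hW V y hV, map_zero]⟩)
    (fun x _ => by
      obtain ⟨U, hU, -, hxU⟩ := exists_affine_le (U := (⊤ : (𝔛.X 0).Opens)) (x := x) trivial
      obtain ⟨n, s, hs⟩ := exists_isGen_affine h𝔛 hC hU
      have h0 : ∀ i, appL (c.ι.app j) U (appL φ U (s i)) = 0 := fun i => by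
        rw [← appL_comp, hφ, appL_zero]
      choose W hW k g hxW hg using fun i => exists_eq_zero_stage hc _ (h0 i) hxU
      classical
      obtain ⟨S, hS⟩ := IsFiltered.sup_objs_exists
        (insert (Under.mk (𝟙 j)) (Finset.univ.image fun i => Under.mk (g i)))
      let W₀ : (𝔛.X 0).Opens :=
        ⟨⋂ i, (W i : Set (𝔛.X 0)), isOpen_iInter_of_finite fun i => (W i).2⟩ ⊓ U
      have hW₀ : ∀ i, W₀ ≤ W i := fun i w hw => Set.mem_iInter.1 hw.1 i
      refine ⟨W₀, S, ⟨Set.mem_iInter.2 hxW, hxU⟩, fun y _ hy => ⟨W₀, hy, fun V z hV => ?_⟩⟩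
      refine eq_zero_of_locally fun v hv => ?_
      obtain ⟨V', hV', a, hvV', ha⟩ := hs V (hV.trans inf_le_right) z v hv
      refine ⟨V', hV', hvV', ?_⟩
      rw [res_appL, ← ha, appL_comb]
      refine Finset.sum_eq_zero fun i _ => ?_
      have e := (hS (Finset.mem_insert_of_mem (Finset.mem_image_of_mem _ (Finset.mem_univ i)))).some
      change a i • res _ _ (appL (φ ≫ K.map S.hom) U (s i)) = 0
      rw [← Under.w e, K.map_comp, appL_comp, appL_comp]
      change a i • res _ _ (appL (K.map e.right) U (appL (K.map (g i)) U (appL φ U (s i)))) = 0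
      have h5 : res (K.obj (k i)) ((hV'.trans hV).trans inf_le_right)
          (appL (K.map (g i)) U (appL φ U (s i))) = 0 := by
        rw [← res_res (hW i) ((hV'.trans hV).trans (hW₀ i)), res_appL, hg, map_zero]
      exact (congrArg (a i • ·) ((res_appL (K.map e.right) _ _).trans
        ((congrArg _ h5).trans (map_zero _)))).trans (smul_zero _))
  exact ⟨k, g, hom_ext fun V y => (eq_zero_of_locally fun x hx => by
    obtain ⟨W, hxW, hW⟩ := hg x trivial
    refine ⟨V ⊓ W, inf_le_left, ⟨hx, hxW⟩, ?_⟩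
    rw [res_appL]
    exact hW _ _ inf_le_right).trans (appL_zero _ _).symm⟩

/-- A morphism from a coherent module to a filtered colimit factors through a stage. -/
theorem exists_factor_stage [CompactSpace (𝔛.X 0)] (hc : IsColimit c) (hC : FSch.IsCohF 𝔛 h C)
    (f : C ⟶ c.pt) : ∃ (j : I) (φ : C ⟶ K.obj j), φ ≫ c.ι.app j = f := by
  classical
  haveI : IsLocallyNoetherian (𝔛.X 0) := h𝔛.2.2 0
  haveI : IsNoetherian (𝔛.X 0) := { }
  -- small affine opens with generators lifted at a stage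
  have key : ∀ x : 𝔛.X 0, ∃ (U : (𝔛.X 0).Opens) (_ : x ∈ U) (_ : IsAffineOpen U) (n : ℕ)
      (s : Fin n → Sec C U) (_ : IsGen C s) (j : I) (b : Fin n → Sec (K.obj j) U),
      ∀ i, appL (c.ι.app j) U (b i) = appL f U (s i) := fun x => by
    obtain ⟨U, hU, -, hxU⟩ := exists_affine_le (U := (⊤ : (𝔛.X 0).Opens)) (x := x) trivial
    obtain ⟨n, s, hs⟩ := exists_isGen_affine h𝔛 hC hU
    choose W hW k σ z hxW hz using fun i => exists_sum_of_isColimit hc (appL f U (s i)) hxU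
    obtain ⟨S, hS⟩ := IsFiltered.sup_objs_exists (Finset.univ.image fun q : (Σ i, Fin (k i)) => σ q.1 q.2)
    obtain ⟨U', hU', hle, hxU'⟩ := exists_affine_le
      (U := (⟨⋂ i, (W i : Set (𝔛.X 0)), isOpen_iInter_of_finite fun i => (W i).2⟩ : (𝔛.X 0).Opens) ⊓ U)
      (x := x) ⟨Set.mem_iInter.2 hxW, hxU⟩
    have hUU : U' ≤ U := hle.trans inf_le_right
    have hUW : ∀ i, U' ≤ W i := fun i w hw => Set.mem_iInter.1 (hle hw).1 i
    refine ⟨U', hxU', hU', n, fun i => res C hUU (s i), hs.restrict hUU, S, fun i => ∑ q,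
      appL (K.map (hS (Finset.mem_image_of_mem (fun q : (Σ i, Fin (k i)) => σ q.1 q.2)
        (Finset.mem_univ ⟨i, q⟩))).some) U' (res (K.obj (σ i q)) (hUW i) (z i q)), fun i => ?_⟩
    rw [map_sum, ← res_appL, ← res_res (hW i) (hUW i), hz, map_sum]
    refine Finset.sum_congr rfl fun q _ => ?_
    rw [← appL_comp, c.w, res_appL]
  choose Uc hxU hUc n₀ s₀ hs₀ j₀ b₀ hb₀ using key
  obtain ⟨tc, htc⟩ := isCompact_univ.elim_finite_subcover (fun x => (Uc x : Set (𝔛.X 0)))
    (fun x => (Uc x).2) fun x _ => Set.mem_iUnion.2 ⟨x, hxU x⟩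
  obtain ⟨j₁, hj₁⟩ := IsFiltered.sup_objs_exists (tc.image j₀)
  let ι := {x // x ∈ tc}
  let U : ι → (𝔛.X 0).Opens := fun i => Uc i.1
  let n : ι → ℕ := fun i => n₀ i.1
  let s : ∀ i : ι, Fin (n i) → Sec C (U i) := fun i => s₀ i.1
  have hs : ∀ i : ι, IsGen C (s i) := fun i => hs₀ i.1
  have hcov : ∀ x : 𝔛.X 0, ∃ i : ι, x ∈ U i := fun x => by
    obtain ⟨i, hi, hxi⟩ := Set.mem_iUnion₂.1 (htc (Set.mem_univ x))
    exact ⟨⟨i, hi⟩, hxi⟩
  let b : ∀ i : ι, Fin (n i) → Sec (K.obj j₁) (U i) := fun i l =>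
    appL (K.map (hj₁ (Finset.mem_image_of_mem j₀ i.2)).some) (U i) (b₀ i.1 l)
  have hb : ∀ i l, appL (c.ι.app j₁) (U i) (b i l) = appL f (U i) (s i l) := fun i l => by
    simp only [b, s]
    rw [← appL_comp, c.w]
    exact hb₀ i.1 l
  -- relations and compatibilities at one later stage
  choose m r hr using fun i : ι =>
    (isPC_of_isCohF h𝔛 hC).exists_isRel h𝔛 (hUc i.1) (s i)
  have hrel : ∀ p : (Σ i : ι, Fin (m i)), ∃ q : Under j₁, ∀ x ∈ (U p.1 : Set (𝔛.X 0)),
      ∃ (W : (𝔛.X 0).Opens) (hW : W ≤ U p.1), x ∈ W ∧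
        appL (K.map q.hom) W (res _ hW (comb (b p.1) le_rfl (r p.1 p.2))) = 0 := fun ⟨i, l⟩ => by
    refine exists_stage (hUc i.1).isCompact _ (fun {q q'} e x ⟨W, hW, hxW, hW0⟩ => ⟨W, hW, hxW, by
      rw [← Under.w e, K.map_comp, appL_comp, hW0, map_zero]⟩) fun x hx => ?_
    have h0 : appL (c.ι.app j₁) (U i) (comb (b i) le_rfl (r i l)) = 0 := by
      rw [appL_comb]
      simp only [hb]
      rw [← appL_comb, (hr i).rel, map_zero]
    obtain ⟨W, hW, k, g, hxW, hg⟩ := exists_eq_zero_stage hc _ h0 hx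
    exact ⟨W, Under.mk g, hxW, fun y _ hy => ⟨W, hW, hy, hg⟩⟩
  have hover : ∀ p : (Σ i : ι, Fin (n i)) × ι, ∃ q : Under j₁,
      ∀ x ∈ ((U p.1.1 ⊓ U p.2 : (𝔛.X 0).Opens) : Set (𝔛.X 0)),
        ∃ (W : (𝔛.X 0).Opens) (hW : W ≤ U p.1.1 ⊓ U p.2) (a : Fin (n p.2) → Ring (𝔛.Osh h) W), x ∈ W ∧
          comb (s p.2) (hW.trans inf_le_right) a = res C (hW.trans inf_le_left) (s p.1.1 p.1.2) ∧
          appL (K.map q.hom) W (res _ (hW.trans inf_le_left) (b p.1.1 p.1.2) -
            comb (b p.2) (hW.trans inf_le_right) a) = 0 := fun ⟨⟨i, l⟩, i'⟩ => by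
    refine exists_stage (NoetherianSpace.isCompact _) _
      (fun {q q'} e x ⟨W, hW, a, hxW, ha, hW0⟩ => ⟨W, hW, a, hxW, ha, by
        rw [← Under.w e, K.map_comp, appL_comp, hW0, map_zero]⟩) fun x hx => ?_
    obtain ⟨W, hW, a, hxW, ha⟩ := hs i' (U i ⊓ U i') inf_le_right (res C inf_le_left (s i l)) x hx
    rw [res_res] at ha
    have h0 : appL (c.ι.app j₁) W (res _ (hW.trans inf_le_left) (b i l) -
        comb (b i') (hW.trans inf_le_right) a) = 0 := by
      rw [map_sub, ← res_appL, hb, appL_comb, sub_eq_zero]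
      simp only [hb]
      rw [← appL_comb, ha, res_appL]
    obtain ⟨W', hW', k, g, hxW', hg⟩ := exists_eq_zero_stage hc _ h0 hxW
    refine ⟨W', Under.mk g, hxW', fun y _ hy => ⟨W', hW'.trans hW, rv _ hW' a, hy, ?_, ?_⟩⟩
    · rw [comb_rv (s i') (hW.trans inf_le_right) hW', ha, res_res]
    · rw [map_sub, res_res, ← comb_rv (b i') (hW.trans inf_le_right) hW'] at hg
      exact hg
  choose q₁ hq₁ using hrel
  choose q₂ hq₂ using hover
  obtain ⟨S, hS⟩ := IsFiltered.sup_objs_exists (insert (Under.mk (𝟙 j₁))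
    (Finset.univ.image q₁ ∪ Finset.univ.image q₂))
  let v : ∀ i : ι, Fin (n i) → Sec (K.obj S.right) (U i) := fun i l => appL (K.map S.hom) (U i) (b i l)
  have hv₁ : ∀ i l, comb (v i) le_rfl (r i l) = 0 := fun i l => eq_zero_of_locally fun x hx => by
    obtain ⟨W, hW, hxW, hW0⟩ := hq₁ ⟨i, l⟩ x hx
    refine ⟨W, hW, hxW, ?_⟩
    have e := (hS (Finset.mem_insert_of_mem (Finset.mem_union_left _
      (Finset.mem_image_of_mem q₁ (Finset.mem_univ ⟨i, l⟩))))).some
    rw [← appL_comb, res_appL, ← Under.w e, K.map_comp, appL_comp]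
    exact (congrArg _ hW0).trans (map_zero _)
  -- the graph
  let M₂ := C ⊞ K.obj S.right
  let g : ∀ i : ι, Fin (n i) → Sec M₂ (U i) := fun i l =>
    appL (biprod.inl : C ⟶ M₂) (U i) (s i l) + appL (biprod.inr : K.obj S.right ⟶ M₂) (U i) (v i l)
  have hgc : ∀ i (W : (𝔛.X 0).Opens) (hW : W ≤ U i) (a : Fin (n i) → Ring (𝔛.Osh h) W),
      comb (g i) hW a = appL (biprod.inl : C ⟶ M₂) W (comb (s i) hW a) +
        appL (biprod.inr : K.obj S.right ⟶ M₂) W (comb (v i) hW a) := fun i W hW a => by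
    simp only [comb, g, map_sum, map_smul, map_add, smul_add, Finset.sum_add_distrib, res_appL]
  have hfst : ∀ i (W : (𝔛.X 0).Opens) (hW : W ≤ U i) (a : Fin (n i) → Ring (𝔛.Osh h) W),
      appL (biprod.fst : M₂ ⟶ C) W (comb (g i) hW a) = comb (s i) hW a := fun i W hW a => by
    rw [hgc, map_add, ← appL_comp, ← appL_comp, biprod.inl_fst, biprod.inr_fst, appL_id, appL_zero,
      add_zero]
  have hsnd : ∀ i (W : (𝔛.X 0).Opens) (hW : W ≤ U i) (a : Fin (n i) → Ring (𝔛.Osh h) W),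
      appL (biprod.snd : M₂ ⟶ K.obj S.right) W (comb (g i) hW a) = comb (v i) hW a := fun i W hW a => by
    rw [hgc, map_add, ← appL_comp, ← appL_comp, biprod.inl_snd, biprod.inr_snd, appL_id, appL_zero,
      zero_add]
  have hg : ∀ i l, g i l ∈ (genSub U g).mem (U i) := fun i l i' => GenIn.of_locally fun x hx => by
    obtain ⟨W, hW, a, hxW, ha, hW0⟩ := hq₂ (⟨i, l⟩, i') x hx
    refine ⟨W, hW, hxW, fun y hy => ⟨W, le_rfl, a, hy, ?_⟩⟩
    have e := (hS (Finset.mem_insert_of_mem (Finset.mem_union_right _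
      (Finset.mem_image_of_mem q₂ (Finset.mem_univ (⟨i, l⟩, i')))))).some
    have h1 : appL (K.map S.hom) W (res _ (hW.trans inf_le_left) (b i l) -
        comb (b i') (hW.trans inf_le_right) a) = 0 := by
      rw [← Under.w e, K.map_comp, appL_comp]
      exact (congrArg _ hW0).trans (map_zero _)
    rw [map_sub, sub_eq_zero, appL_comb, ← res_appL] at h1
    rw [res_refl, res_res, hgc, ha]
    simp only [g, map_add, res_appL]
    exact congrArg (_ + appL (biprod.inr : K.obj S.right ⟶ M₂) W ·) h1.symm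
  let G := (genSub U g).toMod
  let p : G ⟶ C := (genSub U g).ι ≫ biprod.fst
  have hloc : ∀ (V : (𝔛.X 0).Opens) (y : Sec G V), ∀ x ∈ V, ∃ (W : (𝔛.X 0).Opens) (hW : W ≤ V) (i : ι)
      (hWi : W ≤ U i) (a : Fin (n i) → Ring (𝔛.Osh h) W),
      x ∈ W ∧ appL (genSub U g).ι W (res G hW y) = comb (g i) hWi a := fun V y x hx => by
    obtain ⟨i, hi⟩ := hcov x
    obtain ⟨W, hW, a, hxW, ha⟩ := y.2 i x ⟨hx, hi⟩
    refine ⟨W, hW.trans inf_le_left, i, hW.trans inf_le_right, a, hxW, ?_⟩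
    rw [ha, res_res, ← res_appL]
    rfl
  have : Mono p := mono_of_injective p fun V => (injective_iff_map_eq_zero _).2 fun y hy =>
    eq_zero_of_locally fun x hx => by
      obtain ⟨W, hW, i, hWi, a, hxW, ha⟩ := hloc V y x hx
      have h2 : comb (s i) hWi a = 0 := by
        rw [← hfst, ← ha, ← appL_comp, ← res_appL, hy, map_zero]
      obtain ⟨W', hW', hxW', hmem⟩ := (hr i).exact W hWi a h2 x hxW
      refine ⟨W', hW'.trans hW, hxW', injective_of_mono (genSub U g).ι W' ?_⟩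
      rw [← res_res hW hW', ← res_appL, ha, ← comb_rv (g i) hWi hW', map_zero, hgc]
      rw [comb_eq_zero_of_mem_spanV _ (hr i).rel (hW'.trans hWi) hmem,
        comb_eq_zero_of_mem_spanV _ (hv₁ i) (hW'.trans hWi) hmem, map_zero, map_zero, add_zero]
  have : Epi p := epi_of_locLift p fun V y x hx => by
    obtain ⟨i, hi⟩ := hcov x
    obtain ⟨W, hW, a, hxW, ha⟩ := hs i (V ⊓ U i) inf_le_right (res C inf_le_left y) x ⟨hx, hi⟩
    refine ⟨W, hW.trans inf_le_left, comb (fun l => (⟨g i l, hg i l⟩ : Sec G (U i))) (hW.trans inf_le_right) a,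
      hxW, ?_⟩
    rw [appL_comb, ← res_res inf_le_left hW, ← ha]
    refine congrArg (fun w => comb w (hW.trans inf_le_right) a) (funext fun l => ?_)
    have h3 := hfst i (U i) le_rfl (delta l)
    rw [comb_delta, comb_delta, res_refl, res_refl] at h3
    rw [appL_comp]
    exact h3
  have : IsIso p := isIso_of_mono_of_epi p
  refine ⟨S.right, inv p ≫ (genSub U g).ι ≫ biprod.snd, ?_⟩
  have key : (genSub U g).ι ≫ biprod.snd ≫ c.ι.app S.right = p ≫ f := hom_ext fun V y =>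
    eq_of_locally fun x hx => by
      obtain ⟨W, hW, i, hWi, a, hxW, ha⟩ := hloc V y x hx
      refine ⟨W, hW, hxW, ?_⟩
      simp only [p, res_appL, appL_comp]
      rw [ha, hsnd, hfst, appL_comb, appL_comb]
      refine congrArg (fun w => comb w hWi a) (funext fun l => ?_)
      simp only [v]
      rw [← appL_comp, c.w]
      exact hb i l
  rw [Category.assoc, Category.assoc, key, IsIso.inv_hom_id_assoc]

end Groth.Agent.FTors52
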