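import Groth.Agent.FTors52.CechTower
import Groth.Agent.FTors52.FiltCol
import Groth.Agent.QCoh.CechStd

/-!
# Filtered colimits of coherent modules are Cech acyclic on affine opens of a formal scheme
-/

set_option autoImplicit false

universe u

open CategoryTheory CategoryTheory.Limits AlgebraicGeometry Opposite TopologicalSpace

namespace Groth.Agent.FTors52

open FMod90

variable {𝔛 : FSch.Sys.{u}} {h : 𝔛.IsFormal}

/-- The underlying abelian sheaf of a module. -/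
noncomputable abbrev abF (M : FSch.ModF 𝔛 h) :
    TopCat.Sheaf AddCommGrpCat.{u} (𝔛.X 0).toPresheafedSpace.carrier := ModSite.toAb M

variable (h) in
/-- The sections of a module on a level, on opens of the common space. -/
noncomputable abbrev lvlPre (k : ℕ) (M : (𝔛.X k).Modules) :
    TopCat.Presheaf AddCommGrpCat.{u} (𝔛.X 0).toPresheafedSpace.carrier :=
  (Opens.map (𝔛.gInv h k)).op ⋙ M.presheaf

variable (𝔐 : FSch.ModSys 𝔛)

variable (h) in
/-- The projection to a level. -/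
noncomputable def πLvl (k : ℕ) : (abF (𝔐.realMod h)).presheaf ⟶ lvlPre h k (𝔐.F k) where
  app U := AddCommGrpCat.ofHom (rproj h U.unop 𝔐.F 𝔐.toPush k)
  naturality U V i := by
    ext s
    exact rproj_res h U.unop 𝔐.F 𝔐.toPush (leOfHom i.unop) k s

variable (h) in
/-- The transition between the levels. -/
noncomputable def tLvl (k : ℕ) : lvlPre h (k + 1) (𝔐.F (k + 1)) ⟶ lvlPre h k (𝔐.F k) where
  app U := AddCommGrpCat.ofHom (τ h U.unop 𝔐.F 𝔐.toPush k)
  naturality U V i := by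
    ext s
    exact (τ_naturality h U.unop 𝔐.F 𝔐.toPush (leOfHom i.unop) k s)

/-- The realisation of a coherent system is acyclic for standard coverings of affine opens. -/
theorem acyclic_realMod (h𝔛 : 𝔛.IsLocNoethFormal) (h𝔐 : 𝔐.IsCoh) :
    (QCoh.stdCovers (𝔛.X 0)).Acyclic (abF (𝔐.realMod h)) := by
  intro V hV ι U hU
  obtain ⟨_, _, f, hf, hfU⟩ := hU
  have hV' : IsAffineOpen V := hV
  have hinter : ∀ {q : ℕ} (σ : Fin (q + 1) → ι), IsAffineOpen (⨅ a, U (σ a) : (𝔛.X 0).Opens) :=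
    fun σ => (QCoh.stdCovers (𝔛.X 0)).inter ⟨hV', inferInstance, f, hf, hfU⟩ σ
  have hUV : ∀ i, U i ≤ V := fun i => hfU i ▸ (𝔛.X 0).basicOpen_le (f i)
  have hcov : V ≤ ⨆ i, U i := (QCoh.stdCovers (𝔛.X 0)).covers ⟨hV', inferInstance, f, hf, hfU⟩
  refine acyclic_of_tower (fun k => πLvl h 𝔐 k) (fun k => tLvl h 𝔐 k)
    (fun k => by ext W s; exact τ_rproj h W 𝔐.F 𝔐.toPush k s)
    (fun W s s' hss => lim_ext h W 𝔐.F 𝔐.toPush hss)
    (fun W y hy => exists_lim h W 𝔐.F 𝔐.toPush y hy)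
    (fun k => ?_) (fun k q σ => τ_surjective h (hinter σ) 𝔐 h𝔐 k) fun k z hzn hz => ?_
  · choose g hg using fun i => pr_surjective h hV' 0
      ((𝔛.X 0).presheaf.map (homOfLE (lvU_zero h V).le).op (f i))
    have hUi : ∀ i, U i = Dop h (g i) := fun i => by
      rw [hfU i, Dop, hg i]
      refine Eq.symm ((Scheme.basicOpen_res _ _ _).trans (inf_eq_right.2 ?_))
      exact ((𝔛.X 0).basicOpen_le _).trans (lvU_zero h V).ge
    refine acyclic_transfer (𝔛.gInv h k) (𝔛.toX k).base (FSch.Sys.toX_base_gInv 𝔛 h k)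
      (FSch.Sys.gInv_toX_base 𝔛 h k) _ U ?_
    have e : (fun i => (Opens.map (𝔛.gInv h k)).obj (U i)) =
        fun i => (𝔛.X k).basicOpen (pr h V k (g i)) := funext fun i => by
      rw [hUi i]
      exact lvU_Dop h (g i) k
    rw [e]
    refine QCoh.acyclic_std (h𝔐 k).1 (isAffineOpen_lvU h hV' k) (fun i => pr h V k (g i)) ?_
    refine ((isAffineOpen_lvU h hV' k).self_le_iSup_basicOpen_iff).1 fun x hx => ?_
    obtain ⟨i, hi⟩ := Opens.mem_iSup.1 (hcov (show (𝔛.gInv h k) x ∈ V from hx))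
    rw [hUi i] at hi
    refine Opens.mem_iSup.2 ⟨⟨_, i, rfl⟩, ?_⟩
    rw [← lvU_Dop]
    exact hi
  · -- a one-cocycle is the family of restrictions of a section over `V`, which lifts
    let P : ∀ k, TopCat.Presheaf AddCommGrpCat.{u} _ := fun k => lvlPre h k (𝔐.F k)
    let F : TopCat.Sheaf AddCommGrpCat.{u} (𝔛.X 0).toPresheafedSpace.carrier :=
      (TopCat.Sheaf.pushforward AddCommGrpCat.{u} (𝔛.gInv h k)).obj (QCoh.abSheaf (𝔐.F k))
    let t : ∀ i, F.presheaf.obj (op (U i)) := fun i => z (fun _ => i) ⟨U i, fun _ => le_rfl⟩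
    have hcomm : ∀ i j, (P k).map (homOfLE (inf_le_left : U i ⊓ U j ≤ U i)).op (t i) =
        (P k).map (homOfLE (inf_le_right : U i ⊓ U j ≤ U j)).op (t j) := fun i j => by
      refine (hzn (fun _ => i) (U i) (U i ⊓ U j) (fun _ => le_rfl) (fun _ => inf_le_left) _).trans
        (Eq.trans ?_ (hzn (fun _ => j) (U j) (U i ⊓ U j) (fun _ => le_rfl) (fun _ => inf_le_right) _).symm)
      have e := congrFun (congrFun hz (Fin.cons i fun _ => j))
        ⟨U i ⊓ U j, Fin.cases inf_le_left fun _ => inf_le_right⟩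
      rw [QCoh.Ab.d_cons z i (fun _ => j) (U i ⊓ U j) inf_le_left fun _ => inf_le_right] at e
      simp only [Pi.zero_apply, sub_eq_zero] at e
      rw [show (∑ a : Fin (0 + 1), (-1 : ℤ) ^ (a : ℕ) • z (Fin.cons i fun _ => j)
        ⟨U i ⊓ U j, Fin.cases inf_le_left fun _ => inf_le_right⟩) =
          z (Fin.cons i fun _ => j) ⟨U i ⊓ U j, Fin.cases inf_le_left fun _ => inf_le_right⟩ by
        simp [Fin.sum_univ_one]] at e
      refine Eq.trans ?_ e.symm
      have : ∀ (τ₁ τ₂ : Fin 1 → ι) (_ : τ₁ = τ₂) (h₁ : QCoh.Ab.Le U τ₁ (U i ⊓ U j))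
          (h₂ : QCoh.Ab.Le U τ₂ (U i ⊓ U j)), z τ₁ ⟨_, h₁⟩ = z τ₂ ⟨_, h₂⟩ := by
        rintro _ _ rfl _ _
        rfl
      exact this _ _ (funext fun b => by rw [Subsingleton.elim b 0]; rfl) _ _
    obtain ⟨s, hs, -⟩ := TopCat.Sheaf.existsUnique_gluing' F U V (fun i => homOfLE (hUV i)) hcov t hcomm
    obtain ⟨s', hs'⟩ := τ_surjective h hV' 𝔐 h𝔐 k s
    refine ⟨fun σ W => (P (k + 1)).map (homOfLE ((W.2 0).trans (hUV _))).op s',
      fun σ W W' hW hW' i => congr($(((P (k + 1)).map_comp _ _).symm) s'), ?_, ?_⟩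
    · funext σ W
      simp [QCoh.Ab.d, Fin.sum_univ_two]
    · funext σ W
      refine (congr($((tLvl h 𝔐 k).naturality (homOfLE ((W.2 0).trans (hUV _))).op) s')).trans ?_
      refine (congrArg _ hs').trans ?_
      have hσ : σ = fun _ => σ 0 := funext fun a => by rw [Subsingleton.elim a 0]
      have h0 := hzn (fun _ => σ 0) (U (σ 0)) W.1 (fun _ => le_rfl) (fun _ => W.2 0) (homOfLE (W.2 0))
      refine Eq.trans ?_ (h0.trans ?_)
      · change _ = (P k).map _ (t (σ 0))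
        rw [← hs (σ 0)]
        exact congr($((P k).map_comp (homOfLE (hUV (σ 0))).op (homOfLE (W.2 0)).op) s)
      · have : ∀ (τ₁ τ₂ : Fin 1 → ι) (_ : τ₁ = τ₂) (h₁ : QCoh.Ab.Le U τ₁ W.1)
            (h₂ : QCoh.Ab.Le U τ₂ W.1), z τ₁ ⟨_, h₁⟩ = z τ₂ ⟨_, h₂⟩ := by
          rintro _ _ rfl _ _
          rfl
        exact this _ _ hσ.symm _ _

/-- Coherent modules are acyclic for standard coverings of affine opens. -/
theorem acyclic_of_isCohF (h𝔛 : 𝔛.IsLocNoethFormal) {M : FSch.ModF 𝔛 h}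
    (hM : FSch.IsCohF 𝔛 h M) : (QCoh.stdCovers (𝔛.X 0)).Acyclic (abF M) := by
  obtain ⟨𝔑, h𝔑, ⟨e⟩⟩ := exists_iso_realMod h𝔛 M hM
  intro V hV ι U hU
  let F := SheafOfModules.toSheaf (ModSite.ringSh (𝔛.Osh h))
  refine QCoh.Ab.Acyclic.of_retract (acyclic_realMod 𝔑 h𝔛 h𝔑 V hV U hU) (F.map e.hom).hom
    (F.map e.inv).hom ?_
  exact congrArg (fun φ => φ.hom) ((F.map_comp e.hom e.inv).symm.trans
    ((congrArg F.map e.hom_inv_id).trans (F.map_id _)))

variable {M : FSch.ModF 𝔛 h} (h𝔛 : 𝔛.IsLocNoethFormal)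

include h𝔛

/-- Finitely many sections on affine opens of a directed union come from one member. -/
theorem exists_stage_sections {J : Type u} [SmallCategory J] [IsFiltered J]
    (pres : ColimitPresentation J M) (hmono : ∀ j, Mono (pres.ι.app j)) {κ : Type u} [Finite κ]
    (W : κ → (𝔛.X 0).Opens) (hW : ∀ a, IsAffineOpen (W a)) (y : ∀ a, Sec M (W a)) :
    ∃ (j : J) (y' : ∀ a, Sec (pres.diag.obj j) (W a)),
      ∀ a, appL (pres.ι.app j) (W a) (y' a) = y a := by
  classical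
  cases nonempty_fintype κ
  have key : ∀ a, ∃ (j : J), ∀ x ∈ (W a : Set (𝔛.X 0)), ∃ (V : (𝔛.X 0).Opens) (hV : V ≤ W a)
      (s : Sec (pres.diag.obj j) V), x ∈ V ∧ appL (pres.ι.app j) V s = res M hV (y a) := fun a => by
    refine exists_stage (hW a).isCompact _ (fun {j j'} g x ⟨V, hV, s, hxV, hs⟩ => ?_) fun x hx => ?_
    · refine ⟨V, hV, appL (pres.diag.map g) V s, hxV, ?_⟩
      rw [← appL_comp, pres.w]
      exact hs
    · obtain ⟨V, hV, k, σ, z, hxV, hz⟩ := exists_sum_of_isColimit pres.isColimit (y a) hx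
      obtain ⟨S, hS⟩ := IsFiltered.sup_objs_exists (Finset.univ.image σ)
      refine ⟨V, S, hxV, fun x' _ hx' => ⟨V, hV, ∑ q, appL (pres.diag.map
        (hS (Finset.mem_image_of_mem σ (Finset.mem_univ q))).some) V (z q), hx', ?_⟩⟩
      refine (map_sum _ _ _).trans (Eq.trans ?_ hz.symm)
      refine Finset.sum_congr rfl fun q _ => ?_
      rw [← appL_comp, pres.w]

  choose j hj using key
  obtain ⟨S, hS⟩ := IsFiltered.sup_objs_exists (Finset.univ.image j)
  have := hmono S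
  choose y' hy' using fun a => exists_lift_of_mono (pres.ι.app S) (y := y a) fun x hx => by
    obtain ⟨V, hV, s, hxV, hs⟩ := hj a x hx
    refine ⟨V, hV, appL (pres.diag.map (hS (Finset.mem_image_of_mem j (Finset.mem_univ a))).some) V s,
      hxV, ?_⟩
    rw [← appL_comp, pres.w]
    exact hs
  exact ⟨S, y', hy'⟩

/-- Filtered colimits of coherent modules are acyclic for standard coverings of affine opens. -/
theorem acyclic_of_pc_genC (hM : PC M) (hgen : GenC M) :
    (QCoh.stdCovers (𝔛.X 0)).Acyclic (abF M) := by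
  intro V hV ι U hU p c hc hd
  have := hU.2.1
  obtain ⟨J, _, _, pres, hP, hmono⟩ := exists_presentation_of_pc_genC h𝔛 hM hgen
  obtain ⟨j, y, hy⟩ := exists_stage_sections h𝔛 pres hmono (fun σ : Fin (p + 2) → ι => ⨅ a, U (σ a))
    (fun σ => (QCoh.stdCovers (𝔛.X 0)).inter hU σ)
    fun σ => c σ ⟨⨅ a, U (σ a), fun a => iInf_le _ a⟩
  have := hmono j
  let φ : (abF (pres.diag.obj j)).presheaf ⟶ (abF M).presheaf :=
    ((SheafOfModules.toSheaf (ModSite.ringSh (𝔛.Osh h))).map (pres.ι.app j)).hom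
  let c' : QCoh.Ab.Cochain (abF (pres.diag.obj j)).presheaf U (p + 2) := fun σ W =>
    res (pres.diag.obj j) (le_iInf W.2) (y σ)
  have hc' : QCoh.Ab.IsNatural c' := fun σ W W' hW hW' i =>
    res_res (le_iInf hW) (leOfHom i) (y σ)
  have hpush : QCoh.Ab.push φ c' = c := funext₂ fun σ W => by
    refine Eq.trans ?_ (hc σ _ W.1 (fun a => iInf_le _ a) W.2 (homOfLE (le_iInf W.2)))
    refine (res_appL (pres.ι.app j) (le_iInf W.2) (y σ)).symm.trans ?_
    exact congrArg (res M (le_iInf W.2)) (hy σ)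
  have hd' : QCoh.Ab.d c' = 0 := funext₂ fun σ W => by
    have h1 := congrFun (congrFun ((QCoh.Ab.d_push φ c').symm.trans
      ((congrArg QCoh.Ab.d hpush).trans hd)) σ) W
    exact injective_of_mono (pres.ι.app j) W.1 (h1.trans (map_zero _).symm)
  obtain ⟨b, hbn, hb⟩ := acyclic_of_isCohF h𝔛 (hP j) V hV U hU p c' hc' hd'
  exact ⟨QCoh.Ab.push φ b, QCoh.Ab.push_natural φ hbn, by rw [QCoh.Ab.d_push, hb, hpush]⟩

/-- Higher cohomology on an affine formal scheme vanishes. -/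
theorem subsingleton_HF_of_isAffine [IsAffine (𝔛.X 0)] (hM : PC M) (hgen : GenC M) (n : ℕ) :
    Subsingleton (FSch.HF 𝔛 h M (n + 1)) :=
  QCoh.Ab.H_subsingleton (QCoh.stdCovers (𝔛.X 0)) (isAffineOpen_top _) (abF M)
    (acyclic_of_pc_genC h𝔛 hM hgen) n

end Groth.Agent.FTors52
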