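import Groth.Agent.FTors52.AffLvl

/-!
# Gluing vectors of functions modulo a finitely generated submodule over an affine formal scheme

For a finite cover of an affine open by basic opens and a finitely generated submodule of a finite
free module: uniqueness and existence of glued vectors, vanishing of first cocycles, and gluing of
submodules.
-/

set_option autoImplicit false

universe u

open CategoryTheory CategoryTheory.Limits AlgebraicGeometry Opposite TopologicalSpace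

namespace Groth.Agent.FTors52

open FMod90

variable {𝔛 : FSch.Sys.{u}} {h : 𝔛.IsFormal} {U V W : (𝔛.X 0).Opens} {p m : ℕ}

theorem Dop_mul_left (f g : Ring (𝔛.Osh h) U) : Dop h (f * g) ≤ Dop h f :=
  (Dop_eq_inter f g).trans_le inf_le_left

theorem Dop_mul_right (f g : Ring (𝔛.Osh h) U) : Dop h (f * g) ≤ Dop h g :=
  (Dop_eq_inter f g).trans_le inf_le_right

theorem Dop_mul_eq (f g : Ring (𝔛.Osh h) U) :
    Dop h (f * g) = Dop h (rres (𝔛.Osh h) (Dop_le h g) f) :=
  (congrArg (Dop h) (mul_comm f g)).trans (Dop_rres_Dop g f)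

theorem spanV_rv (hVU : V ≤ U) (hWV : W ≤ V) (r : Fin m → Fin p → Ring (𝔛.Osh h) U) :
    spanV hWV (fun l => rv _ hVU (r l)) = spanV (hWV.trans hVU) r := by
  simp only [spanV, rv_rv]

section uniform

variable (hU : IsAffineOpen U) {f : Ring (𝔛.Osh h) U} (e : V = Dop h f) (hVU : V ≤ U)

include hU e

theorem exists_den_le (k : ℕ) (y : Fin p → Ring (𝔛.Osh h) V) :
    ∃ N₀, ∀ N, N₀ ≤ N → ∃ b : Fin p → Ring (𝔛.Osh h) U,
      rv _ hVU b - rres (𝔛.Osh h) hVU f ^ N • y ∈ kk h V k p := by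
  obtain ⟨N₀, b, hb⟩ := exists_den hU e hVU k y
  refine ⟨N₀, fun N hN => ⟨f ^ (N - N₀) • b, ?_⟩⟩
  rw [rv_smul, map_pow, ← Nat.sub_add_cancel hN, pow_add, mul_smul, Nat.sub_add_cancel hN, ← smul_sub]
  exact Submodule.smul_mem _ _ hb

theorem exists_num_le (k : ℕ) (r : Fin m → Fin p → Ring (𝔛.Osh h) U) (b : Fin p → Ring (𝔛.Osh h) U)
    (hb : rv _ hVU b ∈ spanV hVU r ⊔ kk h V k p) :
    ∃ N₀, ∀ N, N₀ ≤ N → f ^ N • b ∈ Submodule.span (Ring (𝔛.Osh h) U) (Set.range r) ⊔ kk h U k p := by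
  obtain ⟨N₀, hN₀⟩ := exists_num hU e hVU k r b hb
  refine ⟨N₀, fun N hN => ?_⟩
  rw [← Nat.sub_add_cancel hN, pow_add, mul_smul]
  exact Submodule.smul_mem _ _ hN₀

end uniform

section cover

variable (h𝔛 : 𝔛.IsLocNoethFormal) (hU : IsAffineOpen U) {ι : Type*} [Finite ι]
  (f : ι → Ring (𝔛.Osh h) U) (hf : U ≤ ⨆ i, Dop h (f i))
  (r : Fin m → Fin p → Ring (𝔛.Osh h) U)

include h𝔛 hU hf

/-- Powers of covering functions admit a partition of unity. -/
theorem exists_partition (N : ℕ) :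
    ∃ (_ : Fintype ι) (c : ι → Ring (𝔛.Osh h) U), ∑ i, c i * f i ^ N = 1 := by
  cases nonempty_fintype ι
  have h1 : (1 : Ring (𝔛.Osh h) U) ∈ Ideal.span (Set.range fun i => f i ^ N) := by
    rw [span_pow_eq_top h𝔛 hU f hf]
    trivial
  obtain ⟨c, hc⟩ := (Submodule.mem_span_range_iff_exists_fun _).1 h1
  exact ⟨inferInstance, c, hc⟩

theorem mem_sup_of_cover {k : ℕ} {a : Fin p → Ring (𝔛.Osh h) U}
    (ha : ∀ i, rv _ (Dop_le h (f i)) a ∈ spanV (Dop_le h (f i)) r ⊔ kk h _ k p) :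
    a ∈ Submodule.span (Ring (𝔛.Osh h) U) (Set.range r) ⊔ kk h U k p :=
  mem_of_pow_smul_mem h𝔛 hU f hf fun i => exists_num hU rfl (Dop_le h (f i)) k r a (ha i)

/-- Uniqueness of glued vectors. -/
theorem mem_span_of_cover {a : Fin p → Ring (𝔛.Osh h) U}
    (ha : ∀ i, rv _ (Dop_le h (f i)) a ∈ spanV (Dop_le h (f i)) r) :
    a ∈ Submodule.span (Ring (𝔛.Osh h) U) (Set.range r) :=
  mem_span_of_forall_sup h𝔛 hU r fun _ =>
    mem_sup_of_cover h𝔛 hU f hf r fun i => Submodule.mem_sup_left (ha i)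

theorem exists_glue_lvl (k : ℕ) (a : ∀ i, Fin p → Ring (𝔛.Osh h) (Dop h (f i)))
    (ha : ∀ i j, rv _ (Dop_mul_left (f i) (f j)) (a i) - rv _ (Dop_mul_right (f i) (f j)) (a j) ∈
      spanV (Dop_le h (f i * f j)) r ⊔ kk h _ k p) :
    ∃ b, ∀ i, rv _ (Dop_le h (f i)) b - a i ∈ spanV (Dop_le h (f i)) r ⊔ kk h _ k p := by
  choose M hM using fun i => exists_den_le hU rfl (Dop_le h (f i)) k (a i)
  obtain ⟨M₀, hM₀⟩ := Finite.exists_le M
  choose b hb using fun i => hM i M₀ (hM₀ i)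
  let x : ∀ _i j, Fin p → Ring (𝔛.Osh h) (Dop h (f j)) := fun i j =>
    rv _ (Dop_le h (f j)) (b i) - rres _ (Dop_le h (f j)) (f i) ^ M₀ • a j
  have hx : ∀ i j, rv _ (Dop_mul_right (f i) (f j)) (x i j) ∈
      spanV (Dop_mul_right (f i) (f j)) (fun l => rv _ (Dop_le h (f j)) (r l)) ⊔ kk h _ k p := by
    intro i j
    rw [spanV_rv]
    have e1 : rv _ (Dop_mul_right (f i) (f j)) (x i j) =
        rv _ (Dop_mul_left (f i) (f j))
            (rv _ (Dop_le h (f i)) (b i) - rres _ (Dop_le h (f i)) (f i) ^ M₀ • a i) +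
          rres _ (Dop_le h (f i * f j)) (f i) ^ M₀ •
            (rv _ (Dop_mul_left (f i) (f j)) (a i) - rv _ (Dop_mul_right (f i) (f j)) (a j)) := by
      simp only [x, map_sub, rv_smul, map_pow, rv_rv, rres_rres, smul_sub]
      abel
    rw [e1]
    exact Submodule.add_mem _ (Submodule.mem_sup_right (rv_mem_kk _ (hb i)))
      (Submodule.smul_mem _ _ (ha i j))
  choose E hE using fun i j => exists_num_le (isAffineOpen_Dop h hU (f j)) (Dop_mul_eq (f i) (f j))
    (Dop_mul_right (f i) (f j)) k _ (x i j) (hx i j)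
  obtain ⟨E₀, hE₀⟩ := Finite.exists_le fun ij : ι × ι => E ij.1 ij.2
  obtain ⟨_, c, hc⟩ := exists_partition h𝔛 hU f hf (E₀ + M₀)
  refine ⟨∑ i, (c i * f i ^ E₀) • b i, fun j => ?_⟩
  have e2 : rv _ (Dop_le h (f j)) (∑ i, (c i * f i ^ E₀) • b i) - a j =
      ∑ i, rres _ (Dop_le h (f j)) (c i) • rres _ (Dop_le h (f j)) (f i) ^ E₀ • x i j := by
    have h1 : a j = ∑ i, rres _ (Dop_le h (f j)) (c i * f i ^ (E₀ + M₀)) • a j := by
      rw [← Finset.sum_smul, ← map_sum, hc, map_one, one_smul]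
    rw [map_sum]
    conv_lhs => rw [h1, ← Finset.sum_sub_distrib]
    refine Finset.sum_congr rfl fun i _ => ?_
    simp only [x, rv_smul, smul_sub, smul_smul, map_mul, map_pow, pow_add, mul_assoc]
  rw [e2]
  refine Submodule.sum_mem _ fun i _ => Submodule.smul_mem _ _ ?_
  exact hE i j E₀ (hE₀ (i, j))

/-- Existence of glued vectors. -/
theorem exists_glue_span (a : ∀ i, Fin p → Ring (𝔛.Osh h) (Dop h (f i)))
    (ha : ∀ i j, rv _ (Dop_mul_left (f i) (f j)) (a i) - rv _ (Dop_mul_right (f i) (f j)) (a j) ∈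
      spanV (Dop_le h (f i * f j)) r) :
    ∃ b, ∀ i, rv _ (Dop_le h (f i)) b - a i ∈ spanV (Dop_le h (f i)) r := by
  have hlvl := fun k => exists_glue_lvl h𝔛 hU f hf r k a fun i j => Submodule.mem_sup_left (ha i j)
  obtain ⟨b, hb⟩ := exists_level_approx h𝔛 (fun _ : PUnit.{1} => U) (fun _ => hU)
    (fun k x => ∀ i, rv _ (Dop_le h (f i)) (x ⟨⟩) - a i ∈ spanV (Dop_le h (f i)) r ⊔ kk h _ k p)
    ⟨fun _ => (hlvl 0).choose, (hlvl 0).choose_spec⟩ fun k x hx => by
      obtain ⟨y, hy⟩ := hlvl (k + 1)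
      have hc : y - x ⟨⟩ ∈ Submodule.span (Ring (𝔛.Osh h) U) (Set.range r) ⊔ kk h U k p :=
        mem_sup_of_cover h𝔛 hU f hf r fun i => by
          have e1 : rv _ (Dop_le h (f i)) (y - x ⟨⟩) =
              (rv _ (Dop_le h (f i)) y - a i) - (rv _ (Dop_le h (f i)) (x ⟨⟩) - a i) := by
            rw [map_sub]
            abel
          rw [e1]
          exact Submodule.sub_mem _ (sup_le_sup_left (kk_succ_le _ k p) _ (hy i)) (hx i)
      obtain ⟨s, hs, z, hz, hsz⟩ := Submodule.mem_sup.1 hc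
      refine ⟨fun _ => y - s, fun i => ?_, fun _ => ?_⟩
      · have e2 : rv _ (Dop_le h (f i)) (y - s) - a i =
            (rv _ (Dop_le h (f i)) y - a i) - rv _ (Dop_le h (f i)) s := by
          rw [map_sub]
          abel
        rw [e2]
        exact Submodule.sub_mem _ (hy i) (Submodule.mem_sup_left (rv_mem_of_mem_span _ hs))
      · rw [show y - s - x ⟨⟩ = z by rw [sub_right_comm, ← hsz, add_sub_cancel_left]]
        exact hz
  refine ⟨b ⟨⟩, fun i => mem_span_of_forall_sup h𝔛 (isAffineOpen_Dop h hU (f i)) _ fun k => ?_⟩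
  obtain ⟨x, hx, hbx⟩ := hb k
  have e3 : rv _ (Dop_le h (f i)) (b ⟨⟩) - a i =
      (rv _ (Dop_le h (f i)) (x ⟨⟩) - a i) + rv _ (Dop_le h (f i)) (b ⟨⟩ - x ⟨⟩) := by
    rw [map_sub]
    abel
  rw [e3]
  exact Submodule.add_mem _ (hx i) (Submodule.mem_sup_right (rv_mem_kk _ (hbx ⟨⟩)))

theorem Dop_triple (i j l : ι) :
    Dop h (f i * f j * f l) ≤ Dop h (f i * f l) ∧ Dop h (f i * f j * f l) ≤ Dop h (f j * f l) := by
  simp only [Dop_eq_inter]
  exact ⟨inf_le_inf_right _ inf_le_left, inf_le_inf_right _ inf_le_right⟩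

theorem exists_cobound_lvl (k : ℕ) (d : ∀ i j, Fin p → Ring (𝔛.Osh h) (Dop h (f i * f j)))
    (hd : ∀ i j l, rv _ (Dop_mul_left (f i * f j) (f l)) (d i j) +
        rv _ (Dop_triple h𝔛 hU f hf i j l).2 (d j l) - rv _ (Dop_triple h𝔛 hU f hf i j l).1 (d i l) ∈
      spanV (Dop_le h (f i * f j * f l)) r) :
    ∃ e : ∀ i, Fin p → Ring (𝔛.Osh h) (Dop h (f i)), ∀ i j,
      rv _ (Dop_mul_left (f i) (f j)) (e i) - rv _ (Dop_mul_right (f i) (f j)) (e j) - d i j ∈
        spanV (Dop_le h (f i * f j)) r ⊔ kk h _ k p := by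
  choose M hM using fun i l => exists_den_le (isAffineOpen_Dop h hU (f i))
    (Dop_rres_Dop (f i) (f l)) (Dop_mul_left (f i) (f l)) k (d i l)
  obtain ⟨M₀, hM₀⟩ := Finite.exists_le fun il : ι × ι => M il.1 il.2
  choose x hx using fun i l => hM i l M₀ (hM₀ (i, l))
  let z : ∀ i j, ι → Fin p → Ring (𝔛.Osh h) (Dop h (f i * f j)) := fun i j l =>
    rv _ (Dop_mul_left (f i) (f j)) (x i l) - rv _ (Dop_mul_right (f i) (f j)) (x j l) -
      rres _ (Dop_le h (f i * f j)) (f l) ^ M₀ • d i j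
  have hz : ∀ i j l, rv _ (Dop_mul_left (f i * f j) (f l)) (z i j l) ∈
      spanV (Dop_mul_left (f i * f j) (f l)) (fun q => rv _ (Dop_le h (f i * f j)) (r q)) ⊔
        kk h _ k p := by
    intro i j l
    rw [spanV_rv]
    set hT := Dop_triple h𝔛 hU f hf i j l
    have e1 : rv _ (Dop_mul_left (f i * f j) (f l)) (z i j l) =
        rv _ hT.1 (rv _ (Dop_mul_left (f i) (f l)) (x i l) -
            rres _ (Dop_mul_left (f i) (f l)) (rres _ (Dop_le h (f i)) (f l)) ^ M₀ • d i l) -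
          rv _ hT.2 (rv _ (Dop_mul_left (f j) (f l)) (x j l) -
            rres _ (Dop_mul_left (f j) (f l)) (rres _ (Dop_le h (f j)) (f l)) ^ M₀ • d j l) -
          rres _ (Dop_le h (f i * f j * f l)) (f l) ^ M₀ •
            (rv _ (Dop_mul_left (f i * f j) (f l)) (d i j) + rv _ hT.2 (d j l) - rv _ hT.1 (d i l)) := by
      simp only [z, map_sub, rv_smul, map_pow, rv_rv, rres_rres, smul_sub, smul_add]
      abel
    rw [e1]
    exact Submodule.sub_mem _ (Submodule.sub_mem _ (Submodule.mem_sup_right (rv_mem_kk _ (hx i l)))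
      (Submodule.mem_sup_right (rv_mem_kk _ (hx j l))))
      (Submodule.smul_mem _ _ (Submodule.mem_sup_left (hd i j l)))
  choose E hE using fun i j l => exists_num_le (isAffineOpen_Dop h hU (f i * f j))
    (Dop_rres_Dop (f i * f j) (f l)) (Dop_mul_left (f i * f j) (f l)) k _ (z i j l) (hz i j l)
  obtain ⟨E₀, hE₀⟩ := Finite.exists_le fun ijl : ι × ι × ι => E ijl.1 ijl.2.1 ijl.2.2
  obtain ⟨_, c, hc⟩ := exists_partition h𝔛 hU f hf (E₀ + M₀)
  refine ⟨fun i => ∑ l, rres _ (Dop_le h (f i)) (c l * f l ^ E₀) • x i l, fun i j => ?_⟩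
  have e2 : rv _ (Dop_mul_left (f i) (f j)) (∑ l, rres _ (Dop_le h (f i)) (c l * f l ^ E₀) • x i l) -
      rv _ (Dop_mul_right (f i) (f j)) (∑ l, rres _ (Dop_le h (f j)) (c l * f l ^ E₀) • x j l) - d i j =
      ∑ l, rres _ (Dop_le h (f i * f j)) (c l) •
        rres _ (Dop_le h (f i * f j)) (f l) ^ E₀ • z i j l := by
    have h1 : d i j = ∑ l, rres _ (Dop_le h (f i * f j)) (c l * f l ^ (E₀ + M₀)) • d i j := by
      rw [← Finset.sum_smul, ← map_sum, hc, map_one, one_smul]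
    rw [map_sum, map_sum]
    conv_lhs => rw [h1, ← Finset.sum_sub_distrib, ← Finset.sum_sub_distrib]
    refine Finset.sum_congr rfl fun l _ => ?_
    simp only [z, rv_smul, smul_sub, smul_smul, map_mul, map_pow, pow_add, mul_assoc, rres_rres]
  rw [e2]
  refine Submodule.sum_mem _ fun l _ => Submodule.smul_mem _ _ ?_
  exact hE i j l E₀ (hE₀ (i, j, l))

/-- First cocycles modulo a finitely generated submodule are coboundaries. -/
theorem exists_cobound_span (d : ∀ i j, Fin p → Ring (𝔛.Osh h) (Dop h (f i * f j)))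
    (hd : ∀ i j l, rv _ (Dop_mul_left (f i * f j) (f l)) (d i j) +
        rv _ (Dop_triple h𝔛 hU f hf i j l).2 (d j l) - rv _ (Dop_triple h𝔛 hU f hf i j l).1 (d i l) ∈
      spanV (Dop_le h (f i * f j * f l)) r) :
    ∃ e : ∀ i, Fin p → Ring (𝔛.Osh h) (Dop h (f i)), ∀ i j,
      rv _ (Dop_mul_left (f i) (f j)) (e i) - rv _ (Dop_mul_right (f i) (f j)) (e j) - d i j ∈
        spanV (Dop_le h (f i * f j)) r := by
  have hlvl := fun k => exists_cobound_lvl h𝔛 hU f hf r k d hd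
  obtain ⟨e, he⟩ := exists_level_approx h𝔛 (fun i => Dop h (f i)) (fun i => isAffineOpen_Dop h hU (f i))
    (fun k x => ∀ i j, rv _ (Dop_mul_left (f i) (f j)) (x i) - rv _ (Dop_mul_right (f i) (f j)) (x j) -
      d i j ∈ spanV (Dop_le h (f i * f j)) r ⊔ kk h _ k p) (hlvl 0) fun k x hx => by
      obtain ⟨y, hy⟩ := hlvl (k + 1)
      obtain ⟨b, hb⟩ := exists_glue_lvl h𝔛 hU f hf r k (fun i => y i - x i) fun i j => by
        have e1 : rv _ (Dop_mul_left (f i) (f j)) (y i - x i) -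
            rv _ (Dop_mul_right (f i) (f j)) (y j - x j) =
            (rv _ (Dop_mul_left (f i) (f j)) (y i) - rv _ (Dop_mul_right (f i) (f j)) (y j) - d i j) -
            (rv _ (Dop_mul_left (f i) (f j)) (x i) - rv _ (Dop_mul_right (f i) (f j)) (x j) - d i j) := by
          simp only [map_sub]
          abel
        rw [e1]
        exact Submodule.sub_mem _ (sup_le_sup_left (kk_succ_le _ k p) _ (hy i j)) (hx i j)
      choose s hs z hz hsz using fun i => Submodule.mem_sup.1 (hb i)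
      refine ⟨fun i => y i - rv _ (Dop_le h (f i)) b + s i, fun i j => ?_, fun i => ?_⟩
      · have e2 : rv _ (Dop_mul_left (f i) (f j)) (y i - rv _ (Dop_le h (f i)) b + s i) -
            rv _ (Dop_mul_right (f i) (f j)) (y j - rv _ (Dop_le h (f j)) b + s j) - d i j =
            (rv _ (Dop_mul_left (f i) (f j)) (y i) - rv _ (Dop_mul_right (f i) (f j)) (y j) - d i j) +
            (rv _ (Dop_mul_left (f i) (f j)) (s i) - rv _ (Dop_mul_right (f i) (f j)) (s j)) := by
          simp only [map_sub, map_add, rv_rv]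
          abel
        rw [e2]
        exact Submodule.add_mem _ (hy i j) (Submodule.mem_sup_left (Submodule.sub_mem _
          (rv_mem_spanV _ _ (hs i)) (rv_mem_spanV _ _ (hs j))))
      · rw [show y i - rv _ (Dop_le h (f i)) b + s i - x i = - z i by
          rw [eq_sub_iff_add_eq.mpr ((add_comm _ _).trans (hsz i))]
          abel]
        exact Submodule.neg_mem _ (hz i)
  refine ⟨e, fun i j => mem_span_of_forall_sup h𝔛 (isAffineOpen_Dop h hU (f i * f j)) _ fun k => ?_⟩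
  obtain ⟨x, hx, hex⟩ := he k
  have e3 : rv _ (Dop_mul_left (f i) (f j)) (e i) - rv _ (Dop_mul_right (f i) (f j)) (e j) - d i j =
      (rv _ (Dop_mul_left (f i) (f j)) (x i) - rv _ (Dop_mul_right (f i) (f j)) (x j) - d i j) +
      (rv _ (Dop_mul_left (f i) (f j)) (e i - x i) -
        rv _ (Dop_mul_right (f i) (f j)) (e j - x j)) := by
    simp only [map_sub]
    abel
  rw [e3]
  exact Submodule.add_mem _ (hx i j) (Submodule.mem_sup_right
    (Submodule.sub_mem _ (rv_mem_kk _ (hex i)) (rv_mem_kk _ (hex j))))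

end cover

section sub

variable (h𝔛 : 𝔛.IsLocNoethFormal) (hU : IsAffineOpen U) {ι : Type*} [Finite ι]
  (f : ι → Ring (𝔛.Osh h) U) (hf : U ≤ ⨆ i, Dop h (f i))

omit [Finite ι] in
/-- Vectors over `U` whose restrictions lie in given submodules. -/
noncomputable def comapV
    (S : ∀ i, Submodule (Ring (𝔛.Osh h) (Dop h (f i))) (Fin p → Ring (𝔛.Osh h) (Dop h (f i)))) :
    Submodule (Ring (𝔛.Osh h) U) (Fin p → Ring (𝔛.Osh h) U) where
  carrier := {a | ∀ i, rv _ (Dop_le h (f i)) a ∈ S i}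
  add_mem' {a b} ha hb i := by
    rw [map_add]
    exact Submodule.add_mem _ (ha i) (hb i)
  zero_mem' i := by
    rw [map_zero]
    exact Submodule.zero_mem _
  smul_mem' c a ha i := by
    rw [rv_smul]
    exact Submodule.smul_mem _ _ (ha i)

include h𝔛 hU hf

/-- Finitely generated submodules on basic opens which agree on the intersections come from a
finitely generated submodule on the affine open. -/
theorem exists_glue_submodule {mi : ι → ℕ} (r : ∀ i, Fin (mi i) → Fin p → Ring (𝔛.Osh h) (Dop h (f i)))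
    (hr : ∀ i j, spanV (Dop_mul_left (f i) (f j)) (r i) ≤ spanV (Dop_mul_right (f i) (f j)) (r j)) :
    ∃ (n : ℕ) (R : Fin n → Fin p → Ring (𝔛.Osh h) U),
      ∀ i, spanV (Dop_le h (f i)) R = Submodule.span _ (Set.range (r i)) := by
  obtain ⟨J, hJ⟩ := exists_isAdicRing h𝔛 hU
  haveI := hJ.noetherian
  let S : ∀ i, Submodule (Ring (𝔛.Osh h) (Dop h (f i))) (Fin p → Ring (𝔛.Osh h) (Dop h (f i))) :=
    fun i => Submodule.span _ (Set.range (r i))
  let N : ℕ → Submodule (Ring (𝔛.Osh h) U) (Fin p → Ring (𝔛.Osh h) U) := fun k =>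
    comapV f fun i => S i ⊔ kk h _ k p
  obtain ⟨n, R, hR⟩ := Submodule.fg_iff_exists_fin_generating_family.1
    (IsNoetherian.noetherian (comapV f S))
  have step1 : ∀ (k : ℕ) (i : ι) (y : _), y ∈ S i → ∃ (M : ℕ) (b : Fin p → Ring (𝔛.Osh h) U),
      b ∈ N k ∧ rv _ (Dop_le h (f i)) b - rres _ (Dop_le h (f i)) (f i) ^ M • y ∈ kk h _ k p := by
    intro k i y hy
    obtain ⟨M, b, hb⟩ := exists_den hU rfl (Dop_le h (f i)) k y
    have hj : ∀ j, rv _ (Dop_mul_right (f i) (f j)) (rv _ (Dop_le h (f j)) b) ∈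
        spanV (Dop_mul_right (f i) (f j)) (r j) ⊔ kk h _ k p := fun j => by
      have e1 : rv _ (Dop_mul_right (f i) (f j)) (rv _ (Dop_le h (f j)) b) =
          rv _ (Dop_mul_left (f i) (f j))
              (rv _ (Dop_le h (f i)) b - rres _ (Dop_le h (f i)) (f i) ^ M • y) +
            rres _ (Dop_le h (f i * f j)) (f i) ^ M • rv _ (Dop_mul_left (f i) (f j)) y := by
        simp only [map_sub, rv_rv, rv_smul, map_pow, rres_rres, sub_add_cancel]
      rw [e1]
      exact Submodule.add_mem _ (Submodule.mem_sup_right (rv_mem_kk _ hb)) (Submodule.smul_mem _ _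
        (Submodule.mem_sup_left (hr i j (rv_mem_of_mem_span _ hy))))
    choose E hE using fun j => exists_num_le (isAffineOpen_Dop h hU (f j)) (Dop_mul_eq (f i) (f j))
      (Dop_mul_right (f i) (f j)) k (r j) _ (hj j)
    obtain ⟨E₀, hE₀⟩ := Finite.exists_le E
    refine ⟨E₀ + M, f i ^ E₀ • b, fun j => ?_, ?_⟩
    · rw [rv_smul, map_pow]
      exact hE j E₀ (hE₀ j)
    · rw [rv_smul, map_pow, pow_add, mul_smul, ← smul_sub]
      exact Submodule.smul_mem _ _ hb
  have step2 : ∀ k, N k ≤ N (k + 1) ⊔ kk h U k p := fun k a ha =>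
    mem_of_pow_smul_mem h𝔛 hU f hf fun i => by
      obtain ⟨s, hs, z, hz, hsz⟩ := Submodule.mem_sup.1 (ha i)
      obtain ⟨M, b, hbN, hb⟩ := step1 (k + 1) i s hs
      obtain ⟨E, hE⟩ := exists_num hU rfl (Dop_le h (f i)) k
        (fun l : Fin 0 => l.elim0) (f i ^ M • a - b) (Submodule.mem_sup_right (by
          have e1 : rv _ (Dop_le h (f i)) (f i ^ M • a - b) =
              rres _ (Dop_le h (f i)) (f i) ^ M • z -
                (rv _ (Dop_le h (f i)) b - rres _ (Dop_le h (f i)) (f i) ^ M • s) := by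
            rw [map_sub, rv_smul, map_pow, ← hsz, smul_add]
            abel
          rw [e1]
          exact Submodule.sub_mem _ (Submodule.smul_mem _ _ hz) (kk_succ_le _ k p hb)))
      refine ⟨E + M, ?_⟩
      rw [Set.range_eq_empty, Submodule.span_empty, bot_sup_eq, smul_sub, ← mul_smul, ← pow_add] at hE
      rw [show f i ^ (E + M) • a = f i ^ E • b + (f i ^ (E + M) • a - f i ^ E • b) by abel]
      exact Submodule.add_mem_sup (Submodule.smul_mem _ _ hbN) hE
  have step3 : ∀ k, ∀ a ∈ N k, ∃ a', a' ∈ comapV f S ∧ a' - a ∈ kk h U k p := fun k a ha => by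
    obtain ⟨l, hl⟩ := exists_level_approx h𝔛 (fun _ : PUnit.{1} => U) (fun _ => hU)
      (fun q x => x ⟨⟩ ∈ N (k + q) ∧ x ⟨⟩ - a ∈ kk h U k p)
      ⟨fun _ => a, ha, by rw [sub_self]; exact Submodule.zero_mem _⟩ fun q x hx => by
        obtain ⟨s, hs, z, hz, hsz⟩ := Submodule.mem_sup.1 (step2 (k + q) hx.1)
        have hzq : ∀ q', q' ≤ k + q → z ∈ kk h U q' p := by
          intro q' hq'
          induction hq' using Nat.decreasingInduction with
          | self => exact hz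
          | of_succ l _ ih => exact kk_succ_le _ l p ih
        refine ⟨fun _ => s, ⟨hs, ?_⟩, fun _ => ?_⟩
        · rw [show s - a = (x ⟨⟩ - a) - z by rw [← hsz]; abel]
          exact Submodule.sub_mem _ hx.2 (hzq k (Nat.le_add_right k q))
        · rw [show s - x ⟨⟩ = -z by rw [← hsz]; abel]
          exact Submodule.neg_mem _ (hzq q (Nat.le_add_left q k))
    refine ⟨l ⟨⟩, fun i => mem_span_of_forall_sup h𝔛 (isAffineOpen_Dop h hU (f i)) _ fun q => ?_, ?_⟩
    · obtain ⟨x, ⟨hxN, -⟩, hlx⟩ := hl q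
      rw [show l ⟨⟩ = x ⟨⟩ + (l ⟨⟩ - x ⟨⟩) by abel, map_add]
      refine Submodule.add_mem _ ?_ (Submodule.mem_sup_right (rv_mem_kk _ (hlx ⟨⟩)))
      obtain ⟨s, hs, z, hz, hsz⟩ := Submodule.mem_sup.1 (hxN i)
      rw [← hsz]
      refine Submodule.add_mem_sup hs ?_
      have hzq : ∀ q', q' ≤ k + q → z ∈ kk h _ q' p := by
        intro q' hq'
        induction hq' using Nat.decreasingInduction with
        | self => exact hz
        | of_succ l _ ih => exact kk_succ_le _ l p ih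
      exact hzq q (Nat.le_add_left q k)
    · obtain ⟨x, ⟨-, hxa⟩, hlx⟩ := hl k
      rw [show l ⟨⟩ - a = (l ⟨⟩ - x ⟨⟩) + (x ⟨⟩ - a) by abel]
      exact Submodule.add_mem _ (hlx ⟨⟩) hxa
  refine ⟨n, R, fun i => le_antisymm ?_ fun y hy => ?_⟩
  · refine Submodule.span_le.2 ?_
    rintro _ ⟨l, rfl⟩
    exact (show R l ∈ comapV f S from hR.le (Submodule.subset_span ⟨l, rfl⟩)) i
  · refine mem_span_of_forall_sup h𝔛 (isAffineOpen_Dop h hU (f i)) _ fun k => ?_
    obtain ⟨M, b, hbN, hb⟩ := step1 k i y hy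
    obtain ⟨b', hb', hbb'⟩ := step3 k b hbN
    rw [← Submodule.smul_mem_iff_of_isUnit _
      ((isUnit_rres h𝔛 hU (f := f i) rfl (Dop_le h (f i))).pow M)]
    have e2 : rres _ (Dop_le h (f i)) (f i) ^ M • y = rv _ (Dop_le h (f i)) b' -
        (rv _ (Dop_le h (f i)) (b' - b) +
          (rv _ (Dop_le h (f i)) b - rres _ (Dop_le h (f i)) (f i) ^ M • y)) := by
      rw [map_sub]
      abel
    rw [e2]
    refine Submodule.sub_mem _ (Submodule.mem_sup_left (rv_mem_of_mem_span _ ?_))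
      (Submodule.mem_sup_right (Submodule.add_mem _ (rv_mem_kk _ hbb') hb))
    rw [hR]
    exact hb'

end sub

end Groth.Agent.FTors52
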