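import Groth.Agent.FTors52.Formal
import Groth.Agent.FMod90.Descend

/-!
# Vectors of functions on an affine open of a formal scheme, modulo the levels

Congruences modulo `k`-th level of vectors of sections of the structure sheaf, their behaviour on
basic opens, and limits of compatible sequences.
-/

set_option autoImplicit false

universe u

open CategoryTheory CategoryTheory.Limits AlgebraicGeometry Opposite TopologicalSpace

namespace Groth.Agent.FTors52

open FMod90

section Vec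

variable {T : TopCat.{u}} {O : Sheaf (Opens.grothendieckTopology T) CommRingCat.{u}} {U V W : Opens T}
  {p m : ℕ}

variable (O) in
/-- Restriction of vectors of functions. -/
noncomputable def rv (hVU : V ≤ U) : (Fin p → Ring O U) →+ (Fin p → Ring O V) where
  toFun a i := rres O hVU (a i)
  map_zero' := funext fun _ => map_zero _
  map_add' _ _ := funext fun _ => map_add _ _ _

@[simp]
theorem rv_apply (hVU : V ≤ U) (a : Fin p → Ring O U) (i : Fin p) :
    rv O hVU a i = rres O hVU (a i) := rfl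

@[simp]
theorem rv_rv (hVU : V ≤ U) (hWV : W ≤ V) (a : Fin p → Ring O U) :
    rv O hWV (rv O hVU a) = rv O (hWV.trans hVU) a := funext fun _ => rres_rres _ _ _

@[simp]
theorem rv_refl (hUU : U ≤ U) (a : Fin p → Ring O U) : rv O hUU a = a := funext fun _ => rres_refl _ _

theorem rv_smul (hVU : V ≤ U) (c : Ring O U) (a : Fin p → Ring O U) :
    rv O hVU (c • a) = rres O hVU c • rv O hVU a := by
  funext i
  simp

/-- The submodule generated by a family of vectors, restricted. -/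
noncomputable abbrev spanV (hVU : V ≤ U) (r : Fin m → Fin p → Ring O U) :
    Submodule (Ring O V) (Fin p → Ring O V) :=
  Submodule.span _ (Set.range fun l => rv O hVU (r l))

theorem spanV_refl (r : Fin m → Fin p → Ring O U) :
    spanV le_rfl r = Submodule.span _ (Set.range r) := by
  simp only [spanV, rv_refl]

theorem rv_mem_span (hWV : W ≤ V) {S : Set (Fin p → Ring O V)} {a : Fin p → Ring O V}
    (ha : a ∈ Submodule.span (Ring O V) S) :
    rv O hWV a ∈ Submodule.span (Ring O W) (rv O hWV '' S) := by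
  induction ha using Submodule.span_induction with
  | mem y hy => exact Submodule.subset_span (Set.mem_image_of_mem _ hy)
  | zero => rw [map_zero]; exact Submodule.zero_mem _
  | add y z _ _ hy hz => rw [map_add]; exact Submodule.add_mem _ hy hz
  | smul c y _ hy => rw [rv_smul]; exact Submodule.smul_mem _ _ hy

theorem rv_mem_spanV (hVU : V ≤ U) (hWV : W ≤ V) {r : Fin m → Fin p → Ring O U}
    {a : Fin p → Ring O V} (ha : a ∈ spanV hVU r) : rv O hWV a ∈ spanV (hWV.trans hVU) r := by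
  refine Submodule.span_mono ?_ (rv_mem_span hWV ha)
  rintro _ ⟨_, ⟨l, rfl⟩, rfl⟩
  exact ⟨l, (rv_rv _ _ _).symm⟩

theorem rv_mem_of_mem_span (hVU : V ≤ U) {r : Fin m → Fin p → Ring O U} {a : Fin p → Ring O U}
    (ha : a ∈ Submodule.span (Ring O U) (Set.range r)) : rv O hVU a ∈ spanV hVU r := by
  rw [← spanV_refl] at ha
  exact rv_mem_spanV le_rfl hVU ha

end Vec

variable {𝔛 : FSch.Sys.{u}} {h : 𝔛.IsFormal} {U V W : (𝔛.X 0).Opens} {p m : ℕ}

variable (h) in
/-- Vectors of functions vanishing on the `k`-th level. -/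
noncomputable def kk (V : (𝔛.X 0).Opens) (k p : ℕ) :
    Submodule (Ring (𝔛.Osh h) V) (Fin p → Ring (𝔛.Osh h) V) :=
  Submodule.pi Set.univ fun _ => RingHom.ker (pr h V k)

theorem mem_kk {k : ℕ} {a : Fin p → Ring (𝔛.Osh h) V} : a ∈ kk h V k p ↔ ∀ i, pr h V k (a i) = 0 := by
  simp [kk, Submodule.mem_pi]

theorem kk_succ_le (V : (𝔛.X 0).Opens) (k p : ℕ) : kk h V (k + 1) p ≤ kk h V k p := fun a ha =>
  mem_kk.2 fun i => by rw [← ρ_pr, mem_kk.1 ha i, map_zero]

theorem rv_mem_kk (hWV : W ≤ V) {k : ℕ} {a : Fin p → Ring (𝔛.Osh h) V} (ha : a ∈ kk h V k p) :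
    rv _ hWV a ∈ kk h W k p :=
  mem_kk.2 fun i => by rw [rv_apply, pr_rres', mem_kk.1 ha i, map_zero]

theorem rv_mem_sup (hVU : V ≤ U) (hWV : W ≤ V) {k : ℕ} {r : Fin m → Fin p → Ring (𝔛.Osh h) U}
    {a : Fin p → Ring (𝔛.Osh h) V} (ha : a ∈ spanV hVU r ⊔ kk h V k p) :
    rv _ hWV a ∈ spanV (hWV.trans hVU) r ⊔ kk h W k p := by
  obtain ⟨s, hs, z, hz, rfl⟩ := Submodule.mem_sup.1 ha
  rw [map_add]
  exact Submodule.add_mem_sup (rv_mem_spanV hVU hWV hs) (rv_mem_kk hWV hz)

theorem rv_mem_span_sup (hWV : W ≤ V) {k : ℕ} {r : Fin m → Fin p → Ring (𝔛.Osh h) V}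
    {a : Fin p → Ring (𝔛.Osh h) V} (ha : a ∈ Submodule.span _ (Set.range r) ⊔ kk h V k p) :
    rv _ hWV a ∈ spanV hWV r ⊔ kk h W k p := by
  rw [← spanV_refl] at ha
  exact rv_mem_sup le_rfl hWV ha

/-! ### Basic opens -/

theorem Dop_eq_inter (f g : Ring (𝔛.Osh h) U) : Dop h (f * g) = Dop h f ⊓ Dop h g := by
  simp only [Dop, map_mul, Scheme.basicOpen_mul]

theorem Dop_rres (hVU : V ≤ U) (g : Ring (𝔛.Osh h) U) :
    Dop h (rres (𝔛.Osh h) hVU g) = V ⊓ Dop h g := by
  rw [Dop, Dop, pr_rres', resLvl]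
  exact (Scheme.basicOpen_res _ _ _).trans (congrArg (· ⊓ _) (lvU_zero h V))

theorem Dop_rres_Dop (f g : Ring (𝔛.Osh h) U) :
    Dop h (f * g) = Dop h (rres (𝔛.Osh h) (Dop_le h f) g) := by
  rw [Dop_rres, Dop_eq_inter]

section aff

variable (hU : IsAffineOpen U) {f : Ring (𝔛.Osh h) U} (e : V = Dop h f) (hVU : V ≤ U)

include e in
theorem isLocalization_lvl (hU : IsAffineOpen U) (k : ℕ) :
    letI := (resLvl (h := h) hVU k).toAlgebra
    IsLocalization.Away (pr h U k f) (Rn h V k) := by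
  subst e
  exact (isAffineOpen_lvU h hU k).isLocalization_of_eq_basicOpen (pr h U k f)
    ((Opens.map (𝔛.gInv h k)).map (homOfLE hVU)) (lvU_Dop h f k)

include hU e in
/-- Denominators are powers of the function. -/
theorem exists_den (k : ℕ) (y : Fin p → Ring (𝔛.Osh h) V) :
    ∃ (N : ℕ) (b : Fin p → Ring (𝔛.Osh h) U),
      rv _ hVU b - rres (𝔛.Osh h) hVU f ^ N • y ∈ kk h V k p := by
  letI := (resLvl (h := h) hVU k).toAlgebra
  haveI := isLocalization_lvl e hVU hU k
  obtain ⟨⟨_, N, rfl⟩, hN⟩ := IsLocalization.exist_integer_multiples_of_finite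
    (Submonoid.powers (pr h U k f)) (S := Rn h V k) fun i => pr h V k (y i)
  choose b hb using hN
  choose b' hb' using fun i => pr_surjective h hU k (b i)
  refine ⟨N, b', mem_kk.2 fun i => ?_⟩
  rw [Pi.sub_apply, map_sub, rv_apply, pr_rres', hb', Pi.smul_apply, smul_eq_mul, map_mul, map_pow,
    pr_rres', sub_eq_zero, ← map_pow]
  exact (hb i).trans (Algebra.smul_def _ _)

include hU e in
/-- A vector in a submodule modulo the level on a basic open is so globally after multiplication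
by a power of the function. -/
theorem exists_num (k : ℕ) (r : Fin m → Fin p → Ring (𝔛.Osh h) U) (b : Fin p → Ring (𝔛.Osh h) U)
    (hb : rv _ hVU b ∈ spanV hVU r ⊔ kk h V k p) :
    ∃ N : ℕ, f ^ N • b ∈ Submodule.span _ (Set.range r) ⊔ kk h U k p := by
  letI := (resLvl (h := h) hVU k).toAlgebra
  haveI := isLocalization_lvl e hVU hU k
  obtain ⟨s, hs, z, hz, hsz⟩ := Submodule.mem_sup.1 hb
  obtain ⟨c, rfl⟩ := (Submodule.mem_span_range_iff_exists_fun _).1 hs
  obtain ⟨⟨_, M, rfl⟩, hM⟩ := IsLocalization.exist_integer_multiples_of_finite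
    (Submonoid.powers (pr h U k f)) (S := Rn h V k) fun l => pr h V k (c l)
  choose c' hc' using hM
  have hK : ∀ i, ∃ K : ℕ, pr h U k f ^ K * (pr h U k f ^ M * pr h U k (b i) -
      ∑ l, c' l * pr h U k (r l i)) = 0 := fun i => by
    have h0 : algebraMap _ (Rn h V k) (pr h U k f ^ M * pr h U k (b i) -
        ∑ l, c' l * pr h U k (r l i)) = 0 := by
      have hi : resLvl hVU k (pr h U k (b i)) = ∑ l, pr h V k (c l) * resLvl hVU k (pr h U k (r l i)) := by
        have h1 := congrArg (pr h V k) (congrFun hsz i)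
        rw [Pi.add_apply, map_add, mem_kk.1 hz i, add_zero, Finset.sum_apply, map_sum, rv_apply,
          pr_rres'] at h1
        rw [← h1]
        refine Finset.sum_congr rfl fun l _ => ?_
        rw [Pi.smul_apply, smul_eq_mul, map_mul, rv_apply, pr_rres']
      rw [map_sub, map_mul, map_sum, sub_eq_zero, RingHom.algebraMap_toAlgebra, hi, Finset.mul_sum]
      refine Finset.sum_congr rfl fun l _ => ?_
      rw [map_mul, ← mul_assoc]
      exact congrArg (· * _) ((hc' l).trans (Algebra.smul_def _ _)).symm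
    obtain ⟨⟨_, K, rfl⟩, hK⟩ := (IsLocalization.map_eq_zero_iff (Submonoid.powers (pr h U k f))
      (Rn h V k) _).1 h0
    exact ⟨K, hK⟩
  choose K hK using hK
  obtain ⟨K₀, hK₀⟩ : ∃ K₀, ∀ i, K i ≤ K₀ := ⟨Finset.univ.sup K, fun i => Finset.le_sup (Finset.mem_univ i)⟩
  choose c'' hc'' using fun l => pr_surjective h hU k (c' l)
  refine ⟨K₀ + M, Submodule.mem_sup.2 ⟨∑ l, (f ^ K₀ * c'' l) • r l, Submodule.sum_mem _ fun l _ =>
    Submodule.smul_mem _ _ (Submodule.subset_span ⟨l, rfl⟩), _, mem_kk.2 fun i => ?_,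
    add_sub_cancel _ _⟩⟩
  have h2 : pr h U k f ^ K₀ * (pr h U k f ^ M * pr h U k (b i) -
      ∑ l, c' l * pr h U k (r l i)) = 0 := by
    rw [← Nat.sub_add_cancel (hK₀ i), pow_add, mul_assoc, hK i, mul_zero]
  rw [← h2, Pi.sub_apply, Pi.smul_apply, smul_eq_mul, Finset.sum_apply, map_sub, map_mul, map_pow,
    map_sum, mul_sub, Finset.mul_sum, pow_add, mul_assoc]
  congr 1
  refine Finset.sum_congr rfl fun l _ => ?_
  rw [Pi.smul_apply, smul_eq_mul, map_mul, map_mul, map_pow, hc'', mul_assoc]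

end aff

section complete

variable (h𝔛 : 𝔛.IsLocNoethFormal) (hU : IsAffineOpen U)

include h𝔛 hU

theorem mem_span_of_forall_sup (r : Fin m → Fin p → Ring (𝔛.Osh h) U) {a : Fin p → Ring (𝔛.Osh h) U}
    (ha : ∀ k, a ∈ Submodule.span (Ring (𝔛.Osh h) U) (Set.range r) ⊔ kk h U k p) :
    a ∈ Submodule.span (Ring (𝔛.Osh h) U) (Set.range r) := by
  obtain ⟨J, hJ⟩ := exists_isAdicRing h𝔛 hU
  haveI := hJ.noetherian
  haveI := hJ.complete
  refine mem_of_forall_mem_sup J _ a fun k => ?_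
  obtain ⟨s, hs, z, hz, rfl⟩ := Submodule.mem_sup.1 (ha k)
  exact Submodule.add_mem_sup hs (mem_smul_top_of_apply_mem fun i => by
    rw [← hJ.ker_pr k, RingHom.mem_ker]
    exact mem_kk.1 hz i)

theorem isUnit_rres {f : Ring (𝔛.Osh h) U} (e : V = Dop h f) (hVU : V ≤ U) :
    IsUnit (rres (𝔛.Osh h) hVU f) := by
  subst e
  obtain ⟨J, hJ⟩ := exists_isAdicRing h𝔛 hU
  exact isUnit_rres_Dop h _ (isAdicRing_Dop h𝔛 hJ f)

/-- Powers of functions whose basic opens cover generate the unit ideal. -/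
theorem span_pow_eq_top {ι : Type*} (f : ι → Ring (𝔛.Osh h) U) (hf : U ≤ ⨆ i, Dop h (f i)) (N : ℕ) :
    Ideal.span (Set.range fun i => f i ^ N) = ⊤ := by
  have h1 : Ideal.span (Set.range f) = ⊤ := by
    obtain ⟨J, hJ⟩ := exists_isAdicRing h𝔛 hU
    haveI := hJ.complete
    suffices hs : J ⊔ Ideal.span (Set.range f) = ⊤ by
      obtain ⟨j, hj, a, ha, h1⟩ := Submodule.mem_sup.1 (hs.ge (Submodule.mem_top (x := 1)))
      have hu := Ideal.mem_jacobson_bot.1 (IsAdicComplete.le_jacobson_bot J hj) (-1)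
      rw [show j * -1 + 1 = a by linear_combination -h1] at hu
      exact Ideal.eq_top_of_isUnit_mem _ ha hu
    have h2 : (Ideal.span (Set.range f)).map (pr h U 0) = ⊤ := by
      rw [Ideal.map_span, ← Set.range_comp]
      refine ((isAffineOpen_lvU h hU 0).self_le_iSup_basicOpen_iff).1 ?_
      intro x hx
      rw [lvU_zero] at hx
      obtain ⟨i, hi⟩ := Opens.mem_iSup.1 (hf hx)
      exact Opens.mem_iSup.2 ⟨⟨_, i, rfl⟩, hi⟩
    have h3 := congrArg (Ideal.comap (pr h U 0)) h2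
    rw [Ideal.comap_map_of_surjective' _ (pr_surjective h hU 0), Ideal.comap_top, hJ.ker_pr, zero_add,
      pow_one] at h3
    rw [sup_comm]
    exact h3
  have := Ideal.span_pow_eq_top _ h1 N
  rwa [← Set.range_comp] at this

/-- A vector lies in a submodule if multiples by powers of covering functions do. -/
theorem mem_of_pow_smul_mem {ι : Type*} [Finite ι] (f : ι → Ring (𝔛.Osh h) U)
    (hf : U ≤ ⨆ i, Dop h (f i)) {S : Submodule (Ring (𝔛.Osh h) U) (Fin p → Ring (𝔛.Osh h) U)}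
    {a : Fin p → Ring (𝔛.Osh h) U} (ha : ∀ i, ∃ N : ℕ, f i ^ N • a ∈ S) : a ∈ S := by
  choose N hN using ha
  cases nonempty_fintype ι
  obtain ⟨N₀, hN₀⟩ : ∃ N₀, ∀ i, N i ≤ N₀ :=
    ⟨Finset.univ.sup N, fun i => Finset.le_sup (Finset.mem_univ i)⟩
  have h1 : (1 : Ring (𝔛.Osh h) U) ∈ Ideal.span (Set.range fun i => f i ^ N₀) := by
    rw [span_pow_eq_top h𝔛 hU f hf]
    trivial
  obtain ⟨c, hc⟩ := (Submodule.mem_span_range_iff_exists_fun _).1 h1
  rw [← one_smul (Ring (𝔛.Osh h) U) a, ← hc, Finset.sum_smul]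
  refine Submodule.sum_mem _ fun i _ => ?_
  rw [smul_assoc]
  refine Submodule.smul_mem _ _ ?_
  rw [← Nat.sub_add_cancel (hN₀ i), pow_add, mul_smul]
  exact Submodule.smul_mem _ _ (hN i)

omit hU in
/-- Compatible vectors on the levels have a limit. -/
theorem exists_limit (hV : IsAffineOpen V) (x : ℕ → Fin p → Ring (𝔛.Osh h) V)
    (hx : ∀ k, x (k + 1) - x k ∈ kk h V k p) :
    ∃ a, ∀ k, a - x k ∈ kk h V k p := by
  have hy : ∀ i, ∃ s : Ring (𝔛.Osh h) V, ∀ k, pr h V k s = pr h V k (x k i) := fun i =>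
    exists_ring h V (fun k => pr h V k (x k i)) fun k => by
      rw [ρ_pr]
      exact sub_eq_zero.1 ((map_sub _ _ _).symm.trans (mem_kk.1 (hx k) i))
  choose a ha using hy
  exact ⟨a, fun k => mem_kk.2 fun i => by rw [Pi.sub_apply, map_sub, ha, sub_self]⟩

omit hU in
/-- Successive approximation. -/
theorem exists_level_approx {ι : Type*} (V : ι → (𝔛.X 0).Opens) (hV : ∀ i, IsAffineOpen (V i))
    (P : ℕ → (∀ i, Fin p → Ring (𝔛.Osh h) (V i)) → Prop) (h0 : ∃ x, P 0 x)
    (hs : ∀ k x, P k x → ∃ y, P (k + 1) y ∧ ∀ i, y i - x i ∈ kk h (V i) k p) :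
    ∃ a : ∀ i, Fin p → Ring (𝔛.Osh h) (V i), ∀ k, ∃ x, P k x ∧ ∀ i, a i - x i ∈ kk h (V i) k p := by
  choose g hg using hs
  obtain ⟨x₀, hx₀⟩ := h0
  let X : ∀ k, { x // P k x } := fun k => Nat.rec ⟨x₀, hx₀⟩ (fun k x => ⟨g k x.1 x.2, (hg k _ _).1⟩) k
  choose a ha using fun i => exists_limit h𝔛 (hV i) (fun k => (X k).1 i) fun k => (hg k _ (X k).2).2 i
  exact ⟨a, fun k => ⟨(X k).1, (X k).2, fun i => ha i k⟩⟩

end complete

end Groth.Agent.FTors52
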