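import Groth.Agent.DSites.RpushLimit
import Groth.Agent.DSites.EpsEquiv
import Groth.Agent.SiteBase.DLim.Top

/-!
# Bounds for `Rf_*` on unbounded objects with cohomology in a class of modules
-/

set_option autoImplicit false

universe u

open CategoryTheory CategoryTheory.Limits Pretriangulated DerivedCategory

attribute [local instance] HasDerivedCategory.standard

namespace Groth.Agent.FTors52

open DSites

variable {C : Type u} [SmallCategory C] {J : GrothendieckTopology C}
  {D : Type u} [SmallCategory D] {K : GrothendieckTopology D}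
  {O_C : Sheaf J CommRingCat.{u}} {O_D : Sheaf K CommRingCat.{u}}
  (f : ModSite.RMor O_C O_D)

/-- `Rf_*` on unbounded derived categories of modules exists. -/
theorem hasRpushD : SiteCmp.HasRpushD f := by
  let W := HomotopyCategory.quasiIso (ModSite.Mod O_C) (ComplexShape.up ℤ)
  haveI := TriCat.isRightDerivedFunctor_of_adjunction (kinjAdj O_C) W (SiteCmp.pushKh f)
  exact Functor.HasRightDerivedFunctor.mk' (L := DerivedCategory.Qh) (kinjRes O_C ⋙ SiteCmp.pushKh f)
    (Functor.whiskerRight (kinjAdj O_C).unit (SiteCmp.pushKh f))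

/-- Higher direct images of a module vanish above a bound for its cohomology on preimages. -/
theorem isZero_Rpush_of_bound [HasInjectiveResolutions (ModSite.Mod O_C)] {B' : Set D}
    (hB' : DLim.IsCoveredBy K B') (M : ModSite.Mod O_C) (N : ℕ)
    (hM : ∀ V ∈ B', ∀ k : ℕ, N < k → Subsingleton (ModSite.HU O_C M k (f.fn.obj V)))
    (p : ℕ) (hp : N < p) : IsZero ((f.Rpush p).obj M) := by
  haveI := hasRpushD f
  letI := smallShD J
  letI := smallShD K
  obtain ⟨e⟩ := nonempty_H_rpushD_single f M p
  refine IsZero.of_iso ?_ e.symm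
  have hz : IsZero ((SheafOfModules.toSheaf (ModSite.ringSh O_D)).obj
      ((DerivedCategory.homologyFunctor (ModSite.Mod O_D) (p : ℤ)).obj
        ((SiteCmp.RpushD f).obj (SiteCmp.inD O_C M)))) := by
    refine (isZero_HD_of_locally _ (p : ℤ) hB' fun V hV => ?_).of_iso
      (hdIso (ModSite.ringSh O_D) _ (p : ℤ)).symm
    refine subsingleton_HDU_rpushD f _ (p : ℤ) V ?_
    refine subsingleton_HDU_mod_of_cohomology O_C (SiteCmp.inD O_C M) 0 (p : ℤ) _ fun j k hjk => ?_
    by_cases hj : j = 0
    · subst hj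
      exact subsingleton_HU_of_iso O_C
        ((singleFunctorCompHomologyFunctorIso (ModSite.Mod O_C) 0).app M).symm (hM V hV k (by omega))
    · refine subsingleton_HU_mod_of_isZero O_C ?_ k _
      rcases lt_or_gt_of_ne hj with h' | h'
      · exact isZero_of_isGE _ 0 j h'
      · exact isZero_of_isLE _ 0 j h'
  rw [IsZero.iff_id_eq_zero] at hz ⊢
  refine (SheafOfModules.toSheaf (ModSite.ringSh O_D)).map_injective ?_
  rw [CategoryTheory.Functor.map_id, Functor.map_zero]
  exact hz

variable [SiteCmp.HasRpushD f] [HasInjectiveResolutions (ModSite.Mod O_C)]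
  (A : ObjectProperty (ModSite.Mod O_C)) [A.IsClosedUnderIsomorphisms] [A.ContainsZero]

local notation "Rf" => SiteCmp.RpushD f
local notation "H" => DerivedCategory.homologyFunctor (ModSite.Mod O_D)
local notation "HC" => DerivedCategory.homologyFunctor (ModSite.Mod O_C)

/-- If modules in a class have cohomological dimension at most `N` on the preimages of a covering
class and finite cohomological dimension on a covering class upstairs, `Rf_*` raises the upper bound
of cohomology in that class by at most `N`. -/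
theorem isZero_H_rpushD_unbounded {B : Set C} {B' : Set D} (hB : DLim.IsCoveredBy J B)
    (hB' : DLim.IsCoveredBy K B') (d N : ℕ)
    (hd : ∀ V ∈ B, ∀ F, A F → ∀ k : ℕ, d < k → Subsingleton (ModSite.HU O_C F k V))
    (hN : ∀ V ∈ B', ∀ F, A F → ∀ k : ℕ, N < k → Subsingleton (ModSite.HU O_C F k (f.fn.obj V)))
    (X : DerivedCategory (ModSite.Mod O_C)) (hX : ∀ i, A ((HC i).obj X)) (i₀ : ℤ)
    (hX₀ : ∀ i, i₀ ≤ i → IsZero ((HC i).obj X)) (j : ℤ) (hj : i₀ + N ≤ j) :
    IsZero ((H j).obj ((Rf).obj X)) := by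
  letI := smallShD K
  letI := smallShD J
  letI := rpushCommShift f
  haveI := isTriangulated_rpushD f
  haveI := H9Misc.RpushLeftAdj.isRightAdjoint_RpushD f
  haveI := hasProduct_truncTower X
  haveI := hasProduct_image f X
  haveI : PreservesLimit (Discrete.functor (CohCx.truncTower X)) (Rf) := inferInstance
  have h : ∀ F : ModSite.Mod O_C, A F → ∀ p : ℕ, (N : ℤ) < (p : ℤ) → IsZero ((f.Rpush p).obj F) :=
    fun F hF p hp => isZero_Rpush_of_bound f hB' F N (fun V hV => hN V hV F hF) p (by omega)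
  have hX' : CohCx.IsRlimVia (CohCx.truncTower X) (CohCx.truncTowerMap X) X (CohCx.toTruncTower X) :=
    isRlimVia_truncTower_mod O_C X hB fun V _ _ => by
      refine ⟨d, fun T hT => ?_⟩
      obtain ⟨ι, Y, g, hf, hcov, hY⟩ := hB.refine_cover V hT
      exact ⟨ι, Y, g, hf, hcov, fun i q k _ hk _ => hd _ (hY i) _ (hX q) k hk⟩
  let n : ℕ := (-i₀).toNat + ((N : ℤ) - j).toNat
  have hiso : IsIso ((H j).map ((Rf).map (CohCx.toTruncTower X n))) := by
    refine isIso_H_rlim_mod' O_D (isRlimVia_map (Rf) _ _ X _ hX') hB' j n (fun p hp => ?_) fun V hV => ?_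
    · obtain ⟨Q, g, d, hQ⟩ := distinguished_cocone_triangle (CohCx.truncTowerMap X p)
      obtain ⟨hge, hne, ⟨e⟩⟩ := truncTowerMap_cone X p g d hQ
      have hle := isLE_cone_truncTowerMap X p g d hQ
      have hz : ∀ q, (N : ℤ) - (p : ℤ) - 2 < q → IsZero ((H q).obj ((Rf).obj Q)) := fun q hq =>
        isZero_H_rpushD f A N h Q (-(p : ℤ) - 2) (-(p : ℤ) - 2)
          (fun i hi hi' => by
            obtain rfl : i = -(p : ℤ) - 2 := le_antisymm hi' hi
            exact A.prop_of_iso e.symm (hX _)) q (by omega)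
      exact isIso_H_mor₁ _ ((Rf).map_distinguished _ hQ) j (hz _ (by omega)) (hz _ (by omega))
    · refine ⟨((N : ℤ) - j + 2).toNat, fun T hT => ?_⟩
      obtain ⟨ι, Y, g, hf, hcov, hY⟩ := hB'.refine_cover V hT
      refine ⟨ι, Y, g, hf, hcov, fun i p hp => ?_⟩
      obtain ⟨Q, g', d, hQ⟩ := distinguished_cocone_triangle (CohCx.truncTowerMap X p)
      obtain ⟨hge, hne, ⟨e⟩⟩ := truncTowerMap_cone X p g' d hQ
      refine ⟨_, _, _, (Rf).map_distinguished _ hQ, fun q hq => ?_⟩
      refine subsingleton_HDU_rpushD f Q q (Y i) ?_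
      refine subsingleton_HDU_mod_of_cohomology O_C Q (-(p : ℤ) - 2) q _ fun a k hak => ?_
      by_cases ha : a = -(p : ℤ) - 2
      · subst ha
        exact hN _ (hY i) _ (A.prop_of_iso e.symm (hX _)) k (by omega)
      · exact subsingleton_HU_mod_of_isZero O_C (hne a ha) k _
  refine IsZero.of_iso ?_ (@asIso _ _ _ _ _ hiso)
  have : (CohCx.truncTower X n).IsGE (-(n : ℤ)) := DerivedCategory.TStructure.t.isGE_truncGE_obj ..
  have : (CohCx.truncTower X n).IsLE (i₀ - 1) := (isLE_iff _ _).2 fun i hi => by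
    have := H9Misc.isIso_map_truncGEπ (-(n : ℤ)) i (by omega) X
    exact (hX₀ i (by omega)).of_iso (@asIso _ _ _ _ _ this).symm
  refine isZero_H_rpushD f A N h _ (-(n : ℤ)) (i₀ - 1) (fun i hi _ => ?_) j (by omega)
  have := H9Misc.isIso_map_truncGEπ (-(n : ℤ)) i hi X
  exact A.prop_of_iso (@asIso _ _ _ _ _ this) (hX i)

end Groth.Agent.FTors52
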