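import Groth.Agent.FTors52.AffAcyclic
import Groth.Agent.FTors52.RpushBound
import Groth.Agent.QCoh.Bound

/-!
# Cohomology on affine opens of a formal scheme; higher direct images along affine morphisms
-/

set_option autoImplicit false

universe u

open CategoryTheory CategoryTheory.Limits AlgebraicGeometry Opposite TopologicalSpace

namespace Groth.Agent.FTors52

open FMod90

variable {𝔛 : FSch.Sys.{u}} {h : 𝔛.IsFormal}

variable (𝔛 h) in
/-- Filtered colimits of coherent modules. -/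
noncomputable abbrev indCoh : ObjectProperty (FSch.ModF 𝔛 h) :=
  ObjectProperty.ind.{u} fun 𝔊 : FSch.ModF 𝔛 h => FSch.IsCohF 𝔛 h 𝔊

/-- Zero is a filtered colimit of coherent modules. -/
theorem containsZero_indCoh (h𝔛 : 𝔛.IsLocNoethFormal) : (indCoh 𝔛 h𝔛.1).ContainsZero := by
  let F : Discrete PEmpty.{u + 1} ⥤ FSch.ModF 𝔛 h𝔛.1 := Functor.empty _
  obtain ⟨h₁, h₂⟩ := pc_genC_of_isColimit h𝔛 (colimit.isColimit F) (fun j => j.as.elim)
    fun j => j.as.elim
  refine ⟨⟨colimit F, ?_, ind_of_pc_genC h𝔛 h₁ h₂⟩⟩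
  rw [IsZero.iff_id_eq_zero]
  exact colimit.hom_ext fun j => j.as.elim

variable (h𝔛 : 𝔛.IsLocNoethFormal)

include h𝔛

/-- Filtered colimits of coherent modules have no higher cohomology on affine opens. -/
theorem subsingleton_HU_affine {M : FSch.ModF 𝔛 h} (hM : PC M) (hgen : GenC M)
    {V : (𝔛.X 0).Opens} (hV : IsAffineOpen V) (n : ℕ) :
    Subsingleton (ModSite.HU (𝔛.Osh h) M (n + 1) V) :=
  SiteBase.subsingleton_HU_of_class
    (J := Opens.grothendieckTopology (𝔛.X 0).toPresheafedSpace.carrier)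
    (fun G => (QCoh.stdCovers (𝔛.X 0)).Acyclic G) (fun W => IsAffineOpen W)
    (fun E hE h₁ h₂ => QCoh.Ab.Acyclic_X₃ (QCoh.stdCovers (𝔛.X 0)) hE h₁
      fun _ _ _ U _ => @QCoh.Ab.acyclic_of_injective _ E.X₂ h₂ _ U)
    (fun _ hE h₁ _ _ hW => QCoh.Ab.sections_surjective (QCoh.stdCovers (𝔛.X 0)) hE h₁ hW)
    (acyclic_of_pc_genC h𝔛 hM hgen) hV n

/-- The same, in the form of a bound. -/
theorem subsingleton_HU_affine_of_ind {M : FSch.ModF 𝔛 h} (hM : indCoh 𝔛 h M)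
    {V : (𝔛.X 0).Opens} (hV : IsAffineOpen V) (k : ℕ) (hk : 0 < k) :
    Subsingleton (ModSite.HU (𝔛.Osh h) M k V) := by
  obtain ⟨n, rfl⟩ := Nat.exists_eq_add_of_le' hk
  obtain ⟨h₁, h₂⟩ := pc_genC_of_ind h𝔛 hM
  exact subsingleton_HU_affine h𝔛 h₁ h₂ hV n

omit h𝔛 in
/-- Affine opens cover. -/
theorem isCoveredBy_affine (X : Scheme.{u}) :
    DLim.IsCoveredBy (Opens.grothendieckTopology X.toPresheafedSpace.carrier)
      {W : X.Opens | IsAffineOpen W} :=
  DLim.isCoveredBy_of_isBasis X.isBasis_affineOpens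

variable {𝔜 : FSch.Sys.{u}} (h' : 𝔜.IsFormal) (g : 𝔛 ⟶ 𝔜) [IsAffineHom ((g : FSch.Hom 𝔛 𝔜).app 0)]

/-- Higher direct images along an affine morphism vanish. -/
theorem isZero_RpushF_affine [HasInjectiveResolutions (FSch.ModF 𝔛 h)] {M : FSch.ModF 𝔛 h}
    (hM : indCoh 𝔛 h M) (i : ℕ) (hi : 0 < i) : IsZero ((FSch.RpushF g h h' i).obj M) :=
  isZero_Rpush_of_bound (FSch.homMor g h h') (isCoveredBy_affine (𝔜.X 0)) M 0
    (fun V hV k hk => subsingleton_HU_affine_of_ind h𝔛 hM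
      (IsAffineOpen.preimage (show IsAffineOpen (V : (𝔜.X 0).Opens) from hV)
        ((g : FSch.Hom 𝔛 𝔜).app 0)) k hk) i hi

end Groth.Agent.FTors52
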