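import Groth.Agent.FFun.GenModule

/-!
# The Mittag-Leffler condition for a tower with finitely generated graded obstructions

The setting is the long exact sequence of the tower of the truncations of an adic system: `H k` are
the groups of level `k`, `N k` the obstruction groups for lifting from level `k` to level `k + 1`,
and the operators of degree one come from multiplication by generators of the ideal.
-/

set_option autoImplicit false

universe u v w

namespace Groth.Agent.FTors52

section Tower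

variable {H : ℕ → Type v} [∀ k, AddCommGroup (H k)] (t : ∀ k, H (k + 1) →+ H k)

/-- The image `r` levels below is zero. -/
def Vanishes : ∀ (r k : ℕ), H k → Prop
  | 0, _, x => x = 0
  | _ + 1, 0, _ => True
  | r + 1, k + 1, x => Vanishes r k (t k x)

theorem vanishes_zero : ∀ r k, Vanishes t r k (0 : H k)
  | 0, _ => rfl
  | _ + 1, 0 => trivial
  | r + 1, k + 1 => by
    change Vanishes t r k (t k 0)
    rw [map_zero]
    exact vanishes_zero r k

theorem vanishes_add : ∀ r k (x y : H k), Vanishes t r k x → Vanishes t r k y →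
    Vanishes t r k (x + y)
  | 0, _, x, y, hx, hy => by
    change x = 0 at hx
    change y = 0 at hy
    change x + y = 0
    rw [hx, hy, add_zero]
  | _ + 1, 0, _, _, _, _ => trivial
  | r + 1, k + 1, x, y, hx, hy => by
    change Vanishes t r k (t k (x + y))
    rw [map_add]
    exact vanishes_add r k _ _ hx hy

theorem vanishes_map (s : ∀ k, H k →+ H k) (hs : ∀ k x, t k (s (k + 1) x) = s k (t k x)) :
    ∀ r k (x : H k), Vanishes t r k x → Vanishes t r k (s k x)
  | 0, k, x, hx => by
    change x = 0 at hx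
    change s k x = 0
    rw [hx, map_zero]
  | _ + 1, 0, _, _ => trivial
  | r + 1, k + 1, x, hx => by
    change Vanishes t r k (t k (s (k + 1) x))
    rw [hs]
    exact vanishes_map s hs r k _ hx

theorem vanishes_mono : ∀ r k (x : H k), Vanishes t r k x → Vanishes t (r + 1) k x
  | _, 0, _, _ => trivial
  | 0, k + 1, x, hx => by
    change x = 0 at hx
    change t k x = 0
    rw [hx, map_zero]
  | r + 1, k + 1, x, hx => vanishes_mono r k _ hx

theorem vanishes_top : ∀ k (x : H k), Vanishes t (k + 1) k x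
  | 0, _ => trivial
  | k + 1, x => vanishes_top k (t k x)

theorem vanishes_of_le {r r' k : ℕ} (hr : r ≤ r') {x : H k} (hx : Vanishes t r k x) :
    Vanishes t r' k x :=
  Nat.le_induction hx (fun m _ hm => vanishes_mono t m k x hm) r' hr

theorem vanishes_shift (μ : ∀ k, H k →+ H (k + 1))
    (hμ : ∀ k x, t (k + 1) (μ (k + 1) x) = μ k (t k x)) (hμ₀ : ∀ x, t 0 (μ 0 x) = 0) :
    ∀ r k (x : H k), Vanishes t r k x → Vanishes t r (k + 1) (μ k x)
  | 0, k, x, hx => by
    change x = 0 at hx
    change μ k x = 0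
    rw [hx, map_zero]
  | r + 1, 0, x, _ => by
    change Vanishes t r 0 (t 0 (μ 0 x))
    rw [hμ₀]
    exact vanishes_zero t r 0
  | r + 1, k + 1, x, hx => by
    change Vanishes t r (k + 1) (t (k + 1) (μ (k + 1) x))
    rw [hμ]
    exact vanishes_shift μ hμ hμ₀ r k _ hx

/-- The composite of `j` transition maps. -/
def trN : ∀ (j n : ℕ), H (n + j) →+ H n
  | 0, n => AddMonoidHom.id (H n)
  | j + 1, n => (trN j n).comp (t (n + j))

theorem trN_eq_zero : ∀ (r n : ℕ) (x : H (n + r)), Vanishes t r (n + r) x → trN t r n x = 0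
  | 0, _, _, hx => hx
  | r + 1, n, x, hx => trN_eq_zero r n (t (n + r) x) hx

theorem exists_trN_eq (r : ℕ)
    (hr : ∀ k (x : H k), ∃ x' : H (k + 1), Vanishes t r k (t k x' - x)) (n : ℕ) :
    ∀ (j : ℕ), r ≤ j → ∀ x : H (n + r), ∃ z : H (n + j), trN t j n z = trN t r n x := by
  intro j hj x
  induction j, hj using Nat.le_induction with
  | base => exact ⟨x, rfl⟩
  | succ j hj ih =>
    obtain ⟨z, hz⟩ := ih
    obtain ⟨z', hz'⟩ := hr (n + j) z
    refine ⟨z', Eq.trans ?_ hz⟩
    have h0 := trN_eq_zero t j n _ (vanishes_of_le t hj hz')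
    rw [map_sub, sub_eq_zero] at h0
    exact h0

theorem heq_map {a b : ℕ} (e : a = b) (x : H (a + 1)) (y : H (b + 1)) (h : HEq x y) :
    HEq (t a x) (t b y) := by
  subst e
  cases h
  rfl

theorem trN_succ' : ∀ (j n : ℕ) (x : H (n + (j + 1))) (y : H (n + 1 + j)),
    HEq x y → trN t (j + 1) n x = t n (trN t j (n + 1) y)
  | 0, n, x, y, h => by
    obtain rfl := eq_of_heq h
    rfl
  | j + 1, n, x, y, h => by
    exact trN_succ' j n (t (n + (j + 1)) x) (t (n + 1 + j) y)
      (heq_map t (Nat.succ_add n j).symm x y h)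

/-- Every element of a stable image lifts to a stable image. -/
theorem exists_stable_lift (r : ℕ)
    (hr : ∀ k (x : H k), ∃ x' : H (k + 1), Vanishes t r k (t k x' - x)) (n : ℕ) (x : H (n + r)) :
    ∃ z : H (n + 1 + r), t n (trN t r (n + 1) z) = trN t r n x := by
  obtain ⟨z, hz⟩ := exists_trN_eq t r hr n (r + 1) (Nat.le_succ r) x
  refine ⟨cast (congrArg H (show n + (r + 1) = n + 1 + r by omega)) z, ?_⟩
  rw [← trN_succ' t r n z _ (cast_heq _ z).symm, hz]

/-- The derived limit of the tower vanishes. -/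
theorem exists_sub_eq (r : ℕ) (hr : ∀ k (x : H k), ∃ x' : H (k + 1), Vanishes t r k (t k x' - x))
    (b : ∀ n, H n) : ∃ w : ∀ n, H n, ∀ n, w n - t n (w (n + 1)) = b n := by
  -- remove the part of the family coming from the next `r` levels
  have hstep : ∀ j, ∃ c : ∀ n, H n, ∀ n, ∃ x : H (n + j),
      c n - t n (c (n + 1)) = b n - trN t j n x := fun j => by
    induction j with
    | zero => exact ⟨fun _ => 0, fun n => ⟨b n, by
        change (0 : H n) - t n 0 = b n - b n
        rw [map_zero, sub_zero, sub_self]⟩⟩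
    | succ j ih =>
      obtain ⟨c, hc⟩ := ih
      choose x hx using hc
      refine ⟨fun n => c n + trN t j n (x n), fun n => ?_⟩
      let z : H (n + (j + 1)) := cast (congrArg H (show n + 1 + j = n + (j + 1) by omega)) (x (n + 1))
      refine ⟨z, ?_⟩
      rw [trN_succ' t j n z (x (n + 1)) (cast_heq _ _), map_add]
      have h := hx n
      rw [sub_eq_iff_eq_add] at h
      change c n + _ - _ = _
      rw [h]
      abel
  obtain ⟨c, hc⟩ := hstep r
  choose x hx using hc
  choose g hg using fun n (y : H (n + r)) => exists_stable_lift t r hr n y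
  let w : ∀ n, H (n + r) := fun n => Nat.rec 0 (fun k wk => g k (wk - x k)) n
  refine ⟨fun n => c n + trN t r n (w n), fun n => ?_⟩
  rw [map_add, show w (n + 1) = g n (w n - x n) from rfl, hg, map_sub]
  have h := hx n
  rw [sub_eq_iff_eq_add] at h
  change c n + _ - _ = _
  rw [h]
  abel

end Tower

section Graded

variable {R : Type u} [CommRing R] [IsNoetherianRing R] {d : ℕ}
  {N : ℕ → Type w} [∀ k, AddCommGroup (N k)] [∀ k, Module R (N k)] [∀ k, Module.Finite R (N k)]
  (T : ∀ k, Fin d → (N k →ₗ[R] N (k + 1)))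
  {H : ℕ → Type v} [∀ k, AddCommGroup (H k)] (t : ∀ k, H (k + 1) →+ H k)
  (δ : ∀ k, H k →+ N k) (σ : R → ∀ k, H k →+ H k) (μ : ∀ k, Fin d → (H k →+ H (k + 1)))

/-- The obstructions of the elements vanishing `r` levels below. -/
def obstr (hσt : ∀ a k x, t k (σ a (k + 1) x) = σ a k (t k x))
    (hσδ : ∀ a k x, δ k (σ a k x) = a • δ k x) (r k : ℕ) : Submodule R (N k) where
  carrier := {z | ∃ x : H k, Vanishes t r k x ∧ δ k x = z}
  zero_mem' := ⟨0, vanishes_zero t r k, map_zero _⟩
  add_mem' := by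
    rintro _ _ ⟨x, hx, rfl⟩ ⟨y, hy, rfl⟩
    exact ⟨x + y, vanishes_add t r k x y hx hy, map_add _ _ _⟩
  smul_mem' := by
    rintro a _ ⟨x, hx, rfl⟩
    exact ⟨σ a k x, vanishes_map t (σ a) (hσt a) r k x hx, hσδ a k x⟩

/-- A uniform bound for lifting: every element is, up to an element vanishing `r` levels below,
the image of an element of the next level. -/
theorem exists_lift_bound (hT : ∀ k i j x, T (k + 1) i (T k j x) = T (k + 1) j (T k i x)) {d₀ : ℕ}
    (hgen : ∀ k, d₀ ≤ k → ⨆ i, LinearMap.range (T k i) = ⊤)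
    (hσt : ∀ a k x, t k (σ a (k + 1) x) = σ a k (t k x))
    (hσδ : ∀ a k x, δ k (σ a k x) = a • δ k x)
    (hμt : ∀ k i x, t (k + 1) (μ (k + 1) i x) = μ k i (t k x))
    (hμ₀ : ∀ i x, t 0 (μ 0 i x) = 0)
    (hμδ : ∀ k i x, δ (k + 1) (μ k i x) = T k i (δ k x))
    (hex : ∀ k x, δ k x = 0 → ∃ x', t k x' = x) :
    ∃ r, ∀ k (x : H k), ∃ x' : H (k + 1), Vanishes t r k (t k x' - x) := by
  let B := obstr t δ σ hσt hσδ
  have hstab : ∀ r k i, ∀ z ∈ B r k, T k i z ∈ B r (k + 1) := by
    rintro r k i _ ⟨x, hx, rfl⟩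
    exact ⟨μ k i x, vanishes_shift t (fun k => μ k i) (fun k x => hμt k i x) (hμ₀ i) r k x hx,
      hμδ k i x⟩
  obtain ⟨e, he⟩ := FFun.Gen.exists_gen_sub T hT hgen (fun k => B (k + 1) k) fun k i z hz => by
    obtain ⟨x, hx, hxz⟩ := hstab (k + 1) k i z hz
    exact ⟨x, vanishes_mono t _ _ x hx, hxz⟩
  have key : ∀ k, B (k + 1) k ≤ B (e + 1) k := by
    intro k
    induction k with
    | zero =>
      rintro _ ⟨x, -, rfl⟩
      exact ⟨x, vanishes_of_le t (by omega) (vanishes_top t 0 x), rfl⟩
    | succ k ih =>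
      rcases le_or_gt e k with hk | hk
      · refine (he k hk).trans (iSup_le fun i => ?_)
        rintro _ ⟨z, hz, rfl⟩
        exact hstab (e + 1) k i z (ih hz)
      · rintro _ ⟨x, -, rfl⟩
        exact ⟨x, vanishes_of_le t (by omega) (vanishes_top t (k + 1) x), rfl⟩
  refine ⟨e + 1, fun k x => ?_⟩
  obtain ⟨y, hy, hxy⟩ := key k ⟨x, vanishes_top t k x, rfl⟩
  obtain ⟨x', hx'⟩ := hex k (x - y) (by rw [map_sub, hxy, sub_self])
  refine ⟨x', ?_⟩
  rw [hx', sub_sub_cancel_left]
  exact vanishes_map t (fun k => -AddMonoidHom.id (H k))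
    (fun k x => map_neg (t k) x) _ k y hy

end Graded

end Groth.Agent.FTors52
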