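import Groth.Agent.FTors52.LvlMul
import Groth.Agent.FTors52.TowerML
import Groth.Agent.DSites.ForgetAb
import Groth.Agent.FFun.GenSheaf
import Groth.Agent.S0002

/-!
# Cohomology of the truncations of a coherent module on a formal scheme proper over a formal spectrum
-/

set_option autoImplicit false

universe u

open CategoryTheory CategoryTheory.Limits AlgebraicGeometry Opposite TopologicalSpace

namespace Groth.Agent.FTors52

attribute [local instance] Groth.Agent.QCoh.hasFiniteBiproducts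

open FMod90
open Groth.Agent.PnCoh.Finite (mapLin)

variable {A : Type u} [CommRing A] {J : Ideal A} {𝔛 : FSch.Sys.{u}} {h : 𝔛.IsFormal}
  (f : 𝔛 ⟶ FSch.spf A J)

theorem gInv_zero (h : 𝔛.IsFormal) : 𝔛.gInv h 0 = 𝟙 _ := by
  have e := 𝔛.toX_base_gInv h 0
  have : (𝔛.toX 0).base = 𝟙 _ := by
    change (𝟙 (𝔛.X 0) : 𝔛.X 0 ⟶ 𝔛.X 0).base = 𝟙 _
    rfl
  rw [this, Category.id_comp] at e
  exact e

theorem lvU_zero' (h : 𝔛.IsFormal) (U : (𝔛.X 0).Opens) : 𝔛.lvU h 0 U = U := by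
  change (Opens.map (𝔛.gInv h 0)).obj U = U
  rw [gInv_zero]
  rfl

/-- Abelian sheaves underlying modules on the formal scheme. -/
noncomputable abbrev abFun (h : 𝔛.IsFormal) :
    FSch.ModF 𝔛 h ⥤ Sheaf (Opens.grothendieckTopology (𝔛.X 0).toPresheafedSpace.carrier) AddCommGrpCat.{u} :=
  SheafOfModules.toSheaf (ModSite.ringSh (𝔛.Osh h))

/-- The abelian sheaf of the direct image from the smallest level. -/
noncomputable def pushZeroIso (h : 𝔛.IsFormal) (M : (𝔛.X 0).Modules) :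
    (abFun h).obj ((FSch.levelMor 𝔛 h 0).push.obj M) ≅ (QCoh.toAbFunctor (𝔛.X 0)).obj M :=
  (fullyFaithfulSheafToPresheaf _ _).preimageIso
    (NatIso.ofComponents (fun U => M.presheaf.mapIso (eqToIso (congrArg op (lvU_zero' h U.unop))))
      fun {U V} i => by
        change M.presheaf.map _ ≫ M.presheaf.map _ = M.presheaf.map _ ≫ M.presheaf.map _
        rw [← Functor.map_comp, ← Functor.map_comp]
        exact congrArg M.presheaf.map (Subsingleton.elim _ _))

theorem pushZeroIso_app (h : 𝔛.IsFormal) (M : (𝔛.X 0).Modules) (U : (Opens (𝔛.X 0))ᵒᵖ) :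
    (pushZeroIso h M).hom.hom.app U =
      M.presheaf.map (eqToHom (congrArg op (lvU_zero' h U.unop))) := rfl

theorem pushZeroIso_natural (h : 𝔛.IsFormal) {M N : (𝔛.X 0).Modules} (φ : M ⟶ N) :
    (abFun h).map ((FSch.levelMor 𝔛 h 0).push.map φ) ≫ (pushZeroIso h N).hom =
      (pushZeroIso h M).hom ≫ (QCoh.toAbFunctor (𝔛.X 0)).map φ := by
  apply Sheaf.hom_ext
  ext U x
  exact (app_map φ (eqToHom (congrArg op (lvU_zero' h U.unop))) x).symm

/-- The smallest level over the base ring. -/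
noncomputable abbrev baseZero : 𝔛.X 0 ⟶ Spec (CommRingCat.of A) :=
  (f : FSch.Hom 𝔛 (FSch.spf A J)).app 0 ≫ FSch.spfToSpec A J 0

/-- The smallest level as a scheme over the base ring. -/
@[reducible] noncomputable def overZero : (𝔛.X 0).Over (Spec (CommRingCat.of A)) := ⟨baseZero f⟩

theorem resTop_toGlobal (a : A) (U : (𝔛.X 0).Opens) :
    Coh.resTop (𝔛.X 0) (op (𝔛.lvU h 0 U))
        (Coh.toGlobal (baseZero f) a) = pr h U 0 ((scal f a).1 U) := by
  rw [pr_scal]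
  change (𝔛.X 0).presheaf.map (homOfLE le_top).op
      ((baseZero f).appTop ((Scheme.ΓSpecIso (CommRingCat.of A)).inv a)) = _
  have e1 : (baseZero f).appTop = (FSch.spfToSpec A J 0).appTop ≫
      ((f : FSch.Hom 𝔛 (FSch.spf A J)).app 0).appTop := Scheme.Hom.comp_appTop _ _
  rw [e1]
  have e2 : (FSch.spfToSpec A J 0).appTop ((Scheme.ΓSpecIso (CommRingCat.of A)).inv a) =
      (Scheme.ΓSpecIso (CommRingCat.of (A ⧸ J ^ (0 + 1)))).inv (Ideal.Quotient.mk (J ^ (0 + 1)) a) :=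
    congr($((Scheme.ΓSpecIso_inv_naturality (CommRingCat.ofHom (Ideal.Quotient.mk (J ^ (0 + 1))))).symm) a)
  refine (congrArg (fun z => (𝔛.X 0).presheaf.map (homOfLE le_top).op
    (((f : FSch.Hom 𝔛 (FSch.spf A J)).app 0).appTop z)) e2).trans ?_
  rfl

theorem smul_aux (a : A) (M : (𝔛.X 0).Modules) (U : (𝔛.X 0).Opens) (y : Γ(M, 𝔛.lvU h 0 U)) :
    M.presheaf.map (eqToHom (congrArg op (lvU_zero' h U))) (pr h U 0 ((scal f a).1 U) • y) =
      (show Γ(𝔛.X 0, U) from Coh.resTop (𝔛.X 0) (op U) (Coh.toGlobal (baseZero f) a)) •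
        (show Γ(M, U) from M.presheaf.map (eqToHom (congrArg op (lvU_zero' h U))) y) := by
  rw [show eqToHom (congrArg op (lvU_zero' h U)) = (homOfLE (lvU_zero' h U).ge).op from
    Subsingleton.elim _ _]
  refine (Scheme.Modules.map_smul M _ _ _).trans ?_
  refine congrArg (fun (z : Γ(𝔛.X 0, U)) => z •
    (show Γ(M, U) from M.presheaf.map (homOfLE (lvU_zero' h U).ge).op y)) ?_
  rw [← resTop_toGlobal f a U]
  exact Coh.resTop_comp _ _ _ _

theorem pushZeroIso_smul (a : A) (M : (𝔛.X 0).Modules) :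
    letI := overZero f
    (abFun h).map (sm f a ((FSch.levelMor 𝔛 h 0).push.obj M)) ≫ (pushZeroIso h M).hom =
      (pushZeroIso h M).hom ≫
        Coh.smulAb M (Coh.toGlobal ((𝔛.X 0) ↘ Spec (CommRingCat.of A)) a) := by
  apply Sheaf.hom_ext
  ext U x
  exact smul_aux f a M U.unop x

variable [IsNoetherianRing A] {𝔉 : FSch.ModF 𝔛 h} (h𝔛 : 𝔛.IsLocNoethFormal)
  (h𝔉 : FSch.IsCohF 𝔛 h 𝔉) (hf : FSch.IsProperHom f) (n : ℕ)

variable (𝔉) in
/-- The transition maps in cohomology. -/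
noncomputable def cohT (k : ℕ) :
    Sheaf.H ((abFun h).obj (lvlF h 𝔉 (k + 1))) n →+ Sheaf.H ((abFun h).obj (lvlF h 𝔉 k)) n :=
  Sheaf.H.map ((abFun h).map (lvlT h 𝔉 k)) n

include h𝔛 h𝔉 hf

/-- The Mittag-Leffler bound for the cohomology of the truncations. -/
theorem exists_coh_bound : ∃ r, ∀ (k : ℕ) (x : Sheaf.H ((abFun h).obj (lvlF h 𝔉 k)) n),
    ∃ x', Vanishes (H := fun k => Sheaf.H ((abFun h).obj (lvlF h 𝔉 k)) n) (cohT 𝔉 n) r k (cohT 𝔉 n k x' - x) := by
  classical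
  letI := overZero f
  have hp : IsProper ((f : FSch.Hom 𝔛 (FSch.spf A J)).app 0) := hf.2
  have : IsClosedImmersion (FSch.spfToSpec A J 0) :=
    IsClosedImmersion.spec_of_surjective (CommRingCat.ofHom _) Ideal.Quotient.mk_surjective
  have : IsProper ((𝔛.X 0) ↘ Spec (CommRingCat.of A)) :=
    inferInstanceAs (IsProper (baseZero f))
  have : CompactSpace (𝔛.X 0) :=
    QuasiCompact.compactSpace_of_compactSpace ((𝔛.X 0) ↘ Spec (CommRingCat.of A))
  have := h𝔛.2.2 0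
  have : IsNoetherian (𝔛.X 0) := {}
  obtain ⟨d, g, hg⟩ := Submodule.fg_iff_exists_fin_generating_family.mp (IsNoetherian.noetherian J)
  replace hg : Ideal.span (Set.range g) = J := hg
  have hmem : ∀ i, g i ∈ J := fun i => hg ▸ Ideal.subset_span ⟨i, rfl⟩
  let G : ℕ → FSch.ModF 𝔛 h := fun k => kernel (lvlT h 𝔉 k)
  let tt : ∀ k, Fin d → (G k ⟶ G (k + 1)) := fun k i => grMul h𝔛 h𝔉 hf.1 (hmem i) k
  let L := (FSch.levelMor 𝔛 h 0).pull
  let S : FFun.Gen.Sys (𝔛.X 0) d :=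
    { G := fun k => L.obj (G k)
      t := fun k i => L.map (tt k i)
      comm := fun k i j => (L.map_comp _ _).symm.trans
        ((congrArg L.map (grMul_comm h𝔛 h𝔉 hf.1 (hmem i) (hmem j) k)).trans (L.map_comp _ _)) }
  have hS : ∀ k, Coh.IsCoh (S.G k) := fun k => isCoh_pull h𝔛 (G k) (isCohF_gr h𝔛 h𝔉 k) 0
  have hgen : S.GenFrom 0 := fun k _ => Preadditive.epi_of_cancel_zero _ fun {Z} φ hφ => by
    refine ((FSch.levelMor 𝔛 h 0).adj.homEquiv _ _).injective ?_
    have h0 : ((FSch.levelMor 𝔛 h 0).adj.homEquiv (G (k + 1)) Z) φ = 0 := by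
      refine grMul_gen h𝔛 h𝔉 hf.1 hg hmem k _ fun i => ?_
      refine ((FSch.levelMor 𝔛 h 0).adj.homEquiv_naturality_left _ _).symm.trans ?_
      have e := congrArg (fun z => biproduct.ι (fun _ : ULift.{u} (Fin d) => S.G k) ⟨i⟩ ≫ z) hφ
      simp only [biproduct.ι_desc_assoc, comp_zero] at e
      refine (congrArg _ e).trans ?_
      exact (FSch.levelMor 𝔛 h 0).adj.homAddEquiv_zero _ _
    rw [h0]
    exact ((FSch.levelMor 𝔛 h 0).adj.homAddEquiv_zero _ _).symm
  obtain ⟨d₀, hd₀⟩ := FFun.Gen.exists_genHH (A := A) (fun M hM p => S0002.result A (𝔛.X 0) M hM p)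
    (n + 1) S hS 0 hgen
  haveI : ∀ k, Module.Finite A (Coh.HH (𝔛.X 0) (S.G k) (n + 1)) :=
    fun k => S0002.result A (𝔛.X 0) _ (hS k) _
  -- the comparison with the smallest level
  haveI : ∀ k, IsIso ((FSch.levelMor 𝔛 h 0).adj.unit.app (G k)) :=
    fun k => isIso_unit_gr h𝔛 h𝔉 hf.1 k
  let α : ∀ k, (abFun h).obj (G k) ≅ (QCoh.toAbFunctor (𝔛.X 0)).obj (S.G k) := fun k =>
    (abFun h).mapIso (asIso ((FSch.levelMor 𝔛 h 0).adj.unit.app (G k))) ≪≫ pushZeroIso h (S.G k)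
  have hαt : ∀ k i, (abFun h).map (tt k i) ≫ (α (k + 1)).hom =
      (α k).hom ≫ (QCoh.toAbFunctor (𝔛.X 0)).map (S.t k i) := fun k i => by
    have hn := (FSch.levelMor 𝔛 h 0).adj.unit.naturality (tt k i)
    simp only [α, Iso.trans_hom, Functor.mapIso_hom, asIso_hom, Category.assoc]
    rw [← pushZeroIso_natural, ← Functor.map_comp_assoc, ← Functor.map_comp_assoc]
    exact congrArg (fun z => (abFun h).map z ≫ _) hn
  have hαs : ∀ k a, (abFun h).map (sm f a (G k)) ≫ (α k).hom =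
      (α k).hom ≫ Coh.smulAb (S.G k) (Coh.toGlobal ((𝔛.X 0) ↘ Spec (CommRingCat.of A)) a) := fun k a => by
    let u := (FSch.levelMor 𝔛 h 0).adj.unit.app (G k)
    have e1 : (abFun h).map (sm f a (G k)) ≫ (abFun h).map u =
        (abFun h).map u ≫ (abFun h).map (sm f a _) :=
      ((abFun h).map_comp _ _).symm.trans ((congrArg (abFun h).map (sm_comm f a u)).trans
        ((abFun h).map_comp _ _))
    exact (Category.assoc _ _ _).symm.trans ((congrArg (· ≫ _) e1).trans ((Category.assoc _ _ _).trans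
      ((congrArg (_ ≫ ·) (pushZeroIso_smul f a (S.G k))).trans (Category.assoc _ _ _).symm)))
  -- the exact sequences of the levels
  have := DSites.preservesFiniteColimits_toSheaf (ModSite.ringSh (𝔛.Osh h))
  let T : ∀ k, ShortComplex (FSch.ModF 𝔛 h) := fun k =>
    ShortComplex.mk (kernel.ι (lvlT h 𝔉 k)) (lvlT h 𝔉 k) (kernel.condition _)
  have hT : ∀ k, (T k).ShortExact := fun k => by
    have := epi_lvlπ h𝔛 h𝔉 k
    have : Epi (lvlπ h 𝔉 (k + 1) ≫ lvlT h 𝔉 k) := by rw [π_T]; infer_instance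
    have : Epi (lvlT h 𝔉 k) := epi_of_epi (lvlπ h 𝔉 (k + 1)) _
    exact { exact := ShortComplex.exact_kernel _, mono_f := inferInstance, epi_g := inferInstance }
  have hTa : ∀ k, ((T k).map (abFun h)).ShortExact := fun k => (hT k).map_of_exact _
  let δ : ∀ k, Sheaf.H ((abFun h).obj (lvlF h 𝔉 k)) n →+ Coh.HH (𝔛.X 0) (S.G k) (n + 1) := fun k =>
    (Sheaf.H.map (α k).hom (n + 1)).comp
      (QCoh.Ab.connecting (X := (𝔛.X 0).toPresheafedSpace.carrier) (hTa k) n)
  refine exists_lift_bound (R := A) (fun k i => mapLin A (S.t k i) (n + 1)) (cohT 𝔉 n) δ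
    (fun a k => Sheaf.H.map ((abFun h).map (sm f a (lvlF h 𝔉 k))) n)
    (fun k i => Sheaf.H.map ((abFun h).map (lvlMul h𝔛 h𝔉 hf.1 (hmem i) k)) n)
    (fun k i j x => FFun.Gen.HH_comm S (n + 1) k i j x) hd₀ (fun a k x => ?_) (fun a k x => ?_)
    (fun k i x => ?_) (fun i x => ?_) (fun k i x => ?_) fun k x hx => ?_
  · refine PnCoh.Finite.map_map_eq (Y := (𝔛.X 0).toPresheafedSpace.carrier) ?_ n x
    rw [← Functor.map_comp, ← Functor.map_comp, sm_comm]
  · let φ : T k ⟶ T k :=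
      { τ₁ := sm f a _, τ₂ := sm f a _, τ₃ := sm f a _
        comm₁₂ := sm_comm f a _, comm₂₃ := sm_comm f a _ }
    have e := QCoh.Ab.connecting_naturality (X := (𝔛.X 0).toPresheafedSpace.carrier) (hTa k) (hTa k)
      ((abFun h).mapShortComplex.map φ) n x
    refine (congrArg (Sheaf.H.map (α k).hom (n + 1)) e.symm).trans ?_
    exact PnCoh.Finite.map_map_eq (Y := (𝔛.X 0).toPresheafedSpace.carrier) (hαs k a) (n + 1) _
  · refine PnCoh.Finite.map_map_eq (Y := (𝔛.X 0).toPresheafedSpace.carrier) ?_ n x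
    rw [← Functor.map_comp, ← Functor.map_comp, lvlMul_T]
  · refine (PnCoh.Finite.map_map (Y := (𝔛.X 0).toPresheafedSpace.carrier) (e := 0) ?_ n x).trans ?_
    · rw [← Functor.map_comp, lvlMul_T_zero, Functor.map_zero]
    · change ((Sheaf.functorH _ n).map 0).hom x = 0
      rw [Functor.map_zero]
      rfl
  · let φ : T k ⟶ T (k + 1) :=
      { τ₁ := tt k i, τ₂ := lvlMul h𝔛 h𝔉 hf.1 (hmem i) (k + 1)
        τ₃ := lvlMul h𝔛 h𝔉 hf.1 (hmem i) k
        comm₁₂ := grMul_ι h𝔛 h𝔉 hf.1 (hmem i) k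
        comm₂₃ := lvlMul_T h𝔛 h𝔉 hf.1 (hmem i) k }
    have e := QCoh.Ab.connecting_naturality (X := (𝔛.X 0).toPresheafedSpace.carrier) (hTa k) (hTa (k + 1))
      ((abFun h).mapShortComplex.map φ) n x
    refine (congrArg (Sheaf.H.map (α (k + 1)).hom (n + 1)) e.symm).trans ?_
    exact PnCoh.Finite.map_map_eq (Y := (𝔛.X 0).toPresheafedSpace.carrier) (hαt k i) (n + 1) _
  · refine (QCoh.Ab.connecting_eq_zero_iff (X := (𝔛.X 0).toPresheafedSpace.carrier) (hTa k) n x).1 ?_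
    have e := (congrArg (Sheaf.H.map (α k).inv (n + 1)) hx).trans (map_zero _)
    refine Eq.trans ?_ e
    refine Eq.trans (Sheaf.H.map_id_apply _).symm ?_
    exact ((PnCoh.Finite.map_map (Y := (𝔛.X 0).toPresheafedSpace.carrier) (α k).hom_inv_id (n + 1)
      _).symm)

end Groth.Agent.FTors52
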