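import Groth.Agent.SiteBase.DLim.Single
import Groth.Agent.QCoh.Ab.Push

/-!
# The Milnor sequence for the limit of a tower of sheaves acyclic on a basis
-/

set_option autoImplicit false

universe u

open CategoryTheory CategoryTheory.Limits Opposite Pretriangulated DerivedCategory Abelian

namespace Groth.Agent.FTors52

open DLim

variable {C : Type u} [SmallCategory C] {J : GrothendieckTopology C}
  [HasDerivedCategory.{u} (Sheaf J AddCommGrpCat.{u})]
  {P : ℕ → Sheaf J AddCommGrpCat.{u}} {t : ∀ n, P (n + 1) ⟶ P n}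
  {F : Sheaf J AddCommGrpCat.{u}} {π : ∀ n, F ⟶ P n}

local notation "Φ" => singleFunctor (Sheaf J AddCommGrpCat) 0

/-- A derived limit of single objects is a limit, so it is the given one. -/
theorem isRlimVia_of_isLimit [HasProduct fun n => (Φ).obj (P n)] {B : Set C}
    (hB : IsCoveredBy J B)
    (h1 : ∀ U ∈ B, ∀ (p n : ℕ), Subsingleton (CohSite.HU (P n) (p + 1) U))
    (h2 : ∀ U ∈ B, CohCx.LimOneIsZero (fun n => (P n).obj.obj (op U))
      (fun n => ((t n).hom.app (op U)).hom))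
    (hπ : ∀ n, π (n + 1) ≫ t n = π n)
    (hext : ∀ {M : Sheaf J AddCommGrpCat.{u}} (a b : M ⟶ F), (∀ n, a ≫ π n = b ≫ π n) → a = b)
    (hlift : ∀ {M : Sheaf J AddCommGrpCat.{u}} (v : ∀ n, M ⟶ P n), (∀ n, v (n + 1) ≫ t n = v n) →
      ∃ a : M ⟶ F, ∀ n, a ≫ π n = v n) :
    CohCx.IsRlimVia (fun n => (Φ).obj (P n)) (fun n => (Φ).map (t n)) ((Φ).obj F)
      (fun n => (Φ).map (π n)) := by
  let G := limit (CohCx.opSequence P t)
  obtain ⟨a, c, hT⟩ : DCoh.IsRlim (fun n => (Φ).obj (P n)) (fun n => (Φ).map (t n)) ((Φ).obj G) :=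
    (isRlim_single P t hB h1 h2).1
  let aC := fun n => a ≫ Pi.π (fun n => (Φ).obj (P n)) n
  have hL : CohCx.IsRlimVia (fun n => (Φ).obj (P n)) (fun n => (Φ).map (t n)) ((Φ).obj G) aC :=
    ⟨c, by rw [show Pi.lift aC = a from Pi.hom_ext _ _ fun n => Pi.lift_π _ _]; exact hT⟩
  choose β hβ using fun n => (Φ).map_surjective (aC n)
  have hβt : ∀ n, β (n + 1) ≫ t n = β n := fun n => (Φ).map_injective (by
    rw [Functor.map_comp, hβ, hβ]; exact rlim_comp_t hL n)
  let s0 := shiftFunctorZero (DerivedCategory (Sheaf J AddCommGrpCat.{u})) ℤ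
  have uniq : ∀ {M : Sheaf J AddCommGrpCat.{u}} (x y : M ⟶ G), (∀ n, x ≫ β n = y ≫ β n) → x = y := by
    intro M x y hxy
    refine (Φ).map_injective (sub_eq_zero.1 ?_)
    refine (cancel_mono (s0.inv.app ((Φ).obj G))).1 (Eq.trans ?_ zero_comp.symm)
    refine rlim_eq_zero hL 0 (fun b => ⟨fun _ => 0, fun n => ?_⟩) _ fun n => ?_
    · rw [zero_comp, sub_zero]
      have : ((Φ).obj M).IsLE 0 := inferInstance
      have : (((Φ).obj (P n))⟦(0 : ℤ) - 1⟧).IsGE 1 :=
        DerivedCategory.TStructure.t.isGE_shift _ 0 (0 - 1) 1 (by omega)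
      exact (DerivedCategory.TStructure.t.zero (b n) 0 1 (by omega)).symm
    · rw [Category.assoc, ← NatTrans.naturality (s0.inv) (aC n), ← Category.assoc]
      have : ((Φ).map x - (Φ).map y) ≫ aC n = 0 := by
        rw [← hβ, Preadditive.sub_comp, ← Functor.map_comp, ← Functor.map_comp, hxy, sub_self]
      refine (congrArg (· ≫ s0.inv.app _) ?_).trans zero_comp
      exact this
  obtain ⟨y, hy⟩ := rlim_exists_lift hL 0 (fun n => (Φ).map (π n) ≫ s0.inv.app _) fun n => by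
    refine (Category.assoc _ _ _).trans ?_
    refine (congrArg ((Φ).map (π (n + 1)) ≫ ·) (s0.inv.naturality ((Φ).map (t n))).symm).trans ?_
    refine (Category.assoc _ _ _).symm.trans (congrArg (· ≫ s0.inv.app _) ?_)
    exact ((Φ).map_comp _ _).symm.trans (congrArg (Φ).map (hπ n))
  obtain ⟨φ, hφ'⟩ := (Φ).map_surjective (y ≫ s0.hom.app _)
  have hφ : ∀ n, φ ≫ β n = π n := fun n => (Φ).map_injective (by
    rw [Functor.map_comp, hφ', hβ, Category.assoc]
    refine (congrArg (y ≫ ·) (s0.hom.naturality (aC n)).symm).trans ?_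
    refine (Category.assoc _ _ _).symm.trans ((congrArg (· ≫ s0.hom.app _) (hy n)).trans ?_)
    refine (Category.assoc _ _ _).trans ?_
    exact (congrArg (_ ≫ ·) (s0.inv_hom_id_app _)).trans (Category.comp_id _))
  obtain ⟨ψ, hψ⟩ := hlift β hβt
  let e : F ≅ G := ⟨φ, ψ,
    hext _ _ fun n => by rw [Category.assoc, hψ, hφ, Category.id_comp],
    uniq _ _ fun n => by rw [Category.assoc, hφ, hψ, Category.id_comp]⟩
  refine ⟨c ≫ ((Φ).mapIso e).inv⟦(1 : ℤ)⟧', isomorphic_distinguished _ hT _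
    (Triangle.isoMk _ _ ((Φ).mapIso e) (Iso.refl _) (Iso.refl _) ?a ?b ?c)⟩
  case a =>
    refine (Category.comp_id _).trans (Pi.hom_ext _ _ fun n => ?_)
    refine (Pi.lift_π _ _).trans ?_
    refine Eq.trans ?_ (Category.assoc _ _ _).symm
    exact ((congrArg (Φ).map (hφ n)).symm.trans ((Φ).map_comp _ _)).trans (congrArg (_ ≫ ·) (hβ n))
  case b => exact (Category.comp_id _).trans (Category.id_comp _).symm
  case c =>
    refine (Category.assoc _ _ _).trans (Eq.trans ?_ (Category.id_comp c).symm)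
    refine (congrArg (c ≫ ·) ?_).trans (Category.comp_id c)
    exact (Functor.map_comp _ _ _).symm.trans
      ((congrArg _ ((Φ).mapIso e).inv_hom_id).trans (CategoryTheory.Functor.map_id _ _))

theorem homEquiv_map [HasSheafify J AddCommGrpCat.{u}] [HasExt.{u} (Sheaf J AddCommGrpCat.{u})]
    {G G' : Sheaf J AddCommGrpCat.{u}} (φ : G ⟶ G') (n : ℕ) (x : Sheaf.H G n) :
    Ext.homAddEquiv (Sheaf.H.map φ n x) = Ext.homAddEquiv x ≫ ((Φ).map φ)⟦(n : ℤ)⟧' := by
  rw [Sheaf.H.map_apply]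
  refine (Ext.comp_hom x (Ext.mk₀ φ) (add_zero n)).trans ?_
  rw [Ext.mk₀_hom]
  exact ShiftedHom.comp_mk₀ _ _ _ _

/-- The Milnor sequence, when the derived limit of the previous cohomology vanishes. -/
theorem milnor_H [HasSheafify J AddCommGrpCat.{u}] [HasExt.{u} (Sheaf J AddCommGrpCat.{u})]
    [HasProduct fun n => (Φ).obj (P n)]
    (hlim : CohCx.IsRlimVia (fun n => (Φ).obj (P n)) (fun n => (Φ).map (t n)) ((Φ).obj F)
      (fun n => (Φ).map (π n))) (n : ℕ)
    (hone : ∀ m, m + 1 = n → ∀ b : ∀ k, Sheaf.H (P k) m,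
      ∃ w : ∀ k, Sheaf.H (P k) m, ∀ k, w k - Sheaf.H.map (t k) m (w (k + 1)) = b k) :
    (∀ x : Sheaf.H F n, (∀ k, Sheaf.H.map (π k) n x = 0) → x = 0) ∧
    (∀ y : ∀ k, Sheaf.H (P k) n, (∀ k, Sheaf.H.map (t k) n (y (k + 1)) = y k) →
      ∃ x, ∀ k, Sheaf.H.map (π k) n x = y k) := by
  refine ⟨fun x hx => ?_, fun y hy => ?_⟩
  · refine Ext.homAddEquiv.injective ((rlim_eq_zero hlim (n : ℤ) (fun b => ?_) _ fun k => ?_).trans
      (map_zero _).symm)
    · rcases n with _ | m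
      · refine ⟨fun _ => 0, fun k => ?_⟩
        rw [zero_comp, sub_zero]
        have : (((Φ).obj (P k))⟦((0 : ℕ) : ℤ) - 1⟧).IsGE 1 :=
          DerivedCategory.TStructure.t.isGE_shift _ 0 _ 1 (by omega)
        exact (DerivedCategory.TStructure.t.zero (b k) 0 1 (by omega)).symm
      · have e : ((m + 1 : ℕ) : ℤ) - 1 = (m : ℤ) := by omega
        generalize ((m + 1 : ℕ) : ℤ) - 1 = q at b e
        subst e
        obtain ⟨w, hw⟩ := hone m rfl fun k => Ext.homAddEquiv.symm (b k)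
        refine ⟨fun k => Ext.homAddEquiv (w k), fun k => ?_⟩
        rw [← homEquiv_map, ← map_sub, hw, AddEquiv.apply_symm_apply]
    · rw [← homEquiv_map, hx, map_zero]
  · obtain ⟨z, hz⟩ := rlim_exists_lift hlim (n : ℤ) (fun k => Ext.homAddEquiv (y k)) fun k => by
      rw [← homEquiv_map, hy]
    refine ⟨Ext.homAddEquiv.symm z, fun k => Ext.homAddEquiv.injective ?_⟩
    rw [homEquiv_map, AddEquiv.apply_symm_apply]
    exact hz k

end Groth.Agent.FTors52
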