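import Groth.Agent.FTors52.LvlMul
import Groth.Agent.FTors52.AffVanish
import Groth.Agent.FTors52.SheafMilnor
import Groth.Agent.DSites.ForgetAb

/-!
# A coherent module is the derived limit of its truncations
-/

set_option autoImplicit false

universe u

open CategoryTheory CategoryTheory.Limits AlgebraicGeometry Opposite TopologicalSpace

namespace Groth.Agent.FTors52

open FMod90

variable {𝔛 : FSch.Sys.{u}} {h : 𝔛.IsFormal} {𝔉 : FSch.ModF 𝔛 h}
  (h𝔛 : 𝔛.IsLocNoethFormal) (h𝔉 : FSch.IsCohF 𝔛 h 𝔉)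

variable (h) in
/-- The abelian sheaves underlying the modules. -/
noncomputable abbrev abMod : FSch.ModF 𝔛 h ⥤
    Sheaf (Opens.grothendieckTopology (𝔛.X 0).toPresheafedSpace.carrier) AddCommGrpCat.{u} :=
  SheafOfModules.toSheaf (ModSite.ringSh (𝔛.Osh h))

include h𝔛 h𝔉

theorem levelSys_map_eq (k : ℕ) :
    (FSch.levelSysOf 𝔛 h (pullSys h 𝔉).F (pullSys h 𝔉).toPush).map (homOfLE (Nat.le_add_right k 1)).op =
      lvlT h 𝔉 k := by
  rw [FSch.levelSysOf_map_succ, toPush_pullSys]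
  rfl

/-- A coherent module is the limit of its truncations, as an abelian sheaf. -/
theorem lim_truncations
    {M : Sheaf (Opens.grothendieckTopology (𝔛.X 0).toPresheafedSpace.carrier) AddCommGrpCat.{u}} :
    (∀ a b : M ⟶ (abMod h).obj 𝔉,
      (∀ k, a ≫ (abMod h).map (lvlπ h 𝔉 k) = b ≫ (abMod h).map (lvlπ h 𝔉 k)) → a = b) ∧
    ∀ v : ∀ k, M ⟶ (abMod h).obj (lvlF h 𝔉 k),
      (∀ k, v (k + 1) ≫ (abMod h).map (lvlT h 𝔉 k) = v k) →
        ∃ a : M ⟶ (abMod h).obj 𝔉, ∀ k, a ≫ (abMod h).map (lvlπ h 𝔉 k) = v k := by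
  have := DSites.preservesLimits_toSheaf (ModSite.ringSh (𝔛.Osh h))
  have : IsIso ((limit.isLimit (FSch.levelSysOf 𝔛 h (pullSys h 𝔉).F (pullSys h 𝔉).toPush)).lift
      (pullCone h 𝔉)) := isIso_toRealMod h𝔛 h𝔉
  have hc : IsLimit (pullCone h 𝔉) := IsLimit.ofPointIso (limit.isLimit _)
  have : PreservesLimitsOfSize.{0, 0} (abMod h) := preservesLimitsOfSize_shrink.{0, u, 0, u} (abMod h)
  have hc' := isLimitOfPreserves (abMod h) hc
  refine ⟨fun a b hab => hc'.hom_ext fun k => hab k.unop, fun v hv => ?_⟩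
  let c : Cone (FSch.levelSysOf 𝔛 h (pullSys h 𝔉).F (pullSys h 𝔉).toPush ⋙ abMod h) :=
    { pt := M
      π := NatTrans.ofOpSequence v fun k => by
        simp only [Functor.const_obj_obj, Functor.const_obj_map, Functor.comp_map]
        refine (Category.id_comp _).trans (Eq.trans (hv k).symm ?_)
        exact congrArg (fun z => v (k + 1) ≫ (abMod h).map z) (levelSys_map_eq h𝔛 h𝔉 k).symm }
  exact ⟨hc'.lift c, fun k => hc'.fac c (op k)⟩

theorem epi_lvlT (k : ℕ) : Epi (lvlT h 𝔉 k) := by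
  have := epi_lvlπ h𝔛 h𝔉 k
  have : Epi (lvlπ h 𝔉 (k + 1) ≫ lvlT h 𝔉 k) := by rw [π_T]; infer_instance
  exact epi_of_epi (lvlπ h 𝔉 (k + 1)) _

variable [HasDerivedCategory.{u}
  (Sheaf (Opens.grothendieckTopology (𝔛.X 0).toPresheafedSpace.carrier) AddCommGrpCat.{u})]
  [HasProduct fun k => (DerivedCategory.singleFunctor
    (Sheaf (Opens.grothendieckTopology (𝔛.X 0).toPresheafedSpace.carrier) AddCommGrpCat.{u}) 0).obj
      ((abMod h).obj (lvlF h 𝔉 k))]

/-- A coherent module is the derived limit of its truncations. -/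
theorem isRlimVia_truncations :
    CohCx.IsRlimVia
      (fun k => (DerivedCategory.singleFunctor _ 0).obj ((abMod h).obj (lvlF h 𝔉 k)))
      (fun k => (DerivedCategory.singleFunctor _ 0).map ((abMod h).map (lvlT h 𝔉 k)))
      ((DerivedCategory.singleFunctor _ 0).obj ((abMod h).obj 𝔉))
      (fun k => (DerivedCategory.singleFunctor _ 0).map ((abMod h).map (lvlπ h 𝔉 k))) := by
  refine isRlimVia_of_isLimit (isCoveredBy_affine (𝔛.X 0)) (fun U hU p k => ?_) (fun U hU b => ?_)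
    (fun k => ((abMod h).map_comp _ _).symm.trans (congrArg (abMod h).map (π_T 𝔉 k)))
    (fun a b => (lim_truncations h𝔛 h𝔉).1 a b) (fun v => (lim_truncations h𝔛 h𝔉).2 v)
  · have hP := isCohF_lvlF h𝔛 h𝔉 k
    exact subsingleton_HU_affine_of_ind h𝔛 (ObjectProperty.le_ind _ _ hP) hU (p + 1) p.succ_pos
  · obtain ⟨K, hK⟩ := exists_isAdicRing h𝔛 (show IsAffineOpen (U : (𝔛.X 0).Opens) from hU)
    have hs : ∀ k (z : Sec (lvlF h 𝔉 k) U), ∃ z', appL (lvlT h 𝔉 k) U z' = z := fun k z => by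
      obtain ⟨y, rfl⟩ := (lvl_affine h𝔛 h𝔉 _ hK k).1 z
      exact ⟨appL (lvlπ h 𝔉 (k + 1)) U y, (appL_comp _ _ U y).symm.trans (by rw [π_T])⟩
    choose g hg using hs
    let w : ∀ k, Sec (lvlF h 𝔉 k) U := fun k => Nat.rec 0 (fun j wj => g j (wj - (show Sec (lvlF h 𝔉 j) U from b j))) k
    refine ⟨w, funext fun k => ?_⟩
    change w k - appL (lvlT h 𝔉 k) U (g k (w k - (show Sec (lvlF h 𝔉 k) U from b k))) = b k
    rw [hg]
    exact sub_sub_cancel _ _

end Groth.Agent.FTors52
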