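import Groth.Agent.SiteBase.NervePush
import Groth.Agent.SiteBase.ModKill
import Groth.Agent.SiteBase.HKRep
import Groth.Agent.DSites.ForgetAb
import Groth.Agent.FMod90.Basic
import Groth.Prelude.Def_RDer

/-!
# Sections of higher direct images as derived functors of sections
-/

set_option autoImplicit false

universe u

open CategoryTheory CategoryTheory.Limits Opposite TopologicalSpace

namespace Groth.Agent.FTors52

open FMod90

section Acy

variable {C : Type u} [SmallCategory C] {J : GrothendieckTopology C}
  (O : Sheaf J CommRingCat.{u})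

/-- No higher cohomology on an object. -/
abbrev AcyAt (U : C) (M : ModSite.Mod O) : Prop :=
  ∀ p : ℕ, Subsingleton (ModSite.HU O M (p + 1) U)

/-- No higher cohomology on any object. -/
abbrev AllAcy (M : ModSite.Mod O) : Prop := ∀ U : C, AcyAt O U M

theorem allAcy_of_injective (I : ModSite.Mod O) [Injective I] : AllAcy O I := fun _ p =>
  SiteBase.subsingleton_HU_of_totallyAcyclic
    (SiteBase.isTotallyAcyclic_toSheaf_injective (ModSite.ringSh O) I) _ p

variable {O} {D : Type u} [SmallCategory D] {K : GrothendieckTopology D}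
  {O' : Sheaf K CommRingCat.{u}}

/-- Direct images preserve the absence of higher cohomology. -/
theorem allAcy_push (f : ModSite.RMor O O') {M : ModSite.Mod O} (hM : AllAcy O M) :
    AllAcy O' (f.push.obj M) := fun V p =>
  SiteBase.subsingleton_HU_push (J := J) (K := K) f.fn (ModSite.toAb M) (fun U q => hM U q) V p

end Acy

section Complex

variable {T : TopCat.{u}} {O : Sheaf (Opens.grothendieckTopology T) CommRingCat.{u}} (V : Opens T)

/-- Sections over an open, as a functor to abelian groups. -/
noncomputable def secV : ModSite.Mod O ⥤ AddCommGrpCat.{u} :=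
  SheafOfModules.toSheaf (ModSite.ringSh O) ⋙ sheafToPresheaf _ _ ⋙
    (evaluation _ _).obj (op V)

instance additive_secV : (secV (O := O) V).Additive where
  map_add := by intros; rfl

instance preservesFiniteLimits_secV : PreservesFiniteLimits (secV (O := O) V) := by
  have := DSites.preservesLimits_toSheaf (ModSite.ringSh O)
  have : PreservesLimitsOfSize.{0, 0} (SheafOfModules.toSheaf (ModSite.ringSh O)) :=
    preservesLimitsOfSize_shrink.{0, u, 0, u} _
  have : PreservesFiniteLimits (SheafOfModules.toSheaf (ModSite.ringSh O)) :=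
    ⟨fun _ => inferInstance⟩
  have : PreservesFiniteLimits (sheafToPresheaf (Opens.grothendieckTopology T) AddCommGrpCat.{u} ⋙
      (evaluation (Opens T)ᵒᵖ AddCommGrpCat.{u}).obj (op V)) := comp_preservesFiniteLimits _ _
  exact comp_preservesFiniteLimits _ _

variable {V}

theorem shortExact_toAb {S : ShortComplex (ModSite.Mod O)} (hS : S.ShortExact) :
    (S.map (SheafOfModules.toSheaf (ModSite.ringSh O))).ShortExact :=
  have := DSites.preservesFiniteColimits_toSheaf (ModSite.ringSh O)
  have := DSites.preservesLimits_toSheaf (ModSite.ringSh O)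
  have : PreservesLimitsOfSize.{0, 0} (SheafOfModules.toSheaf (ModSite.ringSh O)) :=
    preservesLimitsOfSize_shrink.{0, u, 0, u} _
  have : PreservesFiniteLimits (SheafOfModules.toSheaf (ModSite.ringSh O)) :=
    ⟨fun _ => inferInstance⟩
  hS.map_of_exact _

theorem acyAt_X₂ {S : ShortComplex (ModSite.Mod O)} (hS : S.ShortExact)
    (h₁ : AcyAt O V S.X₁) (h₃ : AcyAt O V S.X₃) : AcyAt O V S.X₂ := fun p =>
  SiteBase.subsingleton_HU_X₂ (shortExact_toAb hS) V (p + 1) (h₁ p) (h₃ p)

theorem acyAt_X₃ {S : ShortComplex (ModSite.Mod O)} (hS : S.ShortExact)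
    (h₁ : AcyAt O V S.X₁) (h₂ : AcyAt O V S.X₂) : AcyAt O V S.X₃ := fun p =>
  SiteBase.subsingleton_HU_X₃ (shortExact_toAb hS) V (p + 1) (h₁ (p + 1)) (h₂ p)

theorem acyAt_of_isZero {M : ModSite.Mod O} (hM : IsZero M) : AcyAt O V M := fun p => by
  refine subsingleton_of_forall_eq 0
    fun (x : Abelian.Ext (CohCx.freeSheaf _ V) (ModSite.toAb M) (p + 1)) => ?_
  have hz : IsZero ((SheafOfModules.toSheaf (ModSite.ringSh O)).obj M) :=
    (SheafOfModules.toSheaf (ModSite.ringSh O)).map_isZero hM
  rw [← Abelian.Ext.comp_mk₀_id x, show 𝟙 (ModSite.toAb M) = 0 from hz.eq_of_src _ _,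
    Abelian.Ext.mk₀_zero, Abelian.Ext.comp_zero]
  rfl

theorem surjective_appL_g {S : ShortComplex (ModSite.Mod O)} (hS : S.ShortExact)
    (h₁ : AcyAt O V S.X₁) : Function.Surjective (appL S.g V) :=
  SiteBase.surjective_sections_of_HU_one (shortExact_toAb hS) V (h₁ 0)

variable (K : CochainComplex (ModSite.Mod O) ℕ)

/-- The exact sequence of cycles, terms and boundaries. -/
theorem shortExact_boundaries (j : ℕ) :
    ∃ (b : K.X j ⟶ kernel (K.homologyπ (j + 1))) (w : K.iCycles j ≫ b = 0),
      (ShortComplex.mk (K.iCycles j) b w).ShortExact ∧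
        b ≫ kernel.ι (K.homologyπ (j + 1)) = K.toCycles j (j + 1) := by
  let b := kernel.lift (K.homologyπ (j + 1)) (K.toCycles j (j + 1)) (K.toCycles_comp_homologyπ j (j + 1))
  have hb : b ≫ kernel.ι (K.homologyπ (j + 1)) = K.toCycles j (j + 1) := kernel.lift_ι _ _ _
  have hex : (ShortComplex.mk _ _ (K.toCycles_comp_homologyπ j (j + 1))).Exact :=
    ShortComplex.exact_of_g_is_cokernel _
      (K.homologyIsCokernel j (j + 1) (CochainComplex.prev_nat_succ j))
  have : Epi b := hex.epi_kernelLift
  have hw : K.iCycles j ≫ b = 0 := by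
    rw [← cancel_mono (kernel.ι (K.homologyπ (j + 1))), ← cancel_mono (K.iCycles (j + 1))]
    simp [hb]
  refine ⟨b, hw, { exact := ?_, mono_f := inferInstance, epi_g := inferInstance }, hb⟩
  refine ShortComplex.exact_of_f_is_kernel _ (KernelFork.IsLimit.ofι _ _
    (fun g hg => K.liftCycles g (j + 1) (by simp) ?_) (fun g hg => K.liftCycles_i _ _ _ _)
    (fun g hg m hm => (cancel_mono (K.iCycles j)).1 (hm.trans (K.liftCycles_i _ _ _ _).symm)))
  rw [← K.toCycles_i j (j + 1), ← hb, Category.assoc, reassoc_of% hg, zero_comp]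

theorem shortExact_homologyπ (j : ℕ) :
    (ShortComplex.mk (kernel.ι (K.homologyπ j)) (K.homologyπ j) (kernel.condition _)).ShortExact :=
  { exact := ShortComplex.exact_kernel _, mono_f := inferInstance, epi_g := inferInstance }

theorem isZero_boundaries_zero : IsZero (kernel (K.homologyπ 0)) := by
  have : IsIso (K.homologyπ 0) := K.isIso_homologyπ _ 0 rfl (K.shape _ _ (by simp))
  exact isZero_kernel_of_mono _

variable {K}

/-- Cycles and boundaries have no higher cohomology when terms and homology have none. -/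
theorem acyAt_cycles (hK : ∀ j, AcyAt O V (K.X j)) : ∀ (j : ℕ),
    (∀ i ≤ j, AcyAt O V (K.homology i)) →
      AcyAt O V (kernel (K.homologyπ j)) ∧ AcyAt O V (K.cycles j)
  | 0, hH => ⟨acyAt_of_isZero (isZero_boundaries_zero K),
      acyAt_X₂ (shortExact_homologyπ K 0) (acyAt_of_isZero (isZero_boundaries_zero K)) (hH 0 le_rfl)⟩
  | j + 1, hH => by
    obtain ⟨b, w, hS, -⟩ := shortExact_boundaries K j
    have hB : AcyAt O V (kernel (K.homologyπ (j + 1))) :=
      acyAt_X₃ hS (acyAt_cycles hK j fun i hi => hH i (hi.trans j.le_succ)).2 (hK j)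
    exact ⟨hB, acyAt_X₂ (shortExact_homologyπ K (j + 1)) hB (hH (j + 1) le_rfl)⟩

variable (K) (V)

theorem exists_secV_cycle (q : ℕ) (z : Sec (K.cycles q) V) :
    ∃ c, RDer.cyclesComparison (secV V) K q c = z := by
  let L := ((secV (O := O) V).mapHomologicalComplex (ComplexShape.up ℕ)).obj K
  have hd : (L.d q (q + 1)).hom (appL (K.iCycles q) V z) = 0 := by
    refine (appL_comp (K.iCycles q) (K.d q (q + 1)) V z).symm.trans ?_
    rw [K.iCycles_d]
    rfl
  have hex : (ShortComplex.mk (L.iCycles q) (L.d q (q + 1)) (L.iCycles_d _ _)).Exact :=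
    ShortComplex.exact_of_f_is_kernel _ (L.cyclesIsKernel q (q + 1) (by simp))
  obtain ⟨c, hc⟩ := (ShortComplex.ab_exact_iff _).1 hex (appL (K.iCycles q) V z) hd
  refine ⟨c, injective_of_mono (K.iCycles q) V ?_⟩
  exact (ConcreteCategory.congr_hom (RDer.cyclesComparison_i (secV V) K q) c).trans hc

/-- Every section of the homology sheaf comes locally from a class of a section. -/
theorem exists_lift_homologyComparison (q : ℕ) (s : Sec (K.homology q) V) (x : T) (hx : x ∈ V) :
    ∃ (W : Opens T) (hW : W ≤ V), x ∈ W ∧ ∀ (W' : Opens T) (hW' : W' ≤ W),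
      ∃ c, RDer.homologyComparison (secV W') K q c = res (K.homology q) (hW'.trans hW) s := by
  obtain ⟨W, hW, z, hxW, hz⟩ := locLift_of_epi (K.homologyπ q) s x hx
  refine ⟨W, hW, hxW, fun W' hW' => ?_⟩
  obtain ⟨c, hc⟩ := exists_secV_cycle W' K q (res _ hW' z)
  refine ⟨(((secV (O := O) W').mapHomologicalComplex _).obj K).homologyπ q c, ?_⟩
  refine (ConcreteCategory.congr_hom (RDer.homologyπ_homologyComparison (secV W') K q) c).trans ?_
  refine (congrArg (appL (K.homologyπ q) W') hc).trans ?_
  rw [← res_appL, hz, res_res]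

variable {K} {V}

/-- Sections of homology are the homology of sections, in the absence of higher cohomology. -/
theorem bijective_homologyComparison (hK : ∀ j, AcyAt O V (K.X j)) (q : ℕ)
    (hH : ∀ i ≤ q, AcyAt O V (K.homology i)) :
    Function.Bijective (RDer.homologyComparison (secV V) K q) := by
  let L := ((secV (O := O) V).mapHomologicalComplex (ComplexShape.up ℕ)).obj K
  have hπ : Function.Surjective (L.homologyπ q) :=
    (AddCommGrpCat.epi_iff_surjective _).1 inferInstance
  have he := fun c => ConcreteCategory.congr_hom (RDer.homologyπ_homologyComparison (secV V) K q) c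
  refine ⟨(injective_iff_map_eq_zero _).2 fun ξ hξ => ?_, fun s => ?_⟩
  · obtain ⟨c, rfl⟩ := hπ ξ
    obtain ⟨t, ht⟩ := exists_kernel_lift (K.homologyπ q) _ ((he c).symm.trans hξ)
    rcases q with _ | p
    · have h0 : t = 0 :=
        @Subsingleton.elim _ (AddCommGrpCat.subsingleton_of_isZero
          ((secV (O := O) V).map_isZero (isZero_boundaries_zero K))) t 0
      rw [h0, map_zero] at ht
      have hc : c = 0 := by
        refine (AddCommGrpCat.mono_iff_injective (L.iCycles 0)).1 inferInstance ?_
        rw [map_zero]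
        refine (ConcreteCategory.congr_hom (RDer.cyclesComparison_i (secV V) K 0) c).symm.trans ?_
        exact (congrArg ((secV (O := O) V).map (K.iCycles 0)) ht.symm).trans (map_zero _)
      rw [hc, map_zero]
    · obtain ⟨b, w, hS, hb⟩ := shortExact_boundaries K p
      obtain ⟨y, hy⟩ := surjective_appL_g hS
        (acyAt_cycles hK p fun i hi => hH i (hi.trans p.le_succ)).2 t
      have hc : L.toCycles p (p + 1) y = c := by
        refine (AddCommGrpCat.mono_iff_injective (L.iCycles (p + 1))).1 inferInstance ?_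
        refine (ConcreteCategory.congr_hom (L.toCycles_i p (p + 1)) y).trans ?_
        refine Eq.trans ?_ (ConcreteCategory.congr_hom (RDer.cyclesComparison_i (secV V) K (p + 1)) c)
        refine Eq.trans ?_ (congrArg (appL (K.iCycles (p + 1)) V)
          ((congrArg (appL (kernel.ι (K.homologyπ (p + 1))) V) hy).trans ht))
        refine Eq.trans ?_ (appL_comp (b ≫ kernel.ι _) (K.iCycles (p + 1)) V y)
        rw [hb, K.toCycles_i]
        rfl
      rw [← hc]
      exact ConcreteCategory.congr_hom (L.toCycles_comp_homologyπ p (p + 1)) y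
  · obtain ⟨z, hz⟩ := surjective_appL_g (shortExact_homologyπ K q) (acyAt_cycles hK q hH).1 s
    obtain ⟨c, hc⟩ := exists_secV_cycle V K q z
    exact ⟨L.homologyπ q c, ((he c).trans (congrArg (appL (K.homologyπ q) V) hc)).trans hz⟩

end Complex

end Groth.Agent.FTors52
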