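import Groth.Agent.FTors52.RestrictMod
import Groth.Agent.FTors52.SecDerived
import Groth.Agent.SiteBase.DerivedPrecomp
import Groth.Agent.SiteBase.DerivedPrecompAcyclic
import Groth.Agent.SiteBase.DerivedComp
import Groth.Agent.SiteBase.Rpush
import Groth.Agent.SiteBase.Global
import Groth.Agent.SpObjSS.Grothendieck

/-!
# Classes over an open and cohomology of the restriction
-/

set_option autoImplicit false

universe u

open CategoryTheory CategoryTheory.Limits AlgebraicGeometry Opposite TopologicalSpace

namespace Groth.Agent.FTors52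

open FMod90

section Global

variable {T : TopCat.{u}} {O : Sheaf (Opens.grothendieckTopology T) CommRingCat.{u}}

/-- Sections over the whole space of an abelian sheaf. -/
noncomputable abbrev gTop (T : TopCat.{u}) :
    Sheaf (Opens.grothendieckTopology T) AddCommGrpCat.{u} ⥤ AddCommGrpCat.{u} :=
  sheafToPresheaf _ _ ⋙ (evaluation (Opens T)ᵒᵖ AddCommGrpCat.{u}).obj (op ⊤)

/-- Derived functors of global sections of abelian sheaves. -/
noncomputable def gTopDerivedIso (q : ℕ) :
    (gTop T).rightDerived q ≅ Sheaf.functorH (Opens.grothendieckTopology T) q :=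
  SiteBase.rightDerivedCompIso (sheafToPresheaf (Opens.grothendieckTopology T) AddCommGrpCat.{u})
      ((evaluation (Opens T)ᵒᵖ AddCommGrpCat.{u}).obj (op ⊤)) q ≪≫
    Functor.isoWhiskerRight (SiteBase.rightDerivedIsoCohomology q)
      ((evaluation (Opens T)ᵒᵖ AddCommGrpCat.{u}).obj (op ⊤)) ≪≫
    NatIso.ofComponents
      (fun F => (SiteBase.huTerminalEquiv isTerminalTop F q).toAddCommGrpIso)
      (fun {F G} φ => by
        ext x
        exact (Abelian.Ext.comp_assoc_of_third_deg_zero (Abelian.Ext.mk₀ _) x (Abelian.Ext.mk₀ φ)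
          (zero_add q)).symm)

/-- Derived functors of global sections of modules. -/
theorem nonempty_secTop_derived_iso [HasInjectiveResolutions (ModSite.Mod O)] (q : ℕ) :
    Nonempty ((secV (O := O) ⊤).rightDerived q ≅
      SheafOfModules.toSheaf (ModSite.ringSh O) ⋙ Sheaf.functorH (Opens.grothendieckTopology T) q) := by
  have := SpObjSS.enoughInjectives_of_hasInjectiveResolutions (C := ModSite.Mod O)
  have := DSites.preservesFiniteColimits_toSheaf (ModSite.ringSh O)
  have := DSites.preservesLimits_toSheaf (ModSite.ringSh O)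
  have : PreservesLimitsOfSize.{0, 0} (SheafOfModules.toSheaf (ModSite.ringSh O)) :=
    preservesLimitsOfSize_shrink.{0, u, 0, u} _
  have : PreservesFiniteLimits (SheafOfModules.toSheaf (ModSite.ringSh O)) :=
    ⟨fun _ => inferInstance⟩
  have : PreservesFiniteLimits (gTop T) := comp_preservesFiniteLimits _ _
  obtain ⟨e⟩ := SiteBase.nonempty_rightDerived_precomp_of_acyclic
    (SheafOfModules.toSheaf (ModSite.ringSh O)) (gTop T) (fun Q hQ i => by
      refine IsZero.of_iso ?_ ((gTopDerivedIso (i + 1)).app _)
      have h1 : Subsingleton (Sheaf.H (ModSite.toAb Q) (i + 1)) :=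
        SiteBase.subsingleton_H_of_HU_terminal isTerminalTop _ (i + 1)
          (@allAcy_of_injective _ _ _ O Q hQ ⊤ i)
      exact @AddCommGrpCat.isZero_of_subsingleton _ h1) q
  exact ⟨e ≪≫ Functor.isoWhiskerLeft _ (gTopDerivedIso q)⟩

end Global

variable {𝔛 : FSch.Sys.{u}} (h : 𝔛.IsFormal) (U : (𝔛.X 0).Opens)
  (h' : (𝔛.restrictOpen h U).IsFormal)

theorem up_top : up h U ⊤ = U := by
  refine Eq.trans ?_ (lvU_zero h U)
  exact (Scheme.Hom.image_top_eq_opensRange _).trans (Scheme.Opens.opensRange_ι _)

/-- Sections over an open are global sections of the restriction. -/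
noncomputable def secIso : secV (O := 𝔛.Osh h) U ≅ Rs h U h' ⋙ secV ⊤ :=
  NatIso.ofComponents
    (fun M => (ModSite.toAb M).obj.mapIso (eqToIso (congrArg op (up_top h U).symm)))
    fun {M N} φ => ((SheafOfModules.toSheaf (ModSite.ringSh (𝔛.Osh h))).map φ).hom.naturality _ |>.symm

/-- Derived functors of sections over an open are the cohomology of the restriction. -/
theorem nonempty_secV_derived_iso [HasInjectiveResolutions (FSch.ModF 𝔛 h)]
    [HasInjectiveResolutions (FSch.ModF (rO h U) h')] (q : ℕ) :
    Nonempty ((secV (O := 𝔛.Osh h) U).rightDerived q ≅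
      Rs h U h' ⋙ SheafOfModules.toSheaf (ModSite.ringSh ((rO h U).Osh h')) ⋙
        Sheaf.functorH (Opens.grothendieckTopology ((rO h U).X 0).toPresheafedSpace.carrier) q) := by
  have := SpObjSS.enoughInjectives_of_hasInjectiveResolutions (C := FSch.ModF 𝔛 h)
  have := SpObjSS.enoughInjectives_of_hasInjectiveResolutions (C := FSch.ModF (rO h U) h')
  have := preservesFiniteLimits_Rs h U h'
  have := preservesFiniteColimits_Rs h U h'
  have := preservesInjectiveObjects_Rs h U h'
  obtain ⟨e⟩ := nonempty_secTop_derived_iso (O := (rO h U).Osh h') q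
  exact ⟨SiteBase.rightDerivedCongr (secIso h U h') q ≪≫
    SiteBase.rightDerivedPrecompIso (Rs h U h') (secV ⊤) q ≪≫ Functor.isoWhiskerLeft _ e⟩

end Groth.Agent.FTors52
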