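import Groth.Agent.FTors52.AffineLift
import Groth.Agent.FMod90.Kernels

/-!
# Coherent modules on a locally Noetherian formal scheme

Coherent modules are the modules with finitely generated relations which are locally finitely
generated; they are stable under kernels, images, cokernels, extensions and finite sums.
-/

set_option autoImplicit false

universe u

open CategoryTheory CategoryTheory.Limits AlgebraicGeometry Opposite TopologicalSpace

namespace Groth.Agent.FTors52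

open FMod90

section general

variable {T : TopCat.{u}} {O : Sheaf (Opens.grothendieckTopology T) CommRingCat.{u}}
  {M N P : ModSite.Mod O} {U V W : Opens T} {n m k : ℕ}

theorem GenIn.of_locally {g : Fin k → Sec M U} {h : V ≤ U} {y : Sec M V}
    (hy : ∀ x ∈ V, ∃ (W : Opens T) (hW : W ≤ V), x ∈ W ∧ GenIn g (hW.trans h) (FMod90.res M hW y)) :
    GenIn g h y := fun x hx => by
  obtain ⟨W, hW, hxW, h1⟩ := hy x hx
  obtain ⟨W', hW', a, hxW', ha⟩ := h1 x hxW
  exact ⟨W', hW'.trans hW, a, hxW', ha.trans (res_res _ _ _)⟩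

theorem GenIn.zero (g : Fin k → Sec M U) (h : V ≤ U) : GenIn g h (0 : Sec M V) := fun x hx =>
  ⟨V, le_rfl, 0, hx, by rw [comb_zero, map_zero]⟩

theorem GenIn.add {g : Fin k → Sec M U} {h : V ≤ U} {y z : Sec M V} (hy : GenIn g h y)
    (hz : GenIn g h z) : GenIn g h (y + z) := fun x hx => by
  obtain ⟨W, hW, a, hxW, ha⟩ := hy x hx
  obtain ⟨W', hW', b, hxW', hb⟩ := hz x hx
  refine ⟨W ⊓ W', inf_le_left.trans hW, rv O inf_le_left a + rv O inf_le_right b, ⟨hxW, hxW'⟩, ?_⟩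
  rw [← combL_apply, map_add, combL_apply, combL_apply, comb_rv g (hW.trans h) inf_le_left,
    comb_rv g (hW'.trans h) inf_le_right, ha, hb, map_add, res_res, res_res]

theorem GenIn.sum {ι : Type*} (s : Finset ι) {g : Fin k → Sec M U} {h : V ≤ U} {y : ι → Sec M V}
    (hy : ∀ i ∈ s, GenIn g h (y i)) : GenIn g h (∑ i ∈ s, y i) := by
  classical
  induction s using Finset.induction_on with
  | empty => exact GenIn.zero g h
  | insert a s ha ih =>
    rw [Finset.sum_insert ha]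
    exact (hy a (Finset.mem_insert_self a s)).add (ih fun i hi => hy i (Finset.mem_insert_of_mem hi))

theorem IsGen.map_epi {s : Fin n → Sec M U} (hs : IsGen M s) (φ : M ⟶ N) [Epi φ] :
    IsGen N fun i => appL φ U (s i) := fun V h y => by
  refine GenIn.of_locally (h := h) fun x hx => ?_
  obtain ⟨W, hW, t, hxW, ht⟩ := locLift_of_epi φ y x hx
  refine ⟨W, hW, hxW, ?_⟩
  rw [← ht]
  exact GenIn.map (hs W (hW.trans h) t) φ

/-- The image of a morphism as a submodule. -/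
noncomputable def imSub (φ : M ⟶ N) : SubMod N where
  mem U :=
    { carrier := {y | LocLift φ y}
      zero_mem' := locLift_of_mem (Submodule.zero_mem _)
      add_mem' := fun {a b} ha hb x hx => by
        obtain ⟨W₁, h₁, s₁, hx₁, e₁⟩ := ha x hx
        obtain ⟨W₂, h₂, s₂, hx₂, e₂⟩ := hb x hx
        refine ⟨W₁ ⊓ W₂, inf_le_left.trans h₁, res M inf_le_left s₁ + res M inf_le_right s₂,
          ⟨hx₁, hx₂⟩, ?_⟩
        rw [map_add, ← res_appL, ← res_appL, e₁, e₂, res_res, res_res, map_add]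
      smul_mem' := fun c a ha x hx => by
        obtain ⟨W, hW, s, hxW, e⟩ := ha x hx
        exact ⟨W, hW, rres O hW c • s, hxW, by rw [map_smul, e, res_smul]⟩ }
  map_mem {U V} h s hs x hx := by
    obtain ⟨W, hW, t, hxW, e⟩ := hs x (h hx)
    refine ⟨W ⊓ V, inf_le_right, res M inf_le_left t, ⟨hxW, hx⟩, ?_⟩
    rw [← res_appL, e, res_res, res_res]
  of_locally U s hs x hx := by
    obtain ⟨V, hV, hxV, hmem⟩ := hs x hx
    obtain ⟨W, hW, t, hxW, e⟩ := hmem x hxV
    exact ⟨W, hW.trans hV, t, hxW, e.trans (res_res _ _ _)⟩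

/-- Corestriction to a submodule. -/
noncomputable def SubMod.corestrict (L : SubMod M) (φ : N ⟶ M)
    (hφ : ∀ U s, appL φ U s ∈ L.mem U) : N ⟶ L.toMod :=
  mkHom
    (fun V =>
      { toFun := fun z => (⟨appL φ V z, hφ V z⟩ : Sec L.toMod V)
        map_add' := fun a b => Subtype.ext (map_add (appL φ V) a b)
        map_smul' := fun a b => Subtype.ext (map_smul (appL φ V) a b) })
    fun _ _ hV z => Subtype.ext (res_appL φ hV z)

@[simp]
theorem SubMod.corestrict_ι (L : SubMod M) (φ : N ⟶ M) (hφ : ∀ U s, appL φ U s ∈ L.mem U) :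
    L.corestrict φ hφ ≫ L.ι = φ :=
  hom_ext fun _ _ => rfl

/-- The map to the image. -/
noncomputable def imMap (φ : M ⟶ N) : M ⟶ (imSub φ).toMod :=
  (imSub φ).corestrict φ fun _ s => locLift_of_mem ⟨s, rfl⟩

theorem epi_imMap (φ : M ⟶ N) : Epi (imMap φ) :=
  epi_of_locLift _ fun U y x hx => by
    obtain ⟨W, hW, s, hxW, e⟩ := (show LocLift φ y.1 from y.2) x hx
    exact ⟨W, hW, s, hxW, Subtype.ext e⟩

end general

variable {𝔛 : FSch.Sys.{u}} {h : 𝔛.IsFormal} {U : (𝔛.X 0).Opens} {M N : FSch.ModF 𝔛 h}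
  (h𝔛 : 𝔛.IsLocNoethFormal)

include h𝔛

/-- A coherent module is presented by sections over every affine open. -/
theorem exists_isPres_affine (hM : FSch.IsCohF 𝔛 h M) (hU : IsAffineOpen U) :
    ∃ (n m : ℕ) (s : Fin n → Sec M U) (r : Fin m → Fin n → Ring (𝔛.Osh h) U), IsPres M s r := by
  obtain ⟨𝔐, h𝔐, ⟨e⟩⟩ := exists_iso_realMod h𝔛 M hM
  obtain ⟨n, m, s, r, hp⟩ := exists_isPres_realMod 𝔐 h𝔛 h𝔐 hU
  refine ⟨n, m, fun i => appL e.inv U (s i), r, IsGen.map_epi hp.gen e.inv, fun l => ?_,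
    fun V hV a ha x hx => hp.exact V hV a ((appL_comb_eq_zero_iff e.inv s hV a).1 ha) x hx⟩
  exact (appL_comb_eq_zero_iff e.inv s le_rfl _).2 (hp.rel l)

theorem exists_isGen_affine (hM : FSch.IsCohF 𝔛 h M) (hU : IsAffineOpen U) :
    ∃ (n : ℕ) (s : Fin n → Sec M U), IsGen M s := by
  obtain ⟨n, m, s, r, hp⟩ := exists_isPres_affine h𝔛 hM hU
  exact ⟨n, s, hp.gen⟩

/-- Finitely generated modules with finitely generated relations are coherent. -/
theorem isCohF_of_pc (hM : PC M)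
    (hgen : ∀ x : 𝔛.X 0, ∃ U : (𝔛.X 0).Opens, x ∈ U ∧ ∃ (n : ℕ) (s : Fin n → Sec M U), IsGen M s) :
    FSch.IsCohF 𝔛 h M := by
  have key : ∀ x : 𝔛.X 0, ∃ W : (𝔛.X 0).Opens, x ∈ W ∧ ∃ (n m : ℕ) (s : Fin n → Sec M W)
      (r : Fin m → Fin n → Ring (𝔛.Osh h) W), IsPres M s r := fun x => by
    obtain ⟨U, hxU, n, s, hs⟩ := hgen x
    obtain ⟨W, hW, hWU, hxW⟩ := exists_affine_le hxU
    obtain ⟨m, r, hr⟩ := hM.exists_isRel h𝔛 hW fun i => res M hWU (s i)
    exact ⟨W, hxW, n, m, _, r, IsRel.isPres hr (hs.restrict hWU)⟩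
  choose W hxW hW using key
  exact isFinitePresentation_of_isPres W (fun x => ⟨x, hxW x⟩) hW

/-- A criterion for coherence: generation on all affine opens. -/
theorem isCohF_of_pc_affine (hM : PC M)
    (hgen : ∀ U : (𝔛.X 0).Opens, IsAffineOpen U → ∃ (n : ℕ) (s : Fin n → Sec M U), IsGen M s) :
    FSch.IsCohF 𝔛 h M :=
  isCohF_of_pc h𝔛 hM fun x => by
    obtain ⟨U, hU, -, hxU⟩ := exists_affine_le (U := (⊤ : (𝔛.X 0).Opens)) (x := x) trivial
    exact ⟨U, hxU, hgen U hU⟩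

theorem isCohF_of_epi (φ : M ⟶ N) [Epi φ] (hM : FSch.IsCohF 𝔛 h M) (hN : PC N) :
    FSch.IsCohF 𝔛 h N :=
  isCohF_of_pc_affine h𝔛 hN fun U hU => by
    obtain ⟨n, s, hs⟩ := exists_isGen_affine h𝔛 hM hU
    exact ⟨n, _, IsGen.map_epi hs φ⟩

theorem isCohF_of_iso (e : M ≅ N) (hM : FSch.IsCohF 𝔛 h M) : FSch.IsCohF 𝔛 h N :=
  isCohF_of_epi h𝔛 e.hom hM ((isPC_of_isCohF h𝔛 hM).of_mono e.inv)

/-- The image of a coherent module in a module with finitely generated relations is coherent. -/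
theorem isCohF_imSub (φ : M ⟶ N) (hM : FSch.IsCohF 𝔛 h M) (hN : PC N) :
    FSch.IsCohF 𝔛 h (imSub φ).toMod :=
  have := (imSub φ).mono_ι
  have := epi_imMap φ
  isCohF_of_epi h𝔛 (imMap φ) hM (hN.of_mono (imSub φ).ι)

/-- The kernel of a map from a coherent module to a module with finitely generated relations is
coherent. -/
theorem isCohF_kernel (φ : M ⟶ N) (hM : FSch.IsCohF 𝔛 h M) (hN : PC N) :
    FSch.IsCohF 𝔛 h (kernel φ) :=
  isCohF_of_pc_affine h𝔛 ((isPC_of_isCohF h𝔛 hM).of_mono (kernel.ι φ)) fun U hU => by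
    obtain ⟨n, s, hs⟩ := exists_isGen_affine h𝔛 hM hU
    obtain ⟨m, r, hr⟩ := hN.exists_isRel h𝔛 hU fun i => appL φ U (s i)
    choose k hk using fun l => exists_kernel_lift φ (comb s le_rfl (r l))
      ((appL_comb φ s le_rfl (r l)).trans (hr.rel l))
    refine ⟨m, k, fun V hV y x hx => ?_⟩
    obtain ⟨W, hW, a, hxW, ha⟩ := hs V hV (appL (kernel.ι φ) V y) x hx
    have h1 : comb (fun i => appL φ U (s i)) (hW.trans hV) a = 0 := by
      rw [← appL_comb, ha, ← res_appL, appL_kernel_condition, map_zero]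
    obtain ⟨W', hW', hxW', hmem⟩ := hr.exact W _ a h1 x hxW
    obtain ⟨c, hc⟩ := (Submodule.mem_span_range_iff_exists_fun _).1 hmem
    refine ⟨W', hW'.trans hW, c, hxW', injective_of_mono (kernel.ι φ) W' ?_⟩
    rw [← res_res hW hW', ← res_appL, ← res_appL, ← ha, ← comb_rv, ← hc, appL_comb, ← combL_apply s,
      map_sum]
    refine Finset.sum_congr rfl fun l _ => ?_
    rw [map_smul, combL_apply, comb_rv s le_rfl ((hW'.trans hW).trans hV)]
    simp only [hk]

/-- A finite sum of coherent modules is coherent. -/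
theorem isCohF_cofan {ι : Type u} [Finite ι] {F : ι → FSch.ModF 𝔛 h} {c : Cofan F} (hc : IsColimit c)
    (hF : ∀ j, FSch.IsCohF 𝔛 h (F j)) : FSch.IsCohF 𝔛 h c.pt :=
  isCohF_of_pc_affine h𝔛 (PC.of_cofan hc fun j => isPC_of_isCohF h𝔛 (hF j)) fun U hU => by
    cases nonempty_fintype ι
    choose n s hs using fun j => exists_isGen_affine h𝔛 (hF j) hU
    let Q := Σ j, Fin (n j)
    let e : Q ≃ Fin (Fintype.card Q) := Fintype.equivFin Q
    refine ⟨_, fun q => appL (c.inj (e.symm q).1) U (s _ (e.symm q).2), fun V hV y => ?_⟩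
    refine GenIn.of_locally (h := hV) fun x hx => ?_
    obtain ⟨W, hW, k, σ, z, hxW, hz⟩ := exists_sum_of_isColimit hc y hx
    refine ⟨W, hW, hxW, ?_⟩
    rw [hz]
    refine GenIn.sum _ fun t _ => ?_
    have h2 : GenIn (fun l => appL (c.inj (σ t).as) U (s (σ t).as l)) (hW.trans hV)
        (appL (c.ι.app (σ t)) W (z t)) := GenIn.map (hs (σ t).as W (hW.trans hV) (z t)) _
    refine GenIn.extend (σ := fun l => e ⟨(σ t).as, l⟩)
      (fun l l' hl => eq_of_heq (Sigma.mk.inj (e.injective hl)).2) ?_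
    have e1 : (fun l => appL (c.inj (e.symm (e ⟨(σ t).as, l⟩)).1) U
        (s _ (e.symm (e ⟨(σ t).as, l⟩)).2)) = fun l => appL (c.inj (σ t).as) U (s (σ t).as l) :=
      funext fun l => congrArg (fun q : Q => appL (c.inj q.1) U (s q.1 q.2)) (e.symm_apply_apply _)
    exact e1.symm ▸ h2

/-- An extension of coherent modules is coherent. -/
theorem isCohF_of_exact {S : ShortComplex (FSch.ModF 𝔛 h)} (hS : S.Exact) [Mono S.f] [Epi S.g]
    (h₁ : FSch.IsCohF 𝔛 h S.X₁) (h₃ : FSch.IsCohF 𝔛 h S.X₃) : FSch.IsCohF 𝔛 h S.X₂ :=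
  isCohF_of_pc_affine h𝔛 (PC.of_exact hS (isPC_of_isCohF h𝔛 h₁) (isPC_of_isCohF h𝔛 h₃)) fun U hU => by
    obtain ⟨n, s, hs⟩ := exists_isGen_affine h𝔛 h₁ hU
    obtain ⟨m, t, ht⟩ := exists_isGen_affine h𝔛 h₃ hU
    choose b hb using fun i =>
      exists_lift_affine h𝔛 hS hU (isPC_of_isCohF h𝔛 h₁) (GenBy.of_isGen hs) (t i)
    refine ⟨n + m, Fin.append (fun i => appL S.f U (s i)) b, fun V hV y => ?_⟩
    refine GenIn.of_locally (h := hV) fun x hx => ?_
    obtain ⟨W, hW, a, hxW, ha⟩ := ht V hV (appL S.g V y) x hx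
    refine ⟨W, hW, hxW, ?_⟩
    have hd : appL S.g W (res _ hW y - comb b (hW.trans hV) a) = 0 := by
      rw [map_sub, ← res_appL, ← ha, appL_comb, sub_eq_zero]
      simp only [hb]
    obtain ⟨z, hz⟩ := exists_lift_of_mono S.f (locLift_of_exact hS hd)
    rw [← sub_add_cancel (res _ hW y) (comb b (hW.trans hV) a), ← hz]
    refine GenIn.add (GenIn.append_left (GenIn.map (hs W (hW.trans hV) z) S.f)) (GenIn.append_right ?_)
    exact fun x' hx' => ⟨W, le_rfl, a, hx', (res_refl _ _).symm⟩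

/-- The cokernel of a map of coherent modules is coherent. -/
theorem isCohF_cokernel (φ : M ⟶ N) (hM : FSch.IsCohF 𝔛 h M) (hN : FSch.IsCohF 𝔛 h N) :
    FSch.IsCohF 𝔛 h (cokernel φ) :=
  isCohF_of_epi h𝔛 (cokernel.π φ) hN <|
    PC.of_exact_epi h𝔛 (S := ShortComplex.mk φ (cokernel.π φ) (cokernel.condition φ))
      (ShortComplex.exact_of_g_is_cokernel _ (cokernelIsCokernel φ))
      (fun x => by
        obtain ⟨U, hU, -, hxU⟩ := exists_affine_le (U := (⊤ : (𝔛.X 0).Opens)) (x := x) trivial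
        obtain ⟨n, s, hs⟩ := exists_isGen_affine h𝔛 hM hU
        exact ⟨U, hxU, GenBy.of_isGen hs⟩)
      (isPC_of_isCohF h𝔛 hN)

end Groth.Agent.FTors52
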