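import Groth.Agent.FTors52.SecDerived
import Groth.Agent.FTors52.AffVanish
import Groth.Agent.FTors52.Coherent

/-!
# Classes over preimages of affine opens and sections of higher direct images
-/

set_option autoImplicit false

universe u

open CategoryTheory CategoryTheory.Limits AlgebraicGeometry Opposite TopologicalSpace

namespace Groth.Agent.FTors52

open FMod90

section Natural

variable {B : Type*} [Category B] [Abelian B] {C : Type*} [Category C] [Abelian C]
  (Ψ : B ⥤ C) [Ψ.Additive] [PreservesFiniteLimits Ψ]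

set_option backward.isDefEq.respectTransparency false in
theorem homologyComparison_natural {K L : CochainComplex B ℕ} (m : K ⟶ L) (q : ℕ) :
    HomologicalComplex.homologyMap ((Ψ.mapHomologicalComplex _).map m) q ≫
        RDer.homologyComparison Ψ L q =
      RDer.homologyComparison Ψ K q ≫ Ψ.map (HomologicalComplex.homologyMap m q) := by
  rw [← cancel_epi (((Ψ.mapHomologicalComplex _).obj K).homologyπ q),
    HomologicalComplex.homologyπ_naturality_assoc, RDer.homologyπ_homologyComparison,
    RDer.homologyπ_homologyComparison_assoc, ← Ψ.map_comp, HomologicalComplex.homologyπ_naturality,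
    Ψ.map_comp]
  simp only [← Category.assoc]
  refine congrArg (· ≫ _) ?_
  rw [← cancel_mono (Ψ.map (L.iCycles q)), Category.assoc, Category.assoc, RDer.cyclesComparison_i,
    HomologicalComplex.cyclesMap_i, ← Ψ.map_comp, HomologicalComplex.cyclesMap_i, Ψ.map_comp,
    RDer.cyclesComparison_i_assoc]
  rfl

theorem edgeOut_natural {A : Type*} [Category A] [Abelian A] [HasInjectiveResolutions A]
    (Φ : A ⥤ B) [Φ.Additive] (q : ℕ) {X Y : A} (g : X ⟶ Y) :
    ((Φ ⋙ Ψ).rightDerived q).map g ≫ RDer.edgeOut Φ Ψ q Y =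
      RDer.edgeOut Φ Ψ q X ≫ Ψ.map ((Φ.rightDerived q).map g) := by
  let I := injectiveResolution X
  let J := injectiveResolution Y
  let d := InjectiveResolution.desc g J I
  have hd := InjectiveResolution.desc_commutes_zero g J I
  have h1 := InjectiveResolution.isoRightDerivedObj_hom_naturality g I J d hd (Φ ⋙ Ψ) q
  have h2 := InjectiveResolution.isoRightDerivedObj_inv_naturality g I J d hd Φ q
  have h3 := homologyComparison_natural Ψ ((Φ.mapHomologicalComplex _).map d) q
  dsimp only [RDer.edgeOut]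
  rw [← Category.assoc, h1, Category.assoc, Category.assoc, Category.assoc]
  refine congrArg (_ ≫ ·) ?_
  refine (Category.assoc _ _ _).symm.trans ((congrArg (· ≫ _) h3).trans ?_)
  refine (Category.assoc _ _ _).trans (congrArg (_ ≫ ·) ?_)
  rw [← Ψ.map_comp, ← Ψ.map_comp]
  exact congrArg Ψ.map h2.symm

end Natural

theorem acyAt_of_iso {C : Type u} [SmallCategory C] {J : GrothendieckTopology C}
    {O : Sheaf J CommRingCat.{u}} {U : C} {M N : ModSite.Mod O} (e : M ≅ N) (hM : AcyAt O U M) :
    AcyAt O U N := fun p => by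
  refine subsingleton_of_forall_eq 0
    fun (x : Abelian.Ext (CohCx.freeSheaf J U) (ModSite.toAb N) (p + 1)) => ?_
  have h0 : x.comp (Abelian.Ext.mk₀ ((SheafOfModules.toSheaf (ModSite.ringSh O)).map e.inv))
      (add_zero (p + 1)) = 0 := (hM p).elim _ _
  have h1 := congrArg (fun z => z.comp (Abelian.Ext.mk₀
    ((SheafOfModules.toSheaf (ModSite.ringSh O)).map e.hom)) (add_zero (p + 1))) h0
  rw [Abelian.Ext.zero_comp, Abelian.Ext.comp_assoc_of_third_deg_zero, Abelian.Ext.mk₀_comp_mk₀,
    ← Functor.map_comp, e.inv_hom_id, CategoryTheory.Functor.map_id, Abelian.Ext.comp_mk₀_id] at h1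
  exact h1

variable {𝔛 𝔜 : FSch.Sys.{u}} (f : 𝔛 ⟶ 𝔜) (hX : 𝔛.IsFormal) (hY : 𝔜.IsFormal)
  [HasInjectiveResolutions (FSch.ModF 𝔛 hX)]

/-- Classes of a module over the preimage of an open. -/
noncomputable abbrev clsV (V : (𝔜.X 0).Opens) (q : ℕ) : FSch.ModF 𝔛 hX ⥤ AddCommGrpCat.{u} :=
  (FSch.pushF f hX hY ⋙ secV V).rightDerived q

/-- From classes to sections of the higher direct image. -/
noncomputable def edge (V : (𝔜.X 0).Opens) (q : ℕ) (M : FSch.ModF 𝔛 hX) :
    (clsV f hX hY V q).obj M →+ Sec ((FSch.RpushF f hX hY q).obj M) V :=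
  (RDer.edgeOut (FSch.pushF f hX hY) (secV V) q M).hom

theorem edge_natural (V : (𝔜.X 0).Opens) (q : ℕ) {M N : FSch.ModF 𝔛 hX} (φ : M ⟶ N)
    (x : (clsV f hX hY V q).obj M) :
    edge f hX hY V q N ((clsV f hX hY V q).map φ x) =
      appL ((FSch.RpushF f hX hY q).map φ) V (edge f hX hY V q M x) :=
  ConcreteCategory.congr_hom (edgeOut_natural (secV V) (FSch.pushF f hX hY) q φ) x

/-- Sections of higher direct images come locally from classes. -/
theorem exists_edge_eq (q : ℕ) (M : FSch.ModF 𝔛 hX) {V : (𝔜.X 0).Opens}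
    (s : Sec ((FSch.RpushF f hX hY q).obj M) V) {x : 𝔜.X 0} (hx : x ∈ V) :
    ∃ (W : (𝔜.X 0).Opens) (hW : W ≤ V), IsAffineOpen W ∧ x ∈ W ∧
      ∃ c, edge f hX hY W q M c = res _ hW s := by
  let I := injectiveResolution M
  let K := ((FSch.pushF f hX hY).mapHomologicalComplex (ComplexShape.up ℕ)).obj I.cocomplex
  let e := I.isoRightDerivedObj (FSch.pushF f hX hY) q
  obtain ⟨W, hW, hxW, hc⟩ := exists_lift_homologyComparison V K q (appL e.hom V s) x hx
  obtain ⟨W', hW', hle, hxW'⟩ := exists_affine_le hxW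
  obtain ⟨c, hc'⟩ := hc W' hle
  refine ⟨W', hle.trans hW, hW', hxW',
    (I.isoRightDerivedObj (FSch.pushF f hX hY ⋙ secV W') q).inv c, ?_⟩
  change appL e.inv W' ((RDer.homologyComparison (secV W') K q)
    ((I.isoRightDerivedObj (FSch.pushF f hX hY ⋙ secV W') q).hom
      ((I.isoRightDerivedObj (FSch.pushF f hX hY ⋙ secV W') q).inv c))) = _
  rw [← ConcreteCategory.comp_apply, Iso.inv_hom_id, ConcreteCategory.id_apply]
  refine (congrArg (appL e.inv W') hc').trans ?_
  change appL e.inv W' (res _ (hle.trans hW) (appL e.hom V s)) = _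
  rw [← res_appL]
  refine congrArg (res _ (hle.trans hW)) ?_
  rw [← appL_comp, e.hom_inv_id, appL_id]

/-- Classes are sections of the higher direct image when the higher direct images are coherent. -/
theorem bijective_edge (h𝔜 : 𝔜.IsLocNoethFormal) {M : FSch.ModF 𝔛 hX} (q : ℕ)
    (hM : ∀ i ≤ q, FSch.IsCohF 𝔜 hY ((FSch.RpushF f hX hY i).obj M)) {V : (𝔜.X 0).Opens}
    (hV : IsAffineOpen V) : Function.Bijective (edge f hX hY V q M) := by
  let I := injectiveResolution M
  let K := ((FSch.pushF f hX hY).mapHomologicalComplex (ComplexShape.up ℕ)).obj I.cocomplex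
  have hI : ∀ j, AcyAt (𝔜.Osh hY) V (K.X j) := fun j =>
    haveI := I.injective j
    allAcy_push (FSch.homMor f hX hY) (allAcy_of_injective _ (I.cocomplex.X j)) V
  have hH : ∀ i ≤ q, AcyAt (𝔜.Osh hY) V (K.homology i) := fun i hi => by
    have h2 : AcyAt (𝔜.Osh hY) V ((FSch.RpushF f hX hY i).obj M) := fun p =>
      subsingleton_HU_affine_of_ind h𝔜 (h := hY) (ObjectProperty.le_ind _ _ (hM i hi)) hV (p + 1)
        p.succ_pos
    exact acyAt_of_iso (I.isoRightDerivedObj (FSch.pushF f hX hY) i) h2
  have h1 : Function.Bijective (RDer.homologyComparison (secV V) K q) :=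
    bijective_homologyComparison hI q hH
  exact ((ConcreteCategory.bijective_of_isIso
      ((secV V).map (I.isoRightDerivedObj (FSch.pushF f hX hY) q).inv)).comp h1).comp
    (ConcreteCategory.bijective_of_isIso (I.isoRightDerivedObj (FSch.pushF f hX hY ⋙ secV V) q).hom)

end Groth.Agent.FTors52
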