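import Groth.Agent.FTors52.RestrictLvl
import Groth.Agent.FTors52.RestrictCls
import Groth.Agent.FTors52.RpushEdge
import Groth.Agent.FTors52.LvlCoh
import Groth.Agent.FTors52.LvlLim
import Groth.Agent.DSites.Vanish
import Groth.Agent.FComplLib.AffineSys
import Groth.Agent.FComplLib.Restrict
import Groth.Agent.FMod90.Kernels

/-!
# Classes over the preimage of an affine open are the limit of the classes of the truncations
-/

set_option autoImplicit false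

universe u

open CategoryTheory CategoryTheory.Limits AlgebraicGeometry Opposite TopologicalSpace

namespace Groth.Agent.FTors52

open FMod90

variable {𝔛 𝔜 : FSch.Sys.{u}} (f : 𝔛 ⟶ 𝔜) (h𝔛 : 𝔛.IsLocNoethFormal) (h𝔜 : 𝔜.IsLocNoethFormal)

/-- The restriction to an affine open is a formal spectrum. -/
theorem exists_spf_open {V : (𝔜.X 0).Opens} (hV : IsAffineOpen V) :
    ∃ (A : Type u) (_ : CommRing A) (J : Ideal A), IsNoetherianRing A ∧ IsAdicComplete J A ∧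
      Nonempty (𝔜.restrictOpen h𝔜.1 V ≅ FSch.spf A J) := by
  have h' := isLocNoethFormal_restrictOpen h𝔜 V
  have : IsAffine ((𝔜.restrictOpen h𝔜.1 V).X 0) := by
    have e : IsAffineOpen (𝔜.lvU h𝔜.1 0 V) := by
      rw [lvU_zero' h𝔜.1 V]
      exact hV
    exact e
  haveI := h'.2.2 0
  haveI := h'.2.2 1
  exact FComplLib.exists_iso_spf h'.1 h'.2.1
    (FComplLib.locFG_of_isLocallyNoetherian ((𝔜.restrictOpen h𝔜.1 V).ι 0).ker)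

/-- The inverse image of an open. -/
abbrev pre (V : (𝔜.X 0).Opens) : (𝔛.X 0).Opens := (f : FSch.Hom 𝔛 𝔜).app 0 ⁻¹ᵁ V

theorem isProperHom_restrictOpen_comp (hf : FSch.IsProperHom f) (V : (𝔜.X 0).Opens)
    {𝔖 : FSch.Sys.{u}} (e : 𝔜.restrictOpen h𝔜.1 V ≅ 𝔖) :
    FSch.IsProperHom (FSch.Hom.restrictOpen f h𝔛.1 h𝔜.1 V ≫ e.hom) := by
  have hiso : ∀ n, IsIso ((e.hom : FSch.Hom _ _).app n) := fun n =>
    ⟨(e.inv : FSch.Hom _ _).app n,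
      congrArg (fun t : 𝔜.restrictOpen h𝔜.1 V ⟶ _ => (t : FSch.Hom _ _).app n) e.hom_inv_id,
      congrArg (fun t : 𝔖 ⟶ _ => (t : FSch.Hom _ _).app n) e.inv_hom_id⟩
  refine ⟨fun n => ?_, ?_⟩
  · have hc1 := congrArg (fun t : 𝔛.restrictOpen h𝔛.1 (pre f V) ⟶ 𝔜 => (t : FSch.Hom _ _).app n)
      (FSch.Hom.restrictOpen_ι f h𝔛.1 h𝔜.1 V)
    have hc2 := congrArg (fun t : 𝔛.restrictOpen h𝔛.1 (pre f V) ⟶ 𝔜 => (t : FSch.Hom _ _).app (n + 1))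
      (FSch.Hom.restrictOpen_ι f h𝔛.1 h𝔜.1 V)
    have h1 : IsPullback ((𝔛.restrictOpen h𝔛.1 (pre f V)).ι n)
        ((FSch.Hom.restrictOpen f h𝔛.1 h𝔜.1 V : FSch.Hom _ _).app n)
        ((FSch.Hom.restrictOpen f h𝔛.1 h𝔜.1 V : FSch.Hom _ _).app (n + 1))
        ((𝔜.restrictOpen h𝔜.1 V).ι n) := by
      refine IsPullback.of_bot ?_ ((FSch.Hom.restrictOpen f h𝔛.1 h𝔜.1 V : FSch.Hom _ _).comm n).symm
        (FComplLib.isAdicHom_restrictOpenι 𝔜 h𝔜.1 V n)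
      change (FSch.Hom.restrictOpen f h𝔛.1 h𝔜.1 V : FSch.Hom _ _).app n ≫ _ = (𝔛.restrictOpenι h𝔛.1 (pre f V) : FSch.Hom _ _).app n ≫ _ at hc1
      change (FSch.Hom.restrictOpen f h𝔛.1 h𝔜.1 V : FSch.Hom _ _).app (n + 1) ≫ _ = (𝔛.restrictOpenι h𝔛.1 (pre f V) : FSch.Hom _ _).app (n + 1) ≫ _ at hc2
      rw [hc1, hc2]
      exact (FComplLib.isAdicHom_restrictOpenι 𝔛 h𝔛.1 (pre f V) n).paste_vert (hf.1 n)
    haveI := hiso n
    haveI := hiso (n + 1)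
    exact h1.paste_vert (IsPullback.of_vert_isIso ⟨((e.hom : FSch.Hom _ _).comm n).symm⟩)
  · haveI := hiso 0
    have h0 : IsProper ((FSch.Hom.restrictOpen f h𝔛.1 h𝔜.1 V : FSch.Hom _ _).app 0) :=
      MorphismProperty.of_isPullback
        (FComplLib.isPullback_resLE ((f : FSch.Hom 𝔛 𝔜).app 0) (𝔜.lvU h𝔜.1 0 V)
          (𝔛.lvU h𝔛.1 0 (pre f V)) (FSch.Hom.lvU_preimage f h𝔛.1 h𝔜.1 0 V).ge
          (FSch.Hom.lvU_preimage f h𝔛.1 h𝔜.1 0 V).symm).flip hf.2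
    exact MorphismProperty.comp_mem @IsProper _ _ h0 (inferInstance : IsProper ((e.hom : FSch.Hom _ _).app 0))

theorem vanishes_congr {H H' : ℕ → Type u} [∀ k, AddCommGroup (H k)] [∀ k, AddCommGroup (H' k)]
    {t : ∀ k, H (k + 1) →+ H k} {t' : ∀ k, H' (k + 1) →+ H' k} (ψ : ∀ k, H k →+ H' k)
    (hψ : ∀ k, Function.Injective (ψ k)) (hc : ∀ k x, ψ k (t k x) = t' k (ψ (k + 1) x)) :
    ∀ r k (x : H k), Vanishes t' r k (ψ k x) → Vanishes t r k x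
  | 0, k, x, hx => hψ k ((show ψ k x = 0 from hx).trans (map_zero _).symm)
  | _ + 1, 0, _, _ => trivial
  | r + 1, k + 1, x, hx => by
    change Vanishes t' r k (t' k (ψ (k + 1) x)) at hx
    rw [← hc] at hx
    exact vanishes_congr ψ hψ hc r k _ hx

variable [HasInjectiveResolutions (FSch.ModF 𝔛 h𝔛.1)]

/-- Classes over the preimage as derived sections over the preimage. -/
noncomputable def clsIso (V : (𝔜.X 0).Opens) (q : ℕ) :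
    clsV f h𝔛.1 h𝔜.1 V q ≅ (secV (O := 𝔛.Osh h𝔛.1) (pre f V)).rightDerived q :=
  SiteBase.rightDerivedCongr
    (NatIso.ofComponents (fun _ => Iso.refl _) fun _ => (Category.comp_id _).trans (Category.id_comp _).symm) q

variable {f h𝔛 h𝔜}

/-- Classes over the preimage of an affine open of the truncations: injectivity, lifting and the bound. -/
theorem cls_lim (hf : FSch.IsProperHom f) {𝔉 : FSch.ModF 𝔛 h𝔛.1} (h𝔉 : FSch.IsCohF 𝔛 h𝔛.1 𝔉)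
    (q : ℕ) {V : (𝔜.X 0).Opens} (hV : IsAffineOpen V) :
    (∀ c : (clsV f h𝔛.1 h𝔜.1 V q).obj 𝔉,
      (∀ k, (clsV f h𝔛.1 h𝔜.1 V q).map (lvlπ h𝔛.1 𝔉 k) c = 0) → c = 0) ∧
    (∀ y : ∀ k, (clsV f h𝔛.1 h𝔜.1 V q).obj (lvlF h𝔛.1 𝔉 k),
      (∀ k, (clsV f h𝔛.1 h𝔜.1 V q).map (lvlT h𝔛.1 𝔉 k) (y (k + 1)) = y k) →
      ∃ c, ∀ k, (clsV f h𝔛.1 h𝔜.1 V q).map (lvlπ h𝔛.1 𝔉 k) c = y k) ∧
    ∃ r, ∀ k (x : (clsV f h𝔛.1 h𝔜.1 V q).obj (lvlF h𝔛.1 𝔉 k)), ∃ x',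
      Vanishes (H := fun k => (clsV f h𝔛.1 h𝔜.1 V q).obj (lvlF h𝔛.1 𝔉 k))
        (fun k => ((clsV f h𝔛.1 h𝔜.1 V q).map (lvlT h𝔛.1 𝔉 k)).hom) r k
        ((clsV f h𝔛.1 h𝔜.1 V q).map (lvlT h𝔛.1 𝔉 k) x' - x) := by
  obtain ⟨A, _, J, _, _, ⟨e⟩⟩ := exists_spf_open h𝔜 hV
  let W := pre f V
  have h𝔛' := isLocNoethFormal_restrictOpen h𝔛 W
  let h' := h𝔛'.1
  have h𝔉' := isCohF_Rs (U := W) (h' := h') h𝔛 h𝔉
  have hf' := isProperHom_restrictOpen_comp f h𝔛 h𝔜 hf V e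
  letI := DSites.smallShD
    (Opens.grothendieckTopology ((rO h𝔛.1 W).X 0).toPresheafedSpace.carrier)
  haveI := DLim.hasProduct_nat fun k =>
    (DerivedCategory.singleFunctor _ 0).obj ((abMod h').obj (lvlF h' ((Rs h𝔛.1 W h').obj 𝔉) k))
  have hlim := milnor_H (isRlimVia_truncations h𝔛' h𝔉') q fun m _ b => by
    obtain ⟨r, hr⟩ := exists_coh_bound (FSch.Hom.restrictOpen f h𝔛.1 h𝔜.1 V ≫ e.hom) h𝔛' h𝔉' hf' m
    exact exists_sub_eq _ r hr b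
  obtain ⟨r, hr⟩ := exists_coh_bound (FSch.Hom.restrictOpen f h𝔛.1 h𝔜.1 V ≫ e.hom) h𝔛' h𝔉' hf' q
  obtain ⟨η₀⟩ := nonempty_secV_derived_iso h𝔛.1 W h' q
  let η := clsIso f h𝔛 h𝔜 V q ≪≫ η₀
  let F' := abMod h' ⋙ Sheaf.functorH
    (Opens.grothendieckTopology ((rO h𝔛.1 W).X 0).toPresheafedSpace.carrier) q
  let ψ : ∀ k, (clsV f h𝔛.1 h𝔜.1 V q).obj (lvlF h𝔛.1 𝔉 k) ≅
      F'.obj (lvlF h' ((Rs h𝔛.1 W h').obj 𝔉) k) := fun k =>
    η.app _ ≪≫ F'.mapIso (lvlIso W h' h𝔛 h𝔉 h𝔛' k).symm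
  have hψT : ∀ k, (clsV f h𝔛.1 h𝔜.1 V q).map (lvlT h𝔛.1 𝔉 k) ≫ (ψ k).hom =
      (ψ (k + 1)).hom ≫ F'.map (lvlT h' ((Rs h𝔛.1 W h').obj 𝔉) k) := fun k => by
    refine (Category.assoc _ _ _).symm.trans ((congrArg (· ≫ _) (η.hom.naturality (lvlT h𝔛.1 𝔉 k))).trans ?_)
    refine (Category.assoc _ _ _).trans (Eq.trans (congrArg (η.hom.app _ ≫ ·) ?_) (Category.assoc _ _ _).symm)
    refine (F'.map_comp _ _).symm.trans (Eq.trans (congrArg F'.map ?_) (F'.map_comp _ _))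
    rw [Iso.symm_hom, Iso.symm_hom, Iso.comp_inv_eq, Category.assoc, lvlT_lvlIso, Iso.inv_hom_id_assoc]
  have hψπ : ∀ k, (clsV f h𝔛.1 h𝔜.1 V q).map (lvlπ h𝔛.1 𝔉 k) ≫ (ψ k).hom =
      η.hom.app 𝔉 ≫ F'.map (lvlπ h' ((Rs h𝔛.1 W h').obj 𝔉) k) := fun k => by
    refine (Category.assoc _ _ _).symm.trans ((congrArg (· ≫ _) (η.hom.naturality (lvlπ h𝔛.1 𝔉 k))).trans ?_)
    refine (Category.assoc _ _ _).trans (congrArg (η.hom.app _ ≫ ·) ?_)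
    refine (F'.map_comp _ _).symm.trans (congrArg F'.map ?_)
    rw [Iso.symm_hom, Iso.comp_inv_eq, π_lvlIso]
  have hT := fun k (x : (clsV f h𝔛.1 h𝔜.1 V q).obj (lvlF h𝔛.1 𝔉 (k + 1))) =>
    ConcreteCategory.congr_hom (hψT k) x
  have hπ := fun k (x : (clsV f h𝔛.1 h𝔜.1 V q).obj 𝔉) => ConcreteCategory.congr_hom (hψπ k) x
  refine ⟨fun c hc => ?_, fun y hy => ?_, r, fun k x => ?_⟩
  · refine (ConcreteCategory.bijective_of_isIso (η.hom.app 𝔉)).1 ?_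
    rw [map_zero]
    refine hlim.1 _ fun k => (hπ k c).symm.trans ?_
    exact (congrArg (ψ k).hom (hc k)).trans (map_zero _)
  · obtain ⟨z, hz⟩ := hlim.2 (fun k => (ψ k).hom (y k)) fun k => (hT k (y (k + 1))).symm.trans
      (congrArg (ψ k).hom (hy k))
    obtain ⟨c, rfl⟩ := (ConcreteCategory.bijective_of_isIso (η.hom.app 𝔉)).2 z
    refine ⟨c, fun k => (ConcreteCategory.bijective_of_isIso (ψ k).hom).1 ?_⟩
    exact (hπ k c).trans (hz k)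
  · obtain ⟨z, hz⟩ := hr k ((ψ k).hom x)
    obtain ⟨x', rfl⟩ := (ConcreteCategory.bijective_of_isIso (ψ (k + 1)).hom).2 z
    refine ⟨x', vanishes_congr
      (t' := cohT ((Rs h𝔛.1 W h').obj 𝔉) q)
      (fun k => (ψ k).hom.hom) (fun k => (ConcreteCategory.bijective_of_isIso (ψ k).hom).1)
      (fun k x => hT k x) r k _ ?_⟩
    have e2 : (ψ k).hom ((clsV f h𝔛.1 h𝔜.1 V q).map (lvlT h𝔛.1 𝔉 k) x' - x) =
        F'.map (lvlT h' ((Rs h𝔛.1 W h').obj 𝔉) k) ((ψ (k + 1)).hom x') - (ψ k).hom x :=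
      (map_sub (ψ k).hom.hom _ _).trans (congrArg (fun z => z - (ψ k).hom x) (hT k x'))
    exact e2 ▸ hz

end Groth.Agent.FTors52
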