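import Groth.Agent.FTors52.FormalRel

/-!
# Finitely many generators on quasi-compact opens, and lifting of sections over affine opens

On a locally Noetherian formal scheme sections over an affine open lift along an epimorphism whose
kernel is generated over the affine open and has finitely generated relations.
-/

set_option autoImplicit false

universe u

open CategoryTheory CategoryTheory.Limits AlgebraicGeometry Opposite TopologicalSpace

namespace Groth.Agent.FTors52

open FMod90

section general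

variable {T : TopCat.{u}} {O : Sheaf (Opens.grothendieckTopology T) CommRingCat.{u}}
  {M N : ModSite.Mod O} {U V W : Opens T} {n m k : ℕ}

/-- A section is locally a combination of given sections. -/
def GenIn (g : Fin k → Sec M U) (h : V ≤ U) (y : Sec M V) : Prop :=
  ∀ x ∈ V, ∃ (W : Opens T) (hW : W ≤ V) (a : Fin k → Ring O W),
    x ∈ W ∧ comb g (hW.trans h) a = res M hW y

theorem GenIn.res {g : Fin k → Sec M U} {h : V ≤ U} {y : Sec M V} (hy : GenIn g h y) (hWV : W ≤ V) :
    GenIn g (hWV.trans h) (FMod90.res M hWV y) := fun x hx => by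
  obtain ⟨W', hW', a, hxW, ha⟩ := hy x (hWV hx)
  refine ⟨W' ⊓ W, inf_le_right, rv O inf_le_left a, ⟨hxW, hx⟩, ?_⟩
  rw [res_res, comb_rv g (hW'.trans h) inf_le_left, ha, res_res]

theorem GenIn.map {g : Fin k → Sec M U} {h : V ≤ U} {y : Sec M V} (hy : GenIn g h y) (φ : M ⟶ N) :
    GenIn (fun i => appL φ U (g i)) h (appL φ V y) := fun x hx => by
  obtain ⟨W, hW, a, hxW, ha⟩ := hy x hx
  exact ⟨W, hW, a, hxW, by rw [← appL_comb, ha, res_appL]⟩

/-- Combinations along an injection of index types. -/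
theorem comb_extend (g : Fin m → Sec M U) (h : V ≤ U) {σ : Fin k → Fin m} (hσ : Function.Injective σ)
    (a : Fin k → Ring O V) :
    comb g h (Function.extend σ a 0) = comb (fun i => g (σ i)) h a := by
  classical
  simp only [comb]
  rw [← Finset.sum_subset (Finset.subset_univ (Finset.univ.image σ)) fun j _ hj => by
    rw [Function.extend_apply' _ _ _ fun ⟨i, hi⟩ =>
      hj (Finset.mem_image.2 ⟨i, Finset.mem_univ i, hi⟩), Pi.zero_apply, zero_smul],
    Finset.sum_image fun i _ j _ hij => hσ hij]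
  simp only [hσ.extend_apply]

theorem GenIn.extend {g : Fin m → Sec M U} {h : V ≤ U} {y : Sec M V} {σ : Fin k → Fin m}
    (hσ : Function.Injective σ) (hy : GenIn (fun i => g (σ i)) h y) : GenIn g h y := fun x hx => by
  obtain ⟨W, hW, a, hxW, ha⟩ := hy x hx
  exact ⟨W, hW, Function.extend σ a 0, hxW, (comb_extend g _ hσ a).trans ha⟩

theorem GenIn.append_left {g : Fin k → Sec M U} {g' : Fin m → Sec M U} {h : V ≤ U} {y : Sec M V}
    (hy : GenIn g h y) : GenIn (Fin.append g g') h y :=
  GenIn.extend (Fin.castAdd_injective k m) (by simpa only [Fin.append_left] using hy)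

theorem GenIn.append_right {g : Fin k → Sec M U} {g' : Fin m → Sec M U} {h : V ≤ U} {y : Sec M V}
    (hy : GenIn g' h y) : GenIn (Fin.append g g') h y :=
  GenIn.extend (Fin.natAdd_injective m k) (by simpa only [Fin.append_right] using hy)

theorem GenBy.of_forall (hM : ∀ (V : Opens T) (h : V ≤ U) (y : Sec M V), ∀ x ∈ V,
    ∃ (W : Opens T) (hW : W ≤ V) (k : ℕ) (g : Fin k → Sec M U), x ∈ W ∧
      GenIn g (hW.trans h) (FMod90.res M hW y)) : GenBy M U := fun V h y x hx => by
  obtain ⟨W, hW, k, g, hxW, hy⟩ := hM V h y x hx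
  obtain ⟨W', hW', a, hxW', ha⟩ := hy x hxW
  exact ⟨W', hW'.trans hW, k, g, a, hxW', ha.trans (res_res _ _ _)⟩

/-- Finitely many sections on quasi-compact opens are locally combinations of finitely many
sections. -/
theorem GenBy.exists_genIn (hM : GenBy M U) {ι : Type u} [Finite ι] (V : ι → Opens T)
    (hV : ∀ i, V i ≤ U) (hVc : ∀ i, IsCompact (V i : Set T)) (y : ∀ i, Sec M (V i)) :
    ∃ (k : ℕ) (g : Fin k → Sec M U), ∀ i, GenIn g (hV i) (y i) := by
  classical
  cases nonempty_fintype ι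
  choose W hW k g a hxW ha using fun (i : ι) (x : V i) => hM (V i) (hV i) (y i) x.1 x.2
  choose t ht using fun i => (hVc i).elim_finite_subcover (fun x : V i => (W i x : Set T))
    (fun x => (W i x).2) fun x hx => Set.mem_iUnion.2 ⟨⟨x, hx⟩, hxW i ⟨x, hx⟩⟩
  let Q := Σ p : (Σ i : ι, (t i : Set (V i))), Fin (k p.1 p.2.1)
  let e : Q ≃ Fin (Fintype.card Q) := Fintype.equivFin Q
  refine ⟨_, fun q => g (e.symm q).1.1 (e.symm q).1.2.1 (e.symm q).2, fun i x hx => ?_⟩
  obtain ⟨x', hx', hxx'⟩ := Set.mem_iUnion₂.1 (ht i hx)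
  let σ : Fin (k i x') → Fin (Fintype.card Q) := fun l => e ⟨⟨i, ⟨x', hx'⟩⟩, l⟩
  have hσ : Function.Injective σ := fun l l' hl => eq_of_heq (Sigma.mk.inj (e.injective hl)).2
  refine ⟨W i x', hW i x', Function.extend σ (a i x') 0, hxx', ?_⟩
  rw [comb_extend _ _ hσ]
  refine Eq.trans ?_ (ha i x')
  refine Finset.sum_congr rfl fun l _ => ?_
  congr 2
  exact congrArg (fun q : Q => g q.1.1 q.1.2.1 q.2) (e.symm_apply_apply ⟨⟨i, ⟨x', hx'⟩⟩, l⟩)

end general

variable {𝔛 : FSch.Sys.{u}} {h : 𝔛.IsFormal} {U V W : (𝔛.X 0).Opens}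

/-- Sections over an affine open lift along an epimorphism whose kernel is generated by sections over
the affine open with finitely generated relations. -/
theorem exists_lift_affine (h𝔛 : 𝔛.IsLocNoethFormal) {S : ShortComplex (FSch.ModF 𝔛 h)} (hS : S.Exact)
    [Mono S.f] [Epi S.g] (hU : IsAffineOpen U) (h₁ : PC S.X₁) (hgen : GenBy S.X₁ U)
    (y : Sec S.X₃ U) : ∃ b : Sec S.X₂ U, appL S.g U b = y := by
  obtain ⟨ι, _, f, hf, hP⟩ := exists_finite_cover hU
    (fun W => ∃ (hW : W ≤ U) (b : Sec S.X₂ W), appL S.g W b = res S.X₃ hW y)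
    (fun W W' hW'W _ ⟨hW, b, hb⟩ => ⟨hW'W.trans hW, res S.X₂ hW'W b, by
      rw [← res_appL, hb, res_res]⟩)
    (fun x hx => by
      obtain ⟨W, hW, b, hxW, hb⟩ := locLift_of_epi S.g y x hx
      exact ⟨W, hW, hxW, hW, b, hb⟩)
  choose hW b hb using hP
  have hker : ∀ i j, appL S.g (Dop h (f i * f j))
      (res S.X₂ (Dop_mul_left (f i) (f j)) (b i) - res S.X₂ (Dop_mul_right (f i) (f j)) (b j)) = 0 :=
    fun i j => by rw [map_sub, ← res_appL, ← res_appL, hb, hb, res_res, res_res, sub_self]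
  choose e he using fun i j => exists_lift_of_mono S.f (locLift_of_exact hS (hker i j))
  obtain ⟨k, g, hg⟩ := hgen.exists_genIn (ι := ι × ι) (fun p => Dop h (f p.1 * f p.2))
    (fun p => Dop_le h _) (fun p => (isAffineOpen_Dop h hU _).isCompact) fun p => e p.1 p.2
  obtain ⟨m, r, hr⟩ := h₁.exists_isRel h𝔛 hU g
  choose d hd using fun i j => hr.exists_comb h𝔛 (isAffineOpen_Dop h hU (f i * f j))
    (Dop_le h _) (e i j) (hg (i, j))
  obtain ⟨c, hc⟩ := exists_cobound_span h𝔛 hU f hf r d fun i j l => by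
    refine hr.mem_spanV h𝔛 (isAffineOpen_Dop h hU _) (Dop_le h _) ?_
    refine injective_of_mono S.f _ ?_
    rw [← combL_apply, map_sub, map_add, combL_apply, combL_apply, combL_apply,
      comb_rv g (Dop_le h (f i * f j)) (Dop_mul_left (f i * f j) (f l)),
      comb_rv g (Dop_le h (f j * f l)) (Dop_triple h𝔛 hU f hf i j l).2,
      comb_rv g (Dop_le h (f i * f l)) (Dop_triple h𝔛 hU f hf i j l).1, hd, hd, hd, map_zero,
      map_sub, map_add, ← res_appL, ← res_appL, ← res_appL, he, he, he]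
    simp only [map_sub, res_res]
    abel
  have hc' : ∀ i j, res S.X₁ (Dop_mul_left (f i) (f j)) (comb g (Dop_le h (f i)) (c i)) -
      res S.X₁ (Dop_mul_right (f i) (f j)) (comb g (Dop_le h (f j)) (c j)) = e i j := fun i j => by
    have h1 := comb_eq_zero_of_mem_spanV g hr.rel (Dop_le h (f i * f j)) (hc i j)
    rw [← combL_apply, map_sub, map_sub, combL_apply, combL_apply, combL_apply, hd, sub_eq_zero,
      comb_rv g (Dop_le h (f i)) (Dop_mul_left (f i) (f j)),
      comb_rv g (Dop_le h (f j)) (Dop_mul_right (f i) (f j))] at h1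
    exact h1
  let b' : ∀ i, Sec S.X₂ (Dop h (f i)) := fun i =>
    b i - appL S.f _ (comb g (Dop_le h (f i)) (c i))
  have hb' : ∀ i j, res S.X₂ (Dop_mul_left (f i) (f j)) (b' i) =
      res S.X₂ (Dop_mul_right (f i) (f j)) (b' j) := fun i j => by
    have h2 := congrArg (appL S.f _) (hc' i j)
    rw [map_sub, he, ← res_appL, ← res_appL] at h2
    simp only [b', map_sub]
    rw [sub_eq_sub_iff_sub_eq_sub]
    exact h2.symm
  obtain ⟨t, ht⟩ := exists_glue (M := S.X₂) (fun i => Dop h (f i)) (fun i => Dop_le h (f i)) hf b'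
    fun i j => by
      have h3 := congrArg (res S.X₂ (Dop_eq_inter (f i) (f j)).ge) (hb' i j)
      simpa only [res_res] using h3
  refine ⟨t, eq_of_locally fun x hx => ?_⟩
  obtain ⟨i, hi⟩ := Opens.mem_iSup.1 (hf hx)
  refine ⟨Dop h (f i), Dop_le h (f i), hi, ?_⟩
  rw [res_appL, ht i]
  simp only [b', map_sub, hb, ← appL_comp, S.zero, appL_zero, sub_zero]

end Groth.Agent.FTors52
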