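import Groth.Agent.DSites.RpushLimit
import Groth.Agent.SiteBase.DLim.Basic

/-!
# Vanishing of morphisms from a module into unbounded complexes
-/

set_option autoImplicit false

universe u

open CategoryTheory CategoryTheory.Limits Pretriangulated DerivedCategory

attribute [local instance] HasDerivedCategory.standard

namespace Groth.Agent.FTors52

open DSites

variable {C : Type u} [SmallCategory C] {J : GrothendieckTopology C} {O : Sheaf J CommRingCat.{u}}
  (S : ModSite.Mod O) (A : ObjectProperty (ModSite.Mod O)) [A.IsClosedUnderIsomorphisms]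

local notation "H" => DerivedCategory.homologyFunctor (ModSite.Mod O)
local notation "sh" => shiftFunctor (DerivedCategory (ModSite.Mod O))

/-- Dévissage: morphisms into a bounded object. -/
theorem subsingleton_hom_bounded (e : ℕ)
    (h : ∀ F, A F → ∀ k : ℤ, (e : ℤ) ≤ k → Subsingleton (SiteCmp.inD O S ⟶ (sh k).obj (SiteCmp.inD O F)))
    (X : DerivedCategory (ModSite.Mod O)) (a b : ℤ) [X.IsGE a] [X.IsLE b]
    (hX : ∀ n, a ≤ n → n ≤ b → A ((H n).obj X)) (m : ℤ) (hm : b + e ≤ m) :
    Subsingleton (SiteCmp.inD O S ⟶ (sh m).obj X) := by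
  let Φ : ObjectProperty (DerivedCategory (ModSite.Mod O)) := fun Y =>
    Subsingleton (SiteCmp.inD O S ⟶ (sh m).obj Y)
  have : Φ.IsClosedUnderIsomorphisms := ⟨fun {Y Y'} i hY =>
    (Iso.homCongr (Iso.refl _) ((sh m).mapIso i)).symm.subsingleton_congr.2 hY⟩
  refine devissage_bounded Φ (fun Z hZ => ⟨fun x y => (Functor.map_isZero (sh m) hZ).eq_of_tgt x y⟩)
    (fun T hT h₁ h₃ => ?_) X a b fun n han hn => ?_
  · refine subsingleton_of_forall_eq 0 fun x => ?_
    obtain ⟨y, hy⟩ := DLim.exact₂_mk (show Triangle.mk T.mor₁ T.mor₂ T.mor₃ ∈ _ from hT) m x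
      (@Subsingleton.elim _ h₃ _ _)
    rw [← hy, @Subsingleton.elim _ h₁ y 0, zero_comp]
  · let M := (H n).obj X
    let e₁ : (sh m).obj ((singleFunctor (ModSite.Mod O) n).obj M) ≅ (sh (m - n)).obj (SiteCmp.inD O M) :=
      (sh m).mapIso (((singleFunctors (ModSite.Mod O)).shiftIso (-n) n 0 (by omega)).app M).symm ≪≫
        ((shiftFunctorAdd' (DerivedCategory (ModSite.Mod O)) (-n) m (m - n) (by omega)).app _).symm
    exact (Iso.homCongr (Iso.refl _) e₁).subsingleton_congr.2 (h M (hX n han hn) (m - n) (by omega))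

/-- Morphisms into an unbounded object with cohomology in the class, bounded above. -/
theorem subsingleton_hom_unbounded {B : Set C} (hB : DLim.IsCoveredBy J B) (d e : ℕ)
    (hd : ∀ V ∈ B, ∀ F, A F → ∀ k : ℕ, d < k → Subsingleton (ModSite.HU O F k V))
    (h : ∀ F, A F → ∀ k : ℤ, (e : ℤ) ≤ k → Subsingleton (SiteCmp.inD O S ⟶ (sh k).obj (SiteCmp.inD O F)))
    (X : DerivedCategory (ModSite.Mod O)) (hX : ∀ i, A ((H i).obj X)) (i₀ : ℤ)
    (hX₀ : ∀ i, i₀ ≤ i → IsZero ((H i).obj X)) (m : ℤ) (hm : i₀ + e ≤ m) :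
    Subsingleton (SiteCmp.inD O S ⟶ (sh m).obj X) := by
  haveI : HasLimitsOfShape (Discrete ℕ) (DerivedCategory (ModSite.Mod O)) :=
    TriCat.hasProductsOfShape_derivedCategory (exists_kInjective_mod O)
  have hlim : CohCx.IsRlimVia (CohCx.truncTower X) (CohCx.truncTowerMap X) X (CohCx.toTruncTower X) :=
    isRlimVia_truncTower_mod O X hB fun V _ _ => by
      refine ⟨d, fun T hT => ?_⟩
      obtain ⟨ι, Y, g, hf, hcov, hY⟩ := hB.refine_cover V hT
      exact ⟨ι, Y, g, hf, hcov, fun i q k _ hk _ => hd _ (hY i) _ (hX q) k hk⟩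
  have htr : ∀ n : ℕ, Subsingleton (SiteCmp.inD O S ⟶ (sh m).obj (CohCx.truncTower X n)) := fun n => by
    have : (CohCx.truncTower X n).IsGE (-(n : ℤ)) := DerivedCategory.TStructure.t.isGE_truncGE_obj ..
    have : (CohCx.truncTower X n).IsLE (i₀ - 1) := (isLE_iff _ _).2 fun i hi => by
      by_cases hin : -(n : ℤ) ≤ i
      · have := H9Misc.isIso_map_truncGEπ (-(n : ℤ)) i hin X
        exact (hX₀ i (by omega)).of_iso (@asIso _ _ _ _ _ this).symm
      · exact isZero_of_isGE _ (-(n : ℤ)) i (by omega)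
    refine subsingleton_hom_bounded S A e h _ (-(n : ℤ)) (i₀ - 1) (fun i hi _ => ?_) m (by omega)
    have := H9Misc.isIso_map_truncGEπ (-(n : ℤ)) i hi X
    exact A.prop_of_iso (@asIso _ _ _ _ _ this) (hX i)
  have hsurj : ∀ n : ℕ, ∀ y : SiteCmp.inD O S ⟶ (sh (m - 1)).obj (CohCx.truncTower X n),
      ∃ x : SiteCmp.inD O S ⟶ (sh (m - 1)).obj (CohCx.truncTower X (n + 1)),
        x ≫ (sh (m - 1)).map (CohCx.truncTowerMap X n) = y := fun n y => by
    obtain ⟨Q, g, d, hQ⟩ := distinguished_cocone_triangle (CohCx.truncTowerMap X n)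
    refine DLim.exact₂_mk hQ (m - 1) y ?_
    obtain ⟨hge, hne, ⟨e'⟩⟩ := truncTowerMap_cone X n g d hQ
    have : Subsingleton (SiteCmp.inD O S ⟶ (sh (m - 1)).obj Q) := by
      by_cases hb : i₀ ≤ -(n : ℤ) - 1
      · -- then the cone is zero
        have hz : IsZero Q := by
          have := (isLE_iff Q (-(n : ℤ) - 3)).2 fun i hi => by
            by_cases hi' : i = -(n : ℤ) - 2
            · subst hi'; exact (hX₀ _ hb).of_iso e'
            · exact hne i hi'
          exact (IsZero.iff_id_eq_zero Q).2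
            (DerivedCategory.TStructure.t.zero (𝟙 Q) (-(n : ℤ) - 3) (-(n : ℤ) - 2) (by omega))
        exact ⟨fun x y => (Functor.map_isZero (sh (m - 1)) hz).eq_of_tgt x y⟩
      · have := isLE_cone_truncTowerMap X n g d hQ
        exact subsingleton_hom_bounded S A e h Q (-(n : ℤ) - 2) (-(n : ℤ) - 2)
          (fun i hi hi' => by
            obtain rfl : i = -(n : ℤ) - 2 := le_antisymm hi' hi
            exact A.prop_of_iso e'.symm (hX _)) (m - 1) (by omega)
    exact Subsingleton.elim _ _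
  refine subsingleton_of_forall_eq 0 fun x => DLim.rlim_eq_zero hlim m (fun b => ?_) x
    fun n => @Subsingleton.elim _ (htr n) _ _
  choose s hs using hsurj
  let w : ∀ n, SiteCmp.inD O S ⟶ (sh (m - 1)).obj (CohCx.truncTower X n) := fun n =>
    Nat.rec 0 (fun k wk => s k (wk - b k)) n
  refine ⟨w, fun n => ?_⟩
  rw [show w (n + 1) = s n (w n - b n) from rfl, hs, sub_sub_cancel]

end Groth.Agent.FTors52
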