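import Groth.Agent.FTors52.AffVanish
import Groth.Agent.FTors52.HomBound
import Groth.Agent.QCoh.Ab.MV
import Groth.Agent.SiteBase.ExtMod
import Mathlib.CategoryTheory.Abelian.GrothendieckCategory.HasExt

/-!
# Cohomological dimension of Noetherian formal schemes

The first part repeats `Groth.Agent.QCoh.Bound` for abelian sheaves acyclic on affine opens.
-/

set_option autoImplicit false

universe u

open CategoryTheory CategoryTheory.Limits AlgebraicGeometry TopologicalSpace Opposite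

namespace Groth.Agent.FTors52

open QCoh

variable {X : Scheme.{u}}

/-- An abelian sheaf on a scheme without higher cohomology on affine opens. -/
def AffVan (F : CohTop.Ab X.toPresheafedSpace.carrier) : Prop :=
  ∀ V : X.Opens, IsAffineOpen V → ∀ n : ℕ, Subsingleton (CohTop.HU F (n + 1) V)

/-- Vanishing on a union of `t` members of a family of affines stable under intersection. -/
theorem subsingleton_HU_iSup {F : CohTop.Ab X.toPresheafedSpace.carrier} (hF : AffVan F) (Q : X.Opens → Prop)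
    (hQa : ∀ V, Q V → IsAffineOpen V) (hQi : ∀ V W, Q V → Q W → Q (V ⊓ W)) :
    ∀ (t : ℕ) (U : Fin t → X.Opens), (∀ i, Q (U i)) → ∀ n : ℕ, t ≤ n →
      Subsingleton (CohTop.HU F n (⨆ i, U i)) := by
  intro t
  induction t with
  | zero =>
    intro U _ n _
    rw [show (⨆ i, U i) = ⊥ by simp]
    match n with
    | 0 => exact Ab.subsingleton_HU_zero_bot _
    | n + 1 => exact hF _ (isAffineOpen_bot X) n
  | succ t ih =>
    intro U hU n hn
    obtain ⟨m, rfl⟩ := Nat.exists_eq_add_of_le (show 1 ≤ n by omega)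
    rw [Nat.add_comm, show (⨆ i, U i) = U 0 ⊔ ⨆ i : Fin t, U i.succ from
      le_antisymm (iSup_le fun i => Fin.cases le_sup_left
        (fun j => le_sup_of_le_right (le_iSup (fun i : Fin t => U i.succ) j)) i)
        (sup_le (le_iSup _ _) (iSup_le fun i => le_iSup _ _))]
    refine Ab.subsingleton_HU_sup _ _ _ m (hF _ (hQa _ (hU 0)) m)
      (ih _ (fun i => hU i.succ) (m + 1) (by omega)) ?_
    rw [inf_iSup_eq]
    exact ih _ (fun i => hQi _ _ (hU 0) (hU i.succ)) m (by omega)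

/-- A quasi-compact quasi-separated open has cohomological dimension bounded uniformly on its
basic opens. -/
theorem exists_bound (T : X.Opens) (hT : IsCompact (T : Set X))
    (hT' : IsQuasiSeparated (T : Set X)) :
    ∃ d : ℕ, ∀ g : Γ(X, T), ∀ F : CohTop.Ab X.toPresheafedSpace.carrier, AffVan F → ∀ p, d ≤ p →
      Subsingleton (CohTop.HU F p (X.basicOpen g)) := by
  obtain ⟨s, hs, hsT⟩ := isCompact_iff_finite_and_eq_biUnion_affineOpens.mp hT
  have hle : ∀ U ∈ s, (U : X.affineOpens).1 ≤ T := fun U hU => by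
    rw [hsT]; exact le_iSup₂ (f := fun (i : X.affineOpens) (_ : i ∈ s) => (i : X.Opens)) U hU
  suffices h : ∀ s' : Set X.affineOpens, s'.Finite → s' ⊆ s → ∃ d : ℕ, ∀ g : Γ(X, T),
      ∀ F : CohTop.Ab X.toPresheafedSpace.carrier, AffVan F → ∀ p, d ≤ p →
      Subsingleton (CohTop.HU F p
        ((⨆ U ∈ s', (U : X.Opens)) ⊓ X.basicOpen g)) by
    obtain ⟨d, hd⟩ := h s hs subset_rfl
    refine ⟨d, fun g F hF p hp => ?_⟩
    have := hd g F hF p hp
    rwa [← hsT, inf_eq_right.2 (X.basicOpen_le g)] at this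
  intro s' hs'
  induction s', hs' using Set.Finite.induction_on with
  | empty =>
    refine fun _ => ⟨0, fun g F hF p _ => ?_⟩
    have h := subsingleton_HU_iSup hF (fun _ => False) (fun _ h => h.elim)
      (fun _ _ h _ => h.elim) 0 Fin.elim0 (fun i => i.elim0) p (Nat.zero_le p)
    rw [iSup_of_empty] at h
    simpa using h
  | @insert U₀ s' _ hs' ih =>
    intro hsub
    obtain ⟨d, hd⟩ := ih ((Set.subset_insert _ _).trans hsub)
    obtain ⟨U, hU⟩ := U₀
    have hUT : U ≤ T := hle ⟨U, hU⟩ (hsub (Set.mem_insert _ _))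
    let S : X.Opens := ⨆ V ∈ s', (V : X.Opens)
    have hST : S ≤ T := iSup₂_le fun V hV => hle V (hsub (Set.mem_insert_of_mem _ hV))
    have hS : IsCompact (S : Set X) :=
      isCompact_iff_finite_and_eq_biUnion_affineOpens.mpr ⟨s', hs', rfl⟩
    let K : X.Opens := S ⊓ U
    choose f hf hxf using fun x : (K : Set X) => hU.exists_basicOpen_le (V := K) ⟨x.1, x.2⟩ x.2.2
    obtain ⟨t, ht⟩ := (hT' _ _ hST S.isOpen hS hUT U.isOpen hU.isCompact :
        IsCompact (K : Set X)).elim_finite_subcover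
      (fun x => (X.basicOpen (f x) : Set X)) (fun x => (X.basicOpen (f x)).isOpen)
      (fun x hx => Set.mem_iUnion.2 ⟨⟨x, hx⟩, hxf ⟨x, hx⟩⟩)
    refine ⟨max (d + 1) (t.card + 1), fun g F hF p hp => ?_⟩
    let gU : Γ(X, U) := X.presheaf.map (homOfLE hUT).op g
    have hgU : X.basicOpen gU = U ⊓ X.basicOpen g := Scheme.basicOpen_res _ _ _
    let V : Fin t.card → X.Opens := fun i => X.basicOpen (f (t.equivFin.symm i).1 * gU)
    have hK : K ⊓ X.basicOpen g = ⨆ i, V i := by
      refine le_antisymm (fun x hx => ?_) (iSup_le fun i => ?_)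
      · obtain ⟨y, hy, hxy⟩ := Set.mem_iUnion₂.1 (ht hx.1)
        refine (le_iSup V (t.equivFin ⟨y, hy⟩)) ?_
        simp only [V, Equiv.symm_apply_apply, Scheme.basicOpen_mul, hgU]
        exact ⟨hxy, hx.1.2, hx.2⟩
      · simp only [V, Scheme.basicOpen_mul, hgU]
        exact inf_le_inf (hf _) inf_le_right
    obtain ⟨m, rfl⟩ := Nat.exists_eq_add_of_le (show 1 ≤ p by omega)
    rw [Nat.add_comm, iSup_insert, inf_sup_right]
    refine Ab.subsingleton_HU_sup _ _ _ m ?_ (hd g F hF _ (by omega)) ?_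
    · rw [← hgU]
      exact hF _ (hU.basicOpen gU) m
    · rw [show (U ⊓ X.basicOpen g) ⊓ (S ⊓ X.basicOpen g) = ⨆ i, V i from by
        rw [← hK]
        exact le_antisymm (le_inf (le_inf (inf_le_right.trans inf_le_left)
          (inf_le_left.trans inf_le_left)) (inf_le_left.trans inf_le_right))
          (le_inf (inf_le_inf_right _ inf_le_right) (inf_le_inf_right _ inf_le_left))]
      refine subsingleton_HU_iSup hF (fun W => ∃ g : Γ(X, U), W = X.basicOpen g) ?_ ?_ _ V
        (fun i => ⟨_, rfl⟩) m (by omega)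
      · rintro _ ⟨g, rfl⟩; exact hU.basicOpen g
      · rintro _ _ ⟨g, rfl⟩ ⟨g', rfl⟩; exact ⟨g * g', (X.basicOpen_mul g g').symm⟩

section Formal

attribute [local instance] HasDerivedCategory.standard

variable {𝔛 : FSch.Sys.{u}} (h𝔛 : 𝔛.IsLocNoethFormal) [CompactSpace (𝔛.X 0)]

include h𝔛

theorem noetherianSpace : NoetherianSpace (𝔛.X 0) :=
  have := h𝔛.2.2 0
  have : IsNoetherian (𝔛.X 0) := {}
  inferInstance

/-- Uniform bound for the cohomology of filtered colimits of coherent modules on the basic opens of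
an open of a Noetherian formal scheme. -/
theorem exists_bound_formal (T : (𝔛.X 0).Opens) :
    ∃ d : ℕ, ∀ g : Γ(𝔛.X 0, T), ∀ F, indCoh 𝔛 h𝔛.1 F → ∀ p, d ≤ p →
      Subsingleton (ModSite.HU (𝔛.Osh h𝔛.1) F p ((𝔛.X 0).basicOpen g)) := by
  have := noetherianSpace h𝔛
  obtain ⟨d, hd⟩ := exists_bound T (NoetherianSpace.isCompact _)
    (fun U V _ _ _ _ _ _ => NoetherianSpace.isCompact _)
  exact ⟨d, fun g F hF p hp => hd g (abF F)
    (fun V hV n => subsingleton_HU_affine_of_ind h𝔛 hF hV (n + 1) n.succ_pos) p hp⟩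

/-- Morphisms out of the structure sheaf into shifts of a filtered colimit of coherent modules
vanish above a bound. -/
theorem exists_bound_unit :
    ∃ e : ℕ, ∀ F, indCoh 𝔛 h𝔛.1 F → ∀ k : ℤ, (e : ℤ) ≤ k →
      Subsingleton (SiteCmp.inD (𝔛.Osh h𝔛.1) (FSch.unitF 𝔛 h𝔛.1) ⟶
        (shiftFunctor (DerivedCategory (FSch.ModF 𝔛 h𝔛.1)) k).obj (SiteCmp.inD (𝔛.Osh h𝔛.1) F)) := by
  obtain ⟨d, hd⟩ := exists_bound_formal h𝔛 ⊤
  refine ⟨d, fun F hF k hk => ?_⟩
  obtain ⟨p, rfl⟩ := Int.eq_ofNat_of_zero_le ((Int.natCast_nonneg d).trans hk)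
  have hH : Subsingleton (Sheaf.H (ModSite.toAb F) p) := by
    have := hd 1 F hF p (by omega)
    rw [(𝔛.X 0).basicOpen_of_isUnit isUnit_one] at this
    exact SiteBase.subsingleton_H_of_HU_terminal isTerminalTop (ModSite.toAb F) p this
  obtain ⟨e⟩ := SiteBase.nonempty_ext_unit_addEquiv (R := ModSite.ringSh (𝔛.Osh h𝔛.1)) F p
  exact (Equiv.subsingleton_congr (e.symm.trans Abelian.Ext.homAddEquiv).toEquiv).1 hH

/-- Uniform bound on the preimages of a basis of a quasi-compact base. -/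
theorem exists_bound_preimages {Y : Scheme.{u}} [CompactSpace Y] (f : 𝔛.X 0 ⟶ Y) :
    ∃ (N : ℕ) (B' : Set Y.Opens),
      DLim.IsCoveredBy (Opens.grothendieckTopology Y.toPresheafedSpace.carrier) B' ∧
      ∀ W ∈ B', ∀ F, indCoh 𝔛 h𝔛.1 F → ∀ k, N < k →
        Subsingleton (ModSite.HU (𝔛.Osh h𝔛.1) F k (f ⁻¹ᵁ W)) := by
  obtain ⟨s, hs, hsT⟩ := isCompact_iff_finite_and_eq_biUnion_affineOpens.mp
    (show IsCompact ((⊤ : Y.Opens) : Set Y) by simpa using isCompact_univ)
  choose d hd using fun W : Y.affineOpens => exists_bound_formal h𝔛 (f ⁻¹ᵁ W.1)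
  refine ⟨hs.toFinset.sup d, {W | ∃ U ∈ s, ∃ g : Γ(Y, (U : Y.affineOpens).1), W = Y.basicOpen g},
    DLim.isCoveredBy_of_isBasis (Opens.isBasis_iff_nbhd.2 fun {U y} hy => ?_), ?_⟩
  · have hy' : y ∈ (⊤ : Y.Opens) := trivial
    rw [hsT] at hy'
    obtain ⟨V, hVs, hyV⟩ : ∃ V ∈ s, y ∈ (V : Y.affineOpens).1 := by simpa using hy'
    obtain ⟨g, hg, hyg⟩ := V.2.exists_basicOpen_le (V := U) ⟨y, hy⟩ hyV
    exact ⟨Y.basicOpen g, ⟨V, hVs, g, rfl⟩, hyg, hg⟩
  · rintro W ⟨U, hU, g, rfl⟩ F hF k hk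
    have h := hd U (f.app U.1 g) F hF k
      ((Finset.le_sup (hs.mem_toFinset.2 hU)).trans hk.le)
    rwa [← Scheme.preimage_basicOpen] at h

end Formal

end Groth.Agent.FTors52
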