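import Groth.Agent.QCoh.Ab.Cartan

/-!
# Cech acyclicity for limits of towers and for homeomorphic spaces
-/

set_option autoImplicit false

universe u

open CategoryTheory TopologicalSpace Opposite

namespace Groth.Agent.FTors52

open Groth.Agent.QCoh.Ab

variable {X Y : TopCat.{u}} {ι : Type u}

/-- Transport of Cech acyclicity along inverse homeomorphisms. -/
theorem acyclic_transfer (g : Y ⟶ X) (t : X ⟶ Y) (htg : t ≫ g = 𝟙 X) (hgt : g ≫ t = 𝟙 Y)
    (F : TopCat.Presheaf AddCommGrpCat.{u} Y) (U : ι → Opens X)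
    (hF : Acyclic F fun i => (Opens.map g).obj (U i)) :
    Acyclic (show TopCat.Presheaf AddCommGrpCat.{u} X from (Opens.map g).op ⋙ F) U := by
  have e₁ : ∀ W : Opens Y, (Opens.map g).obj ((Opens.map t).obj W) = W := fun W => by
    change (Opens.map (g ≫ t)).obj W = W
    rw [hgt]
    rfl
  have e₂ : ∀ W : Opens X, (Opens.map t).obj ((Opens.map g).obj W) = W := fun W => by
    change (Opens.map (t ≫ g)).obj W = W
    rw [htg]
    rfl
  intro p c hc hd
  have hle : ∀ {q : ℕ} {σ : Fin q → ι} {W : Opens Y}, Le (fun i => (Opens.map g).obj (U i)) σ W →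
      Le U σ ((Opens.map t).obj W) := fun hW a =>
    (leOfHom ((Opens.map t).map (homOfLE (hW a)))).trans (e₂ _).le
  let c' : Cochain F (fun i => (Opens.map g).obj (U i)) (p + 2) := fun σ W =>
    F.map (homOfLE (e₁ W.1).ge).op (c σ ⟨_, hle W.2⟩)
  have hc' : IsNatural c' := fun σ W W' hW hW' i => by
    have h1 := hc σ _ _ (hle hW) (hle hW') ((Opens.map t).map i)
    change F.map i.op (F.map (homOfLE (e₁ W).ge).op _) = F.map (homOfLE (e₁ W').ge).op _
    rw [← h1]
    change (F.map _ ≫ F.map _) _ = (F.map ((Opens.map g).op.map _) ≫ F.map _) _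
    rw [← F.map_comp, ← F.map_comp]
    rfl
  have hd' : d c' = 0 := by
    funext σ W
    have h1 := congrArg (F.map (homOfLE (e₁ W.1).ge).op)
      (congrFun (congrFun hd σ) ⟨_, hle W.2⟩)
    simp only [d, map_sum, map_zsmul] at h1
    exact h1.trans (map_zero _)
  obtain ⟨h', hn', hh'⟩ := hF p c' hc' hd'
  have hle' : ∀ {q : ℕ} {σ : Fin q → ι} {W : Opens X}, Le U σ W →
      Le (fun i => (Opens.map g).obj (U i)) σ ((Opens.map g).obj W) := fun hW a =>
    leOfHom ((Opens.map g).map (homOfLE (hW a)))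
  refine ⟨fun σ W => h' σ ⟨_, hle' W.2⟩, fun σ W W' hW hW' i =>
    hn' σ _ _ (hle' hW) (hle' hW') ((Opens.map g).map i), ?_⟩
  funext σ W
  refine (congrFun (congrFun hh' σ) ⟨_, hle' W.2⟩).trans ?_
  exact hc σ _ W.1 (hle (hle' W.2)) W.2 (homOfLE (e₂ W.1).ge)

variable {P : TopCat.Presheaf AddCommGrpCat.{u} X} {Q : ℕ → TopCat.Presheaf AddCommGrpCat.{u} X}
  {U : ι → Opens X}

/-- Cech acyclicity of the limit of a tower with surjective transition maps. -/
theorem acyclic_of_tower (π : ∀ k, P ⟶ Q k) (t : ∀ k, Q (k + 1) ⟶ Q k)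
    (hπ : ∀ k, π (k + 1) ≫ t k = π k)
    (hinj : ∀ (W : Opens X) (s s' : P.obj (op W)), (∀ k, (π k).app (op W) s = (π k).app (op W) s') →
      s = s')
    (hsurj : ∀ (W : Opens X) (y : ∀ k, (Q k).obj (op W)),
      (∀ k, (t k).app (op W) (y (k + 1)) = y k) → ∃ s, ∀ k, (π k).app (op W) s = y k)
    (hQ : ∀ k, Acyclic (Q k) U)
    (hlift : ∀ (k q : ℕ) (σ : Fin (q + 1) → ι),
      Function.Surjective ((t k).app (op (⨅ a, U (σ a)))))
    (hone : ∀ (k : ℕ) (z : Cochain (Q k) U 1), IsNatural z → d z = 0 →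
      ∃ z' : Cochain (Q (k + 1)) U 1, IsNatural z' ∧ d z' = 0 ∧ push (t k) z' = z) :
    Acyclic P U := by
  intro p c hc hd
  have hd0 : ∀ k, d (push (π k) c) = 0 := fun k => by
    rw [d_push, hd]
    funext σ W
    exact map_zero _
  have lift : ∀ (k q : ℕ) (e : Cochain (Q k) U (q + 1)), IsNatural e →
      ∃ e' : Cochain (Q (k + 1)) U (q + 1), IsNatural e' ∧ push (t k) e' = e := fun k q e he => by
    choose l hl using fun σ : Fin (q + 1) → ι =>
      hlift k q σ (e σ ⟨⨅ a, U (σ a), fun a => iInf_le _ a⟩)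
    refine ⟨fun σ W => (Q (k + 1)).map (homOfLE (le_iInf W.2)).op (l σ),
      fun σ W W' hW hW' i => congr($(((Q (k + 1)).map_comp _ _).symm) (l σ)), ?_⟩
    funext σ W
    refine (congr($((t k).naturality (homOfLE (le_iInf W.2)).op) (l σ))).trans ?_
    refine (congrArg _ (hl σ)).trans ?_
    exact he σ _ W.1 _ W.2 _
  have step : ∀ k (hk : Cochain (Q k) U (p + 1)), IsNatural hk → d hk = push (π k) c →
      ∃ h' : Cochain (Q (k + 1)) U (p + 1), (IsNatural h' ∧ d h' = push (π (k + 1)) c) ∧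
        push (t k) h' = hk := fun k hk hkn hkd => by
    obtain ⟨g, hgn, hgd⟩ := hQ (k + 1) p (push (π (k + 1)) c) (push_natural _ hc) (hd0 _)
    have hcomp : push (t k) (push (π (k + 1)) c) = push (π k) c := by
      rw [← hπ k]
      rfl
    have hzn : IsNatural (push (t k) g - hk) := fun σ W W' hW hW' i => by
      simp only [Pi.sub_apply, map_sub, push_natural (t k) hgn σ W W' hW hW' i,
        hkn σ W W' hW hW' i]
    have hz : d (push (t k) g - hk) = 0 := by
      rw [d_sub, d_push, hgd, hcomp, hkd, sub_self]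
    obtain ⟨z', hzn', hzd', hzt⟩ : ∃ z' : Cochain (Q (k + 1)) U (p + 1),
        IsNatural z' ∧ d z' = 0 ∧ push (t k) z' = push (t k) g - hk := by
      cases p with
      | zero => exact hone k _ hzn hz
      | succ q =>
        obtain ⟨e, hen, hed⟩ := hQ k q _ hzn hz
        obtain ⟨e', hen', het⟩ := lift k q e hen
        exact ⟨d e', d_natural hen', d_d e', by rw [← d_push, het, hed]⟩
    refine ⟨g - z', ⟨fun σ W W' hW hW' i => by
      simp only [Pi.sub_apply, map_sub, hgn σ W W' hW hW' i, hzn' σ W W' hW hW' i],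
      by rw [d_sub, hgd, hzd', sub_zero]⟩, ?_⟩
    rw [push_sub, hzt, sub_sub_cancel]
  obtain ⟨g₀, hg₀⟩ := hQ 0 p (push (π 0) c) (push_natural _ hc) (hd0 0)
  choose nx hnx using step
  let H : ∀ k, {a : Cochain (Q k) U (p + 1) // IsNatural a ∧ d a = push (π k) c} := fun k =>
    Nat.rec ⟨g₀, hg₀⟩ (fun k a => ⟨nx k a.1 a.2.1 a.2.2, (hnx k a.1 a.2.1 a.2.2).1⟩) k
  have hH : ∀ k, push (t k) (H (k + 1)).1 = (H k).1 := fun k => (hnx k _ _ _).2
  choose s hs using fun (σ : Fin (p + 1) → ι) (W : {W : Opens X // Le U σ W}) =>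
    hsurj W.1 (fun k => (H k).1 σ W) fun k => congrFun (congrFun (hH k) σ) W
  refine ⟨s, fun σ W W' hW hW' i => hinj W' _ _ fun k => ?_, ?_⟩
  · refine (congr($((π k).naturality i.op) (s σ ⟨W, hW⟩))).trans ?_
    exact ((congrArg _ (hs σ ⟨W, hW⟩ k)).trans ((H k).2.1 σ W W' hW hW' i)).trans
      (hs σ ⟨W', hW'⟩ k).symm
  · funext σ W
    refine hinj W.1 _ _ fun k => ?_
    have e : push (π k) s = (H k).1 := funext₂ fun σ W => hs σ W k
    have h1 := (d_push (π k) s).symm.trans ((congrArg d e).trans (H k).2.2)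
    exact congrFun (congrFun h1 σ) W

end Groth.Agent.FTors52
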