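import Groth.Agent.QCoh.Ab.Push
import Groth.Agent.SiteBase.ClosedEmb

/-!
# Cohomology of direct images along closed embeddings
-/

set_option autoImplicit false

universe u

open CategoryTheory CategoryTheory.Limits TopologicalSpace Opposite CategoryTheory.Abelian
open Groth.Agent.QCoh.Ab

namespace Groth.Agent.FTors52

variable {X Y : TopCat.{u}} (f : X ⟶ Y)

/-- Cohomology commutes with the direct image along a closed embedding. -/
theorem H_push_closed (hf : Topology.IsClosedEmbedding f) (F : CohTop.Ab X) (i : ℕ) :
    Nonempty (CohTop.H F i ≃+ CohTop.H ((CohTop.push f).obj F) i) := by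
  have base : ∀ G : CohTop.Ab X, Nonempty (CohTop.H G 0 ≃+ CohTop.H ((CohTop.push f).obj G) 0) :=
    fun G => ⟨(Sheaf.H.equiv₀ G isTerminalTop).trans
      (Sheaf.H.equiv₀ ((CohTop.push f).obj G) isTerminalTop).symm⟩
  induction i using Nat.strong_induction_on generalizing F with
  | _ i ih =>
    match i with
    | 0 => exact base F
    | m + 1 =>
      let T : ShortComplex (CohTop.Ab X) :=
        ShortComplex.mk (Injective.ι F) (cokernel.π (Injective.ι F)) (cokernel.condition _)
      have hT : T.ShortExact :=
        { exact := ShortComplex.exact_of_g_is_cokernel _ (cokernelIsCokernel _) }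
      have hinj : Injective T.X₂ := Injective.injective_under F
      haveI := ClosedEmb.preservesFiniteColimits_push hf
      haveI : (CohTop.push f).IsRightAdjoint :=
        (TopCat.Sheaf.pullbackPushforwardAdjunction AddCommGrpCat.{u} f).isRightAdjoint
      have hT' := hT.map_of_exact (CohTop.push f)
      have hinj' : Injective (T.map (CohTop.push f)).X₂ := SiteBase.injective_push f T.X₂
      have hv : ∀ k, Subsingleton (CohTop.H T.X₂ (k + 1)) := fun k => inferInstance
      have hv' : ∀ k, Subsingleton (CohTop.H (T.map (CohTop.push f)).X₂ (k + 1)) :=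
        fun k => inferInstance
      match m with
      | 0 =>
        let e₂ := (Sheaf.H.equiv₀ T.X₂ isTerminalTop).trans
          (Sheaf.H.equiv₀ (T.map (CohTop.push f)).X₂ isTerminalTop).symm
        let e₃ := (Sheaf.H.equiv₀ T.X₃ isTerminalTop).trans
          (Sheaf.H.equiv₀ (T.map (CohTop.push f)).X₃ isTerminalTop).symm
        have hn : ∀ y, Sheaf.H.map (T.map (CohTop.push f)).g 0 (e₂ y) = e₃ (Sheaf.H.map T.g 0 y) :=
          fun y => (Sheaf.H.equiv₀_symm_naturality isTerminalTop _ _).trans (congrArg _
            (Sheaf.H.equiv₀_naturality isTerminalTop T.g y))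
        refine nonempty_addEquiv_of_surjective (connecting hT 0)
          ((connecting hT' 0).comp e₃.toAddMonoidHom) (connecting_surjective hT 0 (hv 0))
          ((connecting_surjective hT' 0 (hv' 0)).comp e₃.surjective) fun x => ?_
        rw [connecting_eq_zero_iff]
        refine Iff.trans ?_ (connecting_eq_zero_iff hT' 0 (e₃ x)).symm
        exact ⟨fun ⟨y, hy⟩ => ⟨e₂ y, by rw [hn, hy]⟩, fun ⟨z, hz⟩ => ⟨e₂.symm z, e₃.injective <| by
          rw [← hn, AddEquiv.apply_symm_apply, hz]⟩⟩
      | m + 1 =>
        obtain ⟨e⟩ := ih (m + 1) (Nat.lt_succ_self _) T.X₃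
        exact ⟨((AddEquiv.ofBijective _ (connecting_bijective hT (m + 1) (hv m) (hv (m + 1)))).symm.trans
          e).trans (AddEquiv.ofBijective _ (connecting_bijective hT' (m + 1) (hv' m) (hv' (m + 1))))⟩

end Groth.Agent.FTors52
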