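import Groth.Agent.FTors52.IndCoh

/-!
# Coherent modules form an essentially small class

The sections of a module locally of finite type embed into one set independent of the module, so that
the module is determined by subsets of that set.
-/

set_option autoImplicit false

universe u

open CategoryTheory CategoryTheory.Limits AlgebraicGeometry Opposite TopologicalSpace

namespace Groth.Agent.FTors52

open FMod90

variable {T : TopCat.{u}} {O : Sheaf (Opens.grothendieckTopology T) CommRingCat.{u}}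
  {M N : ModSite.Mod O}

variable (O) in
/-- The set into which sections are encoded. -/
abbrev CodeSet : Type u := T → Set (Σ n : ℕ, Σ W : Opens T, Fin n → Ring O W)

variable (O) in
/-- The encoded form of a module. -/
abbrev Code : Type u :=
  (Opens T → Set (CodeSet O)) × (∀ _ : Opens T, Set (CodeSet O × CodeSet O × CodeSet O)) ×
    (∀ U : Opens T, Set (Ring O U × CodeSet O × CodeSet O)) ×
    (∀ U V : Opens T, V ≤ U → Set (CodeSet O × CodeSet O))

/-- A module locally of finite type embeds into the set of codes. -/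
theorem exists_embedding (hM : ∀ x, ∃ (U : Opens T) (_ : x ∈ U) (n : ℕ) (s : Fin n → Sec M U), IsGen M s) :
    ∃ i : ∀ U, Sec M U → CodeSet O, ∀ U, Function.Injective (i U) := by
  choose Ux hx n s hs using hM
  refine ⟨fun U y x => {p | ∃ (W : Opens T) (hW : W ≤ U) (hW' : W ≤ Ux x) (a : Fin (n x) → Ring O W),
    p = ⟨n x, W, a⟩ ∧ x ∈ W ∧ comb (s x) hW' a = res M hW y}, fun U y y' hyy' => eq_of_locally fun x hxU => ?_⟩
  obtain ⟨W, hW, a, hxW, ha⟩ := hs x (U ⊓ Ux x) inf_le_right (res M inf_le_left y) x ⟨hxU, hx x⟩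
  rw [res_res] at ha
  obtain ⟨W', hW₁, hW₂, a', he, -, ha'⟩ := (Set.ext_iff.1 (congrFun hyy' x) ⟨n x, W, a⟩).1
    ⟨W, hW.trans inf_le_left, hW.trans inf_le_right, a, rfl, hxW, ha⟩
  obtain ⟨rfl, h2⟩ := Sigma.mk.inj (eq_of_heq (Sigma.mk.inj he).2)
  obtain rfl := eq_of_heq h2
  exact ⟨W, hW₁, hxW, ha.symm.trans ha'⟩

variable (M) in
/-- The code of a module for an embedding of its sections. -/
def codeOf (i : ∀ U, Sec M U → CodeSet O) : Code O :=
  (fun U => Set.range (i U),
    fun U => Set.range fun p : Sec M U × Sec M U => (i U p.1, i U p.2, i U (p.1 + p.2)),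
    fun U => Set.range fun p : Ring O U × Sec M U => (p.1, i U p.2, i U (p.1 • p.2)),
    fun U V h => Set.range fun s : Sec M U => (i U s, i V (res M h s)))

theorem exists_hom_of_code {i : ∀ U, Sec M U → CodeSet O} {j : ∀ U, Sec N U → CodeSet O}
    (hj : ∀ U, Function.Injective (j U)) (h : codeOf M i = codeOf N j) :
    ∃ φ : M ⟶ N, ∀ U s, j U (appL φ U s) = i U s := by
  simp only [codeOf, Prod.mk.injEq] at h
  obtain ⟨h1, h2, h3, h4⟩ := h
  choose e he using fun U (s : Sec M U) => (congrFun h1 U).le (Set.mem_range_self s)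
  refine ⟨mkHom (fun U =>
    { toFun := e U
      map_add' := fun a b => by
        obtain ⟨⟨a', b'⟩, hp⟩ := (congrFun h2 U).le (Set.mem_range_self (a, b))
        simp only [Prod.mk.injEq] at hp
        obtain ⟨ha, hb, hab⟩ := hp
        rw [← he U a] at ha
        rw [← he U b] at hb
        rw [← he U (a + b)] at hab
        rw [← hj U ha, ← hj U hb, hj U hab]
      map_smul' := fun c a => by
        obtain ⟨⟨c', a'⟩, hp⟩ := (congrFun h3 U).le (Set.mem_range_self (c, a))
        simp only [Prod.mk.injEq] at hp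
        obtain ⟨rfl, ha, hca⟩ := hp
        rw [← he U a] at ha
        rw [← he U (c' • a)] at hca
        rw [RingHom.id_apply, ← hj U ha, hj U hca] }) fun U V hVU s => ?_, fun U s => he U s⟩
  obtain ⟨s', hp⟩ := (congrFun (congrFun (congrFun h4 U) V) hVU).le (Set.mem_range_self s)
  simp only [Prod.mk.injEq] at hp
  obtain ⟨hs, hr⟩ := hp
  rw [← he U s] at hs
  rw [← he V (res M hVU s)] at hr
  change res N hVU (e U s) = e V (res M hVU s)
  rw [← hj U hs, hj V hr]

theorem nonempty_iso_of_code {i : ∀ U, Sec M U → CodeSet O} {j : ∀ U, Sec N U → CodeSet O}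
    (hi : ∀ U, Function.Injective (i U)) (hj : ∀ U, Function.Injective (j U))
    (h : codeOf M i = codeOf N j) : Nonempty (M ≅ N) := by
  obtain ⟨φ, hφ⟩ := exists_hom_of_code hj h
  obtain ⟨ψ, hψ⟩ := exists_hom_of_code hi h.symm
  exact ⟨⟨φ, ψ, hom_ext fun U s => hi U (by rw [appL_comp, hψ, hφ, appL_id]),
    hom_ext fun U s => hj U (by rw [appL_comp, hφ, hψ, appL_id])⟩⟩

/-- Up to isomorphism modules locally of finite type form a set. -/
theorem exists_small_family (P : ObjectProperty (ModSite.Mod O))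
    (hP : ∀ M, P M → ∀ x, ∃ (U : Opens T) (_ : x ∈ U) (n : ℕ) (s : Fin n → Sec M U), IsGen M s) :
    ∃ (κ : Type u) (R : κ → ModSite.Mod O), (∀ a, P (R a)) ∧
      ∀ M, P M → ∃ a, Nonempty (R a ≅ M) := by
  let S : Set (Code O) := {c | ∃ (M : ModSite.Mod O) (_ : P M) (i : ∀ U, Sec M U → CodeSet O),
    (∀ U, Function.Injective (i U)) ∧ codeOf M i = c}
  have hS : ∀ c : S, ∃ (M : ModSite.Mod O) (_ : P M) (i : ∀ U, Sec M U → CodeSet O),
    (∀ U, Function.Injective (i U)) ∧ codeOf M i = c.1 := fun c => c.2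
  choose R hR i hi hc using hS
  refine ⟨S, R, hR, fun M hM => ?_⟩
  obtain ⟨j, hj⟩ := exists_embedding (hP M hM)
  refine ⟨⟨codeOf M j, M, hM, j, hj, rfl⟩, nonempty_iso_of_code (hi _) hj (hc _)⟩

end Groth.Agent.FTors52
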