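import Mathlib.CategoryTheory.Adjunction.AdjointFunctorTheorems
import Mathlib.CategoryTheory.Adjunction.Opposites
import Mathlib.CategoryTheory.Limits.FullSubcategory
import Mathlib.CategoryTheory.Limits.Presentation
import Mathlib.CategoryTheory.InducedCategory
import Mathlib.CategoryTheory.Limits.Preserves.Opposites

/-!
# Coreflection onto a class generated by a set of objects

A class of objects closed under colimits in which every object is a colimit of members of a small
family has a coreflection.
-/

set_option autoImplicit false

universe u u₁

open CategoryTheory CategoryTheory.Limits Opposite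

namespace Groth.Agent.FTors52

variable {C : Type u₁} [Category.{u} C] [HasColimits C]

theorem isLeftAdjoint_ι_of_generated (P : ObjectProperty C)
    (hclosed : ∀ (J : Type u) [SmallCategory J], P.IsClosedUnderColimitsOfShape J)
    {κ : Type u} (R : κ → C) (hR : ∀ a, P (R a))
    (hgen : ∀ N, P N → ∃ (J : Type u) (_ : SmallCategory J) (pres : ColimitPresentation J N),
      ∀ j, ∃ a, Nonempty (R a ≅ pres.diag.obj j)) :
    P.ι.IsLeftAdjoint := by
  have : HasColimits P.FullSubcategory := ⟨fun J _ => by
    have := hclosed J
    infer_instance⟩
  have hι : PreservesColimitsOfSize.{u, u} P.ι := ⟨fun {J} _ => by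
    have := hclosed J
    infer_instance⟩
  have : HasLimits P.FullSubcategoryᵒᵖ := inferInstance
  have : PreservesLimitsOfSize.{u, u} P.ι.op := preservesLimitsOfSize_op P.ι
  have hG : SolutionSetCondition.{u} P.ι.op := fun A => by
    let K : CostructuredArrow (inducedFunctor R) A.unop ⥤ C :=
      CostructuredArrow.proj _ _ ⋙ inducedFunctor R
    let c : Cocone K :=
      { pt := A.unop
        ι :=
          { app := fun p => p.hom
            naturality := fun p q f => (CostructuredArrow.w f).trans (Category.comp_id _).symm } }
    have hT : P (colimit K) := by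
      have := hclosed (CostructuredArrow (inducedFunctor R) A.unop)
      exact P.prop_of_isColimit (colimit.isColimit K) fun p => hR p.left
    refine ⟨PUnit, fun _ => op ⟨colimit K, hT⟩, fun _ => (colimit.desc K c).op, fun X f => ?_⟩
    obtain ⟨J, _, pres, hpres⟩ := hgen X.unop.obj X.unop.2
    choose a ha using hpres
    let e := fun j => (ha j).some
    let a' : J → InducedCategory C R := a
    let u' : ∀ j, (inducedFunctor R).obj (a' j) ⟶ A.unop := fun j => (e j).hom ≫ pres.ι.app j ≫ f.unop
    let ob : J → CostructuredArrow (inducedFunctor R) A.unop := fun j => CostructuredArrow.mk (u' j)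
    let mp : ∀ {j k : J} (g : j ⟶ k), ob j ⟶ ob k := fun {j k} g =>
      CostructuredArrow.homMk (InducedCategory.homMk (X := a' j) (Y := a' k) ((e j).hom ≫ pres.diag.map g ≫ (e k).inv)) (by
        simp [ob, u', a'])
    let ι' : ∀ j, R (a j) ⟶ colimit K := fun j => colimit.ι K (ob j)
    let c' : Cocone pres.diag :=
      { pt := colimit K
        ι :=
          { app := fun j => (e j).inv ≫ ι' j
            naturality := fun j k g => by
              have hw : ((e j).hom ≫ pres.diag.map g ≫ (e k).inv) ≫ ι' k =
                  ι' j := colimit.w K (mp g)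
              change pres.diag.map g ≫ (e k).inv ≫ ι' k =
                ((e j).inv ≫ ι' j) ≫ 𝟙 _
              rw [Category.comp_id, ← hw]
              exact (by simp only [Category.assoc]; exact (Iso.inv_hom_id_assoc (e j) _).symm) } }
    refine ⟨PUnit.unit, (ObjectProperty.homMk (pres.isColimit.desc c')).op,
      Quiver.Hom.unop_inj (pres.isColimit.hom_ext fun j => ?_)⟩
    change pres.ι.app j ≫ pres.isColimit.desc c' ≫ colimit.desc K c = pres.ι.app j ≫ f.unop
    rw [pres.isColimit.fac_assoc]
    have hd : ι' j ≫ colimit.desc K c = (e j).hom ≫ pres.ι.app j ≫ f.unop :=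
      colimit.ι_desc c (ob j)
    change ((e j).inv ≫ ι' j) ≫ colimit.desc K c = _
    rw [Category.assoc, hd]
    exact Iso.inv_hom_id_assoc (e j) _
  have := isRightAdjoint_of_preservesLimits_of_solutionSetCondition P.ι.op hG
  exact (Adjunction.ofIsRightAdjoint P.ι.op).unop.isLeftAdjoint

end Groth.Agent.FTors52
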