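import Groth.Agent.FTors52.TowerML
import Groth.Agent.ARLib.Basic
import Mathlib.CategoryTheory.Functor.OfSequence
import Mathlib.Algebra.Category.Grp.Abelian
import Mathlib.Algebra.Category.Grp.EpiMono

/-!
# Towers of abelian groups as projective systems
-/

set_option autoImplicit false

universe u

open CategoryTheory CategoryTheory.Limits Opposite

namespace Groth.Agent.FTors52

variable {H : ℕ → Type u} [∀ k, AddCommGroup (H k)] (t : ∀ k, H (k + 1) →+ H k)

/-- The projective system of a tower. -/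
noncomputable abbrev towerSys : ARSys.PS AddCommGrpCat.{u} :=
  Functor.ofOpSequence (X := fun k => AddCommGrpCat.of (H k)) fun k => AddCommGrpCat.ofHom (t k)

theorem tr_towerSys_succ (k : ℕ) (h : k ≤ k + 1) :
    ARSys.tr (towerSys t) h = AddCommGrpCat.ofHom (t k) :=
  Functor.ofOpSequence_map_homOfLE_succ _ k

theorem shiftMap_towerSys : ∀ (s n : ℕ) (x : H (n + s)),
    ARSys.tr (towerSys t) (Nat.le_add_right n s) x = trN t s n x
  | 0, n, x => congr($(ARLib.tr_refl (towerSys t) (Nat.le_add_right n 0)) x)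
  | s + 1, n, x => by
    rw [← ARLib.tr_tr (towerSys t) (Nat.le_add_right n s) (Nat.le_succ (n + s))]
    exact (congrArg (ARSys.tr (towerSys t) (Nat.le_add_right n s))
      congr($(tr_towerSys_succ t (n + s) _) x)).trans (shiftMap_towerSys s n (t (n + s) x))

/-- A tower with a lifting bound satisfies the Mittag-Leffler condition. -/
theorem isML_of_bound (r : ℕ)
    (hr : ∀ k (x : H k), ∃ x' : H (k + 1), Vanishes t r k (t k x' - x)) :
    ARSys.IsML (towerSys t) := by
  intro n
  refine ⟨r, fun s hs => le_antisymm ?_ ?_⟩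
  · exact (ARLib.imageSubobject_le_iff _ _).2 ⟨_, 𝟙 _, inferInstance,
      ARSys.tr (towerSys t) (show n + r ≤ n + s by omega),
      (Category.id_comp _).trans (ARLib.tr_tr (towerSys t) _ _).symm⟩
  · choose z hz using exists_trN_eq t r hr n s hs
    refine (ARLib.imageSubobject_le_iff _ _).2 ?_
    obtain ⟨T, π, hπ, y, hy⟩ : ∃ (T : AddCommGrpCat.{u}) (π : T ⟶ AddCommGrpCat.of (H (n + r))) (_ : Epi π)
        (y : T ⟶ AddCommGrpCat.of (H (n + s))),
        π ≫ AddCommGrpCat.ofHom (trN t r n) = y ≫ AddCommGrpCat.ofHom (trN t s n) := by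
      let P : AddSubgroup (H (n + r) × H (n + s)) :=
        ((trN t r n).comp (AddMonoidHom.fst _ _) - (trN t s n).comp (AddMonoidHom.snd _ _)).ker
      refine ⟨AddCommGrpCat.of P, AddCommGrpCat.ofHom ((AddMonoidHom.fst _ _).comp P.subtype),
        (AddCommGrpCat.epi_iff_surjective _).2 fun x => ⟨⟨(x, z x), ?_⟩, rfl⟩,
        AddCommGrpCat.ofHom ((AddMonoidHom.snd _ _).comp P.subtype), ?_⟩
      · exact sub_eq_zero.2 (hz x).symm
      · ext x
        exact sub_eq_zero.1 x.2
    refine ⟨T, π, hπ, y, ?_⟩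
    ext x
    exact (shiftMap_towerSys t r n _).trans (congr($hy x).trans (shiftMap_towerSys t s n _).symm)

section stable

variable {H : ℕ → Type u} [∀ k, AddCommGroup (H k)] (t : ∀ k, H (k + 1) →+ H k)
  {G : Type*} [AddCommGroup G] (π : ∀ k, G →+ H k)

/-- Approximate solutions of `w n - t n (w (n + 1)) = b n`. -/
def partialSol (b : ∀ n, H n) : ∀ (_ n : ℕ), H n
  | 0, _ => 0
  | j + 1, n => b n + t n (partialSol b j (n + 1))

theorem partialSol_succ_sub (b : ∀ n, H n) : ∀ j n,
    ∃ y : H (n + j), partialSol t b (j + 1) n - partialSol t b j n = trN t j n y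
  | 0, n => ⟨b n, by
      change b n + t n 0 - 0 = b n
      rw [map_zero, add_zero, sub_zero]⟩
  | j + 1, n => by
    obtain ⟨y, hy⟩ := partialSol_succ_sub b j (n + 1)
    refine ⟨cast (congrArg H (show n + 1 + j = n + (j + 1) by omega)) y, ?_⟩
    rw [trN_succ' t j n _ y (cast_heq _ _), ← hy, map_sub]
    exact add_sub_add_left_eq_sub (t n (partialSol t b (j + 1) (n + 1))) _ (b n)

theorem trN_mem_of_le (hcompat : ∀ n z, t n (π (n + 1) z) = π n z) {n i : ℕ}
    (hi : ∀ y : H (n + i), ∃ z, trN t i n y = π n z) : ∀ j, i ≤ j → ∀ y : H (n + j), ∃ z, trN t j n y = π n z := by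
  intro j hj
  induction j, hj using Nat.le_induction with
  | base => exact hi
  | succ j _ ih => exact fun y => ih (t (n + j) y)

/-- The derived limit vanishes when the stable images are the images of one group. -/
theorem exists_sub_eq_of_stable (hcompat : ∀ n z, t n (π (n + 1) z) = π n z)
    (hstab : ∀ n, ∃ j, ∀ y : H (n + j), ∃ z, trN t j n y = π n z) (b : ∀ n, H n) :
    ∃ w : ∀ n, H n, ∀ n, w n - t n (w (n + 1)) = b n := by
  classical
  choose i hi using hstab
  have hd : ∀ n j j', i n ≤ j → j ≤ j' →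
      ∃ z, partialSol t b j' n - partialSol t b j n = π n z := by
    intro n j j' hj hj'
    induction j', hj' using Nat.le_induction with
    | base => exact ⟨0, by rw [map_zero, sub_self]⟩
    | succ j' hj' ih =>
      obtain ⟨z, hz⟩ := ih
      obtain ⟨y, hy⟩ := partialSol_succ_sub t b j' n
      obtain ⟨z', hz'⟩ := trN_mem_of_le t π hcompat (hi n) j' (hj.trans hj') y
      exact ⟨z' + z, by rw [map_add, ← hz, ← hz', ← hy, sub_add_sub_cancel]⟩
  have hdiff : ∀ n j j', i n ≤ j → i n ≤ j' →
      ∃ z, partialSol t b j' n - partialSol t b j n = π n z := fun n j j' hj hj' => by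
    rcases le_total j j' with h | h
    · exact hd n j j' hj h
    · obtain ⟨z, hz⟩ := hd n j' j hj' h
      exact ⟨-z, by rw [map_neg, ← hz, neg_sub]⟩
  let K : ℕ → ℕ := fun n => ∑ m ∈ Finset.range (n + 1), i m
  have hK : ∀ n, i n ≤ K n ∧ i n ≤ K (n + 1) + 1 := fun n =>
    ⟨Finset.single_le_sum (fun m _ => Nat.zero_le (i m)) (Finset.self_mem_range_succ n),
      (Finset.single_le_sum (f := i) (fun m _ => Nat.zero_le (i m))
        (Finset.mem_range.2 (by omega : n < n + 1 + 1))).trans (Nat.le_succ _)⟩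
  choose z hz using fun n => hdiff n (K n) (K (n + 1) + 1) (hK n).1 (hK n).2
  let q : ℕ → G := fun n => Nat.rec 0 (fun m qm => qm - z m) n
  refine ⟨fun n => partialSol t b (K n) n + π n (q n), fun n => ?_⟩
  rw [map_add, hcompat, show q (n + 1) = q n - z n from rfl, map_sub, ← hz]
  change partialSol t b (K n) n + _ - (t n _ + (_ - (b n + t n _ - _))) = b n
  abel

end stable

end Groth.Agent.FTors52
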