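import Groth.Agent.FTors52.CplLim
import Groth.Agent.FTors52.ClosedPushH
import Groth.Agent.FTors52.TowerSys
import Groth.Agent.FFun.Main
import Groth.Agent.DSites.Vanish

/-!
# Cohomology of the completion of a coherent module
-/

set_option autoImplicit false
set_option maxHeartbeats 1000000

universe u

open CategoryTheory CategoryTheory.Limits AlgebraicGeometry Opposite TopologicalSpace

namespace Groth.Agent.FTors52

open FMod90
open Groth.Agent.PnCoh.Finite (mapLin)

variable {A : Type u} [CommRing A] {I : Ideal A} {X : Scheme.{u}} [X.Over (Spec (CommRingCat.of A))]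
  {𝓚 : X.IdealSheafData} (hX : (FSch.completionAlong X 𝓚).IsFormal) (F : X.Modules)

/-- Direct images on the scheme as abelian sheaves. -/
noncomputable abbrev pushAb : FSch.ModF (FSch.completionAlong X 𝓚) hX ⥤
    Sheaf (Opens.grothendieckTopology X.toPresheafedSpace.carrier) AddCommGrpCat.{u} :=
  (κ X 𝓚 hX).push ⋙ SheafOfModules.toSheaf (ModSite.ringSh X.sheaf)

/-- The direct image of the completion of a module as an abelian sheaf. -/
noncomputable abbrev cplSheaf :
    Sheaf (Opens.grothendieckTopology X.toPresheafedSpace.carrier) AddCommGrpCat.{u} :=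
  (pushAb hX).obj (FSch.realLim (FSch.completionAlong X 𝓚) hX (FSch.complMod 𝓚 F).F
    (FSch.complMod 𝓚 F).toPush)

variable (I) in
/-- The quotient by a power of the ideal as an abelian sheaf. -/
noncomputable abbrev powSheaf (k : ℕ) :
    Sheaf (Opens.grothendieckTopology X.toPresheafedSpace.carrier) AddCommGrpCat.{u} :=
  (QCoh.toAbFunctor X).obj (Formal.modPow I (k + 1) F)

variable (I) in
/-- The transition maps. -/
noncomputable abbrev powT (k : ℕ) : powSheaf I F (k + 1) ⟶ powSheaf I F k :=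
  (QCoh.toAbFunctor X).map (Formal.modPowTrans I (k + 1) F)

variable {F} (h𝓚 : 𝓚 = (FSch.idealSpec A I).comap (X ↘ Spec (CommRingCat.of A)))
  (hF : Coh.IsQCoh F)

theorem isIso_map_modPowToLvl (k : ℕ) : IsIso ((QCoh.toAbFunctor X).map (modPowToLvl hX h𝓚 hF k)) := by
  have := isIso_modPowToLvl hX h𝓚 hF k
  exact Functor.map_isIso _ _

/-- The projections of the completion. -/
noncomputable def cplπ (k : ℕ) : cplSheaf hX F ⟶ powSheaf I F k :=
  (pushAb hX).map (FSch.realProj (FSch.completionAlong X 𝓚) hX (FSch.complMod 𝓚 F).F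
    (FSch.complMod 𝓚 F).toPush k) ≫
      @inv _ _ _ _ ((QCoh.toAbFunctor X).map (modPowToLvl hX h𝓚 hF k))
        (isIso_map_modPowToLvl hX h𝓚 hF k)

theorem cplπ_comp (k : ℕ) :
    cplπ hX h𝓚 hF k ≫ (QCoh.toAbFunctor X).map (modPowToLvl hX h𝓚 hF k) =
      (pushAb hX).map (FSch.realProj (FSch.completionAlong X 𝓚) hX (FSch.complMod 𝓚 F).F
        (FSch.complMod 𝓚 F).toPush k) := by
  exact (Category.assoc _ _ _).trans ((congrArg (_ ≫ ·)
    (@IsIso.inv_hom_id _ _ _ _ ((QCoh.toAbFunctor X).map (modPowToLvl hX h𝓚 hF k))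
      (isIso_map_modPowToLvl hX h𝓚 hF k))).trans (Category.comp_id _))

theorem powT_comp (k : ℕ) :
    powT I F k ≫ (QCoh.toAbFunctor X).map (modPowToLvl hX h𝓚 hF k) =
      (QCoh.toAbFunctor X).map (modPowToLvl hX h𝓚 hF (k + 1)) ≫ (pushAb hX).map
        ((FSch.levelSysOf (FSch.completionAlong X 𝓚) hX (FSch.complMod 𝓚 F).F (FSch.complMod 𝓚 F).toPush).map
          (homOfLE (Nat.le_add_right k 1)).op) :=
  ((QCoh.toAbFunctor X).map_comp _ _).symm.trans
    ((congrArg (QCoh.toAbFunctor X).map (modPowToLvl_trans hX h𝓚 hF k)).trans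
      ((QCoh.toAbFunctor X).map_comp _ _))

theorem cplπ_T (k : ℕ) : cplπ hX h𝓚 hF (k + 1) ≫ powT I F k = cplπ hX h𝓚 hF k := by
  haveI := isIso_map_modPowToLvl hX h𝓚 hF k
  refine (cancel_mono ((QCoh.toAbFunctor X).map (modPowToLvl hX h𝓚 hF k))).1 ?_
  refine (Category.assoc _ _ _).trans ?_
  refine (congrArg (cplπ hX h𝓚 hF (k + 1) ≫ ·) (powT_comp hX h𝓚 hF k)).trans ?_
  refine ((Category.assoc _ _ _).symm.trans (congrArg (· ≫ _) (cplπ_comp hX h𝓚 hF (k + 1)))).trans ?_
  refine Eq.trans ?_ (cplπ_comp hX h𝓚 hF k).symm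
  refine ((pushAb hX).map_comp _ _).symm.trans (congrArg (pushAb hX).map ?_)
  exact (FSch.levelSysOf_map_succ _ _ _ _ k).symm ▸ FSch.realProj_map _ _ _ _ k

variable [HasDerivedCategory.{u}
  (Sheaf (Opens.grothendieckTopology X.toPresheafedSpace.carrier) AddCommGrpCat.{u})]
  [HasProduct fun k => (DerivedCategory.singleFunctor
    (Sheaf (Opens.grothendieckTopology X.toPresheafedSpace.carrier) AddCommGrpCat.{u}) 0).obj
      (powSheaf I F k)]

/-- The direct image of the completion is the derived limit of the quotients. -/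
theorem isRlimVia_cpl :
    CohCx.IsRlimVia
      (fun k => (DerivedCategory.singleFunctor _ 0).obj (powSheaf I F k))
      (fun k => (DerivedCategory.singleFunctor _ 0).map (powT I F k))
      ((DerivedCategory.singleFunctor _ 0).obj (cplSheaf hX F))
      (fun k => (DerivedCategory.singleFunctor _ 0).map (cplπ hX h𝓚 hF k)) := by
  have := DSites.preservesLimits_toSheaf (ModSite.ringSh X.sheaf)
  have : (κ X 𝓚 hX).push.IsRightAdjoint := (κ X 𝓚 hX).adj.isRightAdjoint
  have : PreservesLimitsOfSize.{0, 0} (pushAb hX) :=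
    preservesLimitsOfSize_shrink.{0, u, 0, u} (pushAb hX)
  let S := FSch.levelSysOf (FSch.completionAlong X 𝓚) hX (FSch.complMod 𝓚 F).F (FSch.complMod 𝓚 F).toPush
  have hc := isLimitOfPreserves (pushAb hX) (limit.isLimit S)
  have hq : ∀ k, Coh.IsQCoh (Formal.modPow I (k + 1) F) := fun k => Algz7.isQCoh_modPow I (k + 1) hF
  refine isRlimVia_of_isLimit (isCoveredBy_affine X) (fun U hU p k => ?_) (fun U hU b => ?_)
    (cplπ_T hX h𝓚 hF) (fun a b hab => hc.hom_ext fun k => ?_) fun v hv => ?_
  · exact QCoh.subsingleton_HU_of_isAffineOpen (hq k) hU p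
  · have hs : ∀ k z, ∃ z', (Formal.modPowTrans I (k + 1) F).app U z' = z := fun k z => by
      have he := (Algz7.isQuot_modPowπ (A := A) I (k + 1) F).epi
      have : Function.Surjective ((Formal.modPowπ I (k + 1) F).app U) :=
        QCoh.app_surjective_of_shortExact (S := ShortComplex.mk (kernel.ι (Formal.modPowπ I (k + 1) F))
          (Formal.modPowπ I (k + 1) F) (kernel.condition _))
          { exact := ShortComplex.exact_of_f_is_kernel _ (kernelIsKernel _), epi_g := he }
          (QCoh.isQCoh_kernel hF (hq k) _) hU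
      obtain ⟨x, rfl⟩ := this z
      refine ⟨(Formal.modPowπ I (k + 1 + 1) F).app U x, ?_⟩
      exact congrArg (fun φ : F ⟶ Formal.modPow I (k + 1) F => φ.app U x) (Formal.modPowπ_trans I (k + 1) F)
    choose g hg using hs
    let w : ∀ k, Γ(Formal.modPow I (k + 1) F, U) := fun k =>
      Nat.rec 0 (fun j wj => g j (wj - (show Γ(Formal.modPow I (j + 1) F, U) from b j))) k
    refine ⟨w, funext fun k => ?_⟩
    change w k - (Formal.modPowTrans I (k + 1) F).app U
      (g k (w k - (show Γ(Formal.modPow I (k + 1) F, U) from b k))) = b k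
    rw [hg]
    exact sub_sub_cancel _ _
  · refine (congrArg (a ≫ ·) (cplπ_comp hX h𝓚 hF k.unop).symm).trans ?_
    refine (Category.assoc _ _ _).symm.trans ((congrArg (· ≫ _) (hab k.unop)).trans ?_)
    exact (Category.assoc _ _ _).trans (congrArg (b ≫ ·) (cplπ_comp hX h𝓚 hF k.unop))
  · let c : Cone (S ⋙ pushAb hX) :=
      { pt := _
        π := NatTrans.ofOpSequence
          (fun k => v k ≫ (QCoh.toAbFunctor X).map (modPowToLvl hX h𝓚 hF k)) fun k => by
          simp only [Functor.const_obj_obj, Functor.const_obj_map, Functor.comp_map]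
          refine (Category.id_comp _).trans (Eq.trans ?_ (Category.assoc _ _ _).symm)
          refine Eq.trans ?_ (congrArg (v (k + 1) ≫ ·) (powT_comp hX h𝓚 hF k))
          exact ((congrArg (· ≫ _) (hv k)).symm.trans (Category.assoc _ _ _)) }
    refine ⟨hc.lift c, fun k => ?_⟩
    haveI := isIso_map_modPowToLvl hX h𝓚 hF k
    rw [← cancel_mono ((QCoh.toAbFunctor X).map (modPowToLvl hX h𝓚 hF k)), Category.assoc, cplπ_comp]
    exact hc.fac c (op k)

end Groth.Agent.FTors52
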