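import Groth.Agent.FTors52.CplCoh
import Groth.Agent.S0002

/-!
# Cohomology of the completion of a coherent module on a proper scheme
-/

set_option autoImplicit false
set_option maxHeartbeats 1000000

universe u

open CategoryTheory CategoryTheory.Limits AlgebraicGeometry Opposite TopologicalSpace

namespace Groth.Agent.FTors52

open FMod90
open Groth.Agent.PnCoh.Finite (mapLin)

variable {A : Type u} [CommRing A] [IsNoetherianRing A] {I : Ideal A} {X : Scheme.{u}}
  [X.Over (Spec (CommRingCat.of A))] [IsProper (X ↘ Spec (CommRingCat.of A))]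
  {F : X.Modules}

theorem trN_powT (p : ℕ) : ∀ (j n : ℕ) (y : Formal.HHmodPow I F p (n + j)),
    trN (H := Formal.HHmodPow I F p) (Formal.HHmodPowTrans I F p) j n y =
      mapLin A (FFun.trJ (Ideal.pow_le_pow_right (I := I) (Nat.succ_le_succ (Nat.le_add_right n j))) F) p y
  | 0, n, y => by
    refine Eq.trans ?_ (FFun.mapLin_congr (A := A) (φ := 𝟙 _) ?_ p y)
    · exact (Sheaf.H.map_id_apply y).symm.trans
        (congrArg (fun φ => Sheaf.H.map φ p y) ((QCoh.toAbFunctor X).map_id _).symm)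
    · exact (cancel_epi (FFun.modJπ (I ^ (n + 0 + 1)) F)).1
        ((Category.comp_id _).trans (cokernel.π_desc _ _ _).symm)
  | j + 1, n, y => by
    refine (trN_powT p j n _).trans ?_
    refine (Formal.HHmap_comp _ _ p y).trans ?_
    refine FFun.mapLin_congr (A := A) ?_ p y
    refine (cancel_epi (FFun.modJπ (I ^ (n + (j + 1) + 1)) F)).1 ?_
    refine (Category.assoc _ _ _).symm.trans ?_
    refine (congrArg (· ≫ _) (Formal.modPowπ_trans I (n + j + 1) F)).trans ?_
    exact (cokernel.π_desc _ _ _).trans (cokernel.π_desc _ _ _).symm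

/-- The derived limit of the cohomology of the quotients vanishes. -/
theorem exists_sub_eq_HH (hF : Coh.IsCoh F) (p : ℕ) (b : ∀ k, Formal.HHmodPow I F p k) :
    ∃ w : ∀ k, Formal.HHmodPow I F p k,
      ∀ k, w k - Formal.HHmodPowTrans I F p k (w (k + 1)) = b k := by
  haveI : CompactSpace X := QuasiCompact.compactSpace_of_compactSpace (X ↘ Spec (CommRingCat.of A))
  haveI : IsLocallyNoetherian X :=
    LocallyOfFiniteType.isLocallyNoetherian (X ↘ Spec (CommRingCat.of A))
  haveI : IsNoetherian X := { __ := ‹IsLocallyNoetherian X›, __ := ‹CompactSpace X› }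
  have hG := FFun.good_of_finite (X := X) (Z := Set.univ) (fun N hN q => S0002.result A X N hN.1 q) I
  refine exists_sub_eq_of_stable _ (fun k => (FFun.πT I F p k).toAddMonoidHom)
    (fun k z => FFun.ht_tower I F p k z) (fun k => ?_) b
  obtain ⟨m, hm, hy⟩ := (hG F (FFun.inCls_univ hF) p).2 (k + 1)
  obtain ⟨j, rfl⟩ : ∃ j, m = k + j + 1 := ⟨m - (k + 1), by omega⟩
  refine ⟨j, fun y => ?_⟩
  obtain ⟨z, hz⟩ := hy y
  exact ⟨z, (trN_powT p j k y).trans hz.symm⟩

/-- The cohomology of the completion is the limit of the cohomology of the quotients. -/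
theorem nonempty_H_cpl_addEquiv {𝓚 : X.IdealSheafData}
    (hX : (FSch.completionAlong X 𝓚).IsFormal)
    (h𝓚 : 𝓚 = (FSch.idealSpec A I).comap (X ↘ Spec (CommRingCat.of A))) (hF : Coh.IsCoh F) (n : ℕ) :
    Nonempty (FSch.HF (FSch.completionAlong X 𝓚) hX ((κ X 𝓚 hX).pull.obj F) n ≃+ Formal.HHlim I F n) := by
  haveI : IsLocallyNoetherian X :=
    LocallyOfFiniteType.isLocallyNoetherian (X ↘ Spec (CommRingCat.of A))
  letI := DSites.smallShD (Opens.grothendieckTopology X.toPresheafedSpace.carrier)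
  haveI := DLim.hasProduct_nat fun k => (DerivedCategory.singleFunctor _ 0).obj (powSheaf I F k)
  obtain ⟨hinj, hsurj⟩ := milnor_H (isRlimVia_cpl hX h𝓚 hF.1) n fun m _ b => exists_sub_eq_HH hF m b
  let Ψ : Sheaf.H (cplSheaf hX F) n →+ Formal.HHlim I F n :=
    { toFun := fun x => ⟨fun k => Sheaf.H.map (cplπ hX h𝓚 hF.1 k) n x, fun k =>
        PnCoh.Finite.map_map (Y := X.toPresheafedSpace.carrier) (cplπ_T hX h𝓚 hF.1 k) n x⟩
      map_zero' := Subtype.ext (funext fun k => map_zero _)
      map_add' := fun x y => Subtype.ext (funext fun k => map_add _ x y) }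
  have hΨ : Function.Bijective Ψ := by
    refine ⟨(injective_iff_map_eq_zero _).2 fun x hx => hinj x fun k => congrArg (fun z => z.1 k) hx,
      fun y => ?_⟩
    obtain ⟨x, hx⟩ := hsurj y.1 y.2
    exact ⟨x, Subtype.ext (funext hx)⟩
  obtain ⟨e⟩ := H_push_closed (FSch.completionToX X 𝓚 0).base
    (FSch.completionToX X 𝓚 0).isClosedEmbedding
    ((SheafOfModules.toSheaf (ModSite.ringSh ((FSch.completionAlong X 𝓚).Osh hX))).obj
      (FSch.realLim (FSch.completionAlong X 𝓚) hX (FSch.complMod 𝓚 F).F (FSch.complMod 𝓚 F).toPush)) n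
  haveI := isIso_φhom hX hF
  let e₀ := ((Sheaf.functorH _ n).mapIso
    ((SheafOfModules.toSheaf (ModSite.ringSh ((FSch.completionAlong X 𝓚).Osh hX))).mapIso
      (asIso (φhom hX F)))).addCommGroupIsoToAddEquiv
  exact ⟨e₀.trans (e.trans (AddEquiv.ofBijective Ψ hΨ))⟩

end Groth.Agent.FTors52
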