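import Groth.Agent.FMod90.ComplUniv
import Groth.Agent.FTors52.SheafMilnor
import Groth.Agent.FTors52.AffVanish
import Groth.Agent.FComplLib.AffSysMod
import Groth.Agent.ModPairLib.Basic
import Groth.Agent.DSites.ForgetAb
import Groth.Agent.FFun.Basic
import Groth.Agent.Algz7.Completion

/-!
# The completion of a coherent module as a derived limit on the scheme
-/

set_option autoImplicit false
set_option maxHeartbeats 1000000

universe u

open CategoryTheory CategoryTheory.Limits AlgebraicGeometry Opposite TopologicalSpace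

namespace Groth.Agent.FTors52

open FMod90

variable {A : Type u} [CommRing A] {I : Ideal A} {X : Scheme.{u}} [X.Over (Spec (CommRingCat.of A))]
  {𝓚 : X.IdealSheafData} (hX : (FSch.completionAlong X 𝓚).IsFormal) (F : X.Modules)

/-- A base scalar on an open. -/
noncomputable abbrev baseScal (a : A) (U : X.Opens) : Γ(X, U) :=
  Coh.resTop X (op U) (Coh.toGlobal (X ↘ Spec (CommRingCat.of A)) a)

/-- The ideal of the closed subscheme over the base ideal. -/
theorem ideal_eq_span (h𝓚 : 𝓚 = (FSch.idealSpec A I).comap (X ↘ Spec (CommRingCat.of A)))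
    (W : X.affineOpens) : 𝓚.ideal W = Ideal.span ((fun a => baseScal a W.1) '' (I : Set A)) := by
  subst h𝓚
  rw [ModPairLib.ideal_comap _ (X ↘ Spec (CommRingCat.of A)) ⟨⊤, isAffineOpen_top _⟩ W le_top,
    FComplLib.AffData.idealSpec_ideal_top, Ideal.map_map]
  rfl

theorem ideal_pow_eq_span (h𝓚 : 𝓚 = (FSch.idealSpec A I).comap (X ↘ Spec (CommRingCat.of A)))
    (W : X.affineOpens) (k : ℕ) :
    𝓚.ideal W ^ k = Ideal.span ((fun a => baseScal a W.1) '' ((I ^ k : Ideal A) : Set A)) := by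
  let φ : A →+* Γ(X, W.1) :=
    ((X ↘ Spec (CommRingCat.of A)).appLE ⊤ W.1 le_top).hom.comp (Scheme.ΓSpecIso (CommRingCat.of A)).inv.hom
  have hφ : ∀ J : Ideal A, Ideal.span ((fun a => baseScal a W.1) '' (J : Set A)) = J.map φ := fun J => rfl
  rw [ideal_eq_span h𝓚 W, hφ, hφ, Ideal.map_pow]

/-- The direct image on the scheme of a level of the completion of a module. -/
noncomputable abbrev cplLvl (k : ℕ) : X.Modules :=
  (κ X 𝓚 hX).push.obj ((FSch.levelMor (FSch.completionAlong X 𝓚) hX k).push.obj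
    ((FSch.complMod 𝓚 F).F k))

/-- The map from a module to a level of its completion. -/
noncomputable def toCplLvl (k : ℕ) : F ⟶ cplLvl hX F k :=
  γhom hX F ≫ (κ X 𝓚 hX).push.map (FSch.realProj (FSch.completionAlong X 𝓚) hX
    (FSch.complMod 𝓚 F).F (FSch.complMod 𝓚 F).toPush k)

theorem toCplLvl_app (k : ℕ) (U : X.Opens) (x : Γ(F, U)) :
    (toCplLvl hX F k).app U x =
      yg hX (FSch.completionToX X 𝓚) (FSch.completionToX_comm X 𝓚) F U k x :=
  rproj_cs hX F U x k

/-- A morphism vanishing over affine opens vanishes. -/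
theorem hom_eq_zero_of_affine {M N : X.Modules} (φ : M ⟶ N)
    (h : ∀ W : X.affineOpens, ∀ x : Γ(M, W.1), φ.app W.1 x = 0) : φ = 0 := by
  refine Scheme.Modules.hom_ext _ _ fun U => ?_
  ext x
  refine QCoh.eq_zero_of_locally U _ fun p hp => ?_
  obtain ⟨_, ⟨W, hW, rfl⟩, hpW, hWU⟩ := X.isBasis_affineOpens.exists_subset_of_mem_open hp U.2
  exact ⟨W, homOfLE hWU, hpW, (QCoh.map_app_comm φ (homOfLE hWU) x).symm.trans (h ⟨W, hW⟩ _)⟩

variable {F} (h𝓚 : 𝓚 = (FSch.idealSpec A I).comap (X ↘ Spec (CommRingCat.of A)))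
  (hF : Coh.IsQCoh F)

include h𝓚 hF

theorem smulFamily_toCplLvl (k : ℕ) :
    Formal.smulFamily (I ^ (k + 1)) F ≫ toCplLvl hX F k = 0 := by
  refine Sigma.hom_ext _ _ fun a => ?_
  rw [comp_zero, Formal.smulFamily, Sigma.ι_desc_assoc]
  refine hom_eq_zero_of_affine _ fun W x => ?_
  refine (toCplLvl_app hX F k W.1 _).trans ?_
  refine (ys_eq_zero_iff hX hF W k _).2 ?_
  refine Submodule.smul_mem_smul ?_ Submodule.mem_top
  rw [ideal_pow_eq_span h𝓚]
  exact Ideal.subset_span ⟨a.1, a.2, rfl⟩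

/-- The quotient of a module by a power of the ideal, mapped to the level of the completion. -/
noncomputable def modPowToLvl (k : ℕ) : Formal.modPow I (k + 1) F ⟶ cplLvl hX F k :=
  cokernel.desc _ (toCplLvl hX F k) (smulFamily_toCplLvl hX h𝓚 hF k)

theorem π_modPowToLvl (k : ℕ) :
    Formal.modPowπ I (k + 1) F ≫ modPowToLvl hX h𝓚 hF k = toCplLvl hX F k :=
  cokernel.π_desc _ _ _

theorem isIso_modPowToLvl (k : ℕ) : IsIso (modPowToLvl hX h𝓚 hF k) := by
  refine QCoh.isIso_of_isBasis _ X.isBasis_affineOpens fun W hW => ⟨?_, fun y => ?_⟩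
  · haveI := (Algz7.isQuot_modPowπ (A := A) I (k + 1) F).epi
    have hsurj : Function.Surjective ((Formal.modPowπ I (k + 1) F).app W) :=
      QCoh.app_surjective_of_shortExact (S := ShortComplex.mk (kernel.ι (Formal.modPowπ I (k + 1) F))
        (Formal.modPowπ I (k + 1) F) (kernel.condition _))
        { exact := ShortComplex.exact_of_f_is_kernel _ (kernelIsKernel _) }
        (QCoh.isQCoh_kernel hF (Algz7.isQCoh_modPow I (k + 1) hF) _) hW
    refine (injective_iff_map_eq_zero _).2 fun z hz => ?_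
    obtain ⟨x, rfl⟩ := hsurj z
    have h0 : yg hX (FSch.completionToX X 𝓚) (FSch.completionToX_comm X 𝓚) F W k x = 0 := by
      rw [← toCplLvl_app, ← π_modPowToLvl hX h𝓚 hF k]
      exact hz
    have h1 := (ys_eq_zero_iff hX hF ⟨W, hW⟩ k x).1 h0
    rw [ideal_pow_eq_span h𝓚] at h1
    refine Submodule.smul_induction_on h1 (fun r hr m _ => ?_) fun m n h h' => by rw [map_add, h, h', add_zero]
    induction hr using Submodule.span_induction with
    | mem r hr =>
      obtain ⟨a, ha, rfl⟩ := hr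
      have e := congrArg (fun φ : F ⟶ Formal.modPow I (k + 1) F => φ.app W m)
        ((Sigma.ι_desc_assoc _ (⟨a, ha⟩ : (I ^ (k + 1) : Ideal A)) (Formal.modPowπ I (k + 1) F)).symm.trans
          ((congrArg (Sigma.ι (fun _ : (I ^ (k + 1) : Ideal A) => F) ⟨a, ha⟩ ≫ ·)
            (cokernel.condition (Formal.smulFamily (I ^ (k + 1)) F))).trans comp_zero))
      exact e
    | zero => rw [zero_smul, map_zero]
    | add r r' _ _ h h' => rw [add_smul, map_add, h, h', add_zero]
    | smul c r _ h => rw [smul_eq_mul, mul_smul, Scheme.Modules.Hom.app_smul, h, smul_zero]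
  · obtain ⟨x, hx⟩ := ys_surjective hX hF ⟨W, hW⟩ k y
    refine ⟨(Formal.modPowπ I (k + 1) F).app W x, ?_⟩
    refine Eq.trans ?_ ((toCplLvl_app hX F k W x).trans hx)
    rw [← π_modPowToLvl hX h𝓚 hF k]
    rfl

theorem modPowToLvl_trans (k : ℕ) :
    Formal.modPowTrans I (k + 1) F ≫ modPowToLvl hX h𝓚 hF k =
      modPowToLvl hX h𝓚 hF (k + 1) ≫ (κ X 𝓚 hX).push.map
        ((FSch.levelSysOf (FSch.completionAlong X 𝓚) hX (FSch.complMod 𝓚 F).F (FSch.complMod 𝓚 F).toPush).map
          (homOfLE (Nat.le_add_right k 1)).op) := by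
  haveI := (Algz7.isQuot_modPowπ (A := A) I (k + 1 + 1) F).epi
  rw [← cancel_epi (Formal.modPowπ I (k + 1 + 1) F), ← Category.assoc, Formal.modPowπ_trans,
    π_modPowToLvl]
  refine Eq.trans ?_ (Category.assoc _ _ _)
  refine Eq.trans ?_ (congrArg (· ≫ _) (π_modPowToLvl hX h𝓚 hF (k + 1))).symm
  refine Eq.trans ?_ (Category.assoc _ _ _).symm
  refine congrArg (γhom hX F ≫ ·) ?_
  refine Eq.trans ?_ ((κ X 𝓚 hX).push.map_comp _ _)
  refine congrArg (κ X 𝓚 hX).push.map ?_
  rw [FSch.levelSysOf_map_succ]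
  exact (FSch.realProj_map _ _ _ _ k).symm

end Groth.Agent.FTors52
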