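import Groth.Agent.FTors52.Elem

/-!
# Local generators of a family of ideals and the acyclicity condition for the torsion functor

A datum is an open `U` with finitely many sections `t i` whose powers are cofinal with the family of
ideals over `U`.  A module is good for the datum if, successively in `j`, its sections killed by powers of
the `t i`, `i < j`, surject locally onto the localisation at `t j`.
-/

set_option autoImplicit false

universe u

open CategoryTheory CategoryTheory.Limits Opposite TopologicalSpace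

namespace Groth.Agent.FTors52

open FMod90

variable {T : TopCat.{u}} {O : Sheaf (Opens.grothendieckTopology T) CommRingCat.{u}}

variable {M N : ModSite.Mod O} {U V W : Opens T}

theorem ftors_res_eq (M : ModSite.Mod O) (g : W ⟶ V) (s : Sec M V) :
    FTors.res M g s = FMod90.res M (leOfHom g) s := rfl

theorem res_smul' (h : V ≤ U) (a : Ring O U) (s : Sec M U) :
    FMod90.res M h (a • s) = rres O h a • FMod90.res M h s := FMod90.res_smul h a s

/-- An open with finitely many sections whose powers are cofinal with a family of ideals. -/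
structure Datum (I : FTors.IdealFam O) where
  U : Opens T
  r : ℕ
  t : Fin r → Ring O U
  pow_mem : ∀ n, ∃ k, ∀ (i : Fin r) (W : Opens T) (h : W ≤ U), rres O h (t i) ^ k ∈ I.ideal n W
  le_span : ∀ k, ∃ n, ∀ (W : Opens T) (h : W ≤ U) (a : Ring O W), a ∈ I.ideal n W → ∀ x ∈ W,
    ∃ (W' : Opens T) (h' : W' ≤ W), x ∈ W' ∧
      rres O h' a ∈ Ideal.span (Set.range fun i => rres O (h'.trans h) (t i) ^ k)

variable {I : FTors.IdealFam O} (D : Datum I)

/-- The first `j` sections of a datum. -/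
noncomputable def Datum.idl (j k : ℕ) : Ideal (Ring O D.U) :=
  Ideal.span ((fun i => D.t i ^ k) '' {i : Fin D.r | (i : ℕ) < j})

/-- The ideals generated by powers of the first sections have uniformly bounded torsion. -/
def Datum.IsSat : Prop :=
  ∀ (j : Fin D.r) (k : ℕ), ∃ N, ∀ (W : Opens T) (h : W ≤ D.U) (b : Ring O W) (m : ℕ),
    rres O h (D.t j) ^ m * b ∈ (D.idl j k).map (rres O h) → ∀ x ∈ W,
      ∃ (W' : Opens T) (h' : W' ≤ W), x ∈ W' ∧
        rres O (h'.trans h) (D.t j) ^ N * rres O h' b ∈ (D.idl j k).map (rres O (h'.trans h))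

/-- A section is killed by the `k`-th powers of the first `j` sections. -/
def Kill (j k : ℕ) (h : V ≤ D.U) (s : Sec M V) : Prop :=
  ∀ i : Fin D.r, (i : ℕ) < j → rres O h (D.t i) ^ k • s = 0

/-- A section is locally killed by powers of the first `j` sections. -/
def Upto (j : ℕ) (h : V ≤ D.U) (s : Sec M V) : Prop :=
  ∀ x ∈ V, ∃ (W : Opens T) (hW : W ≤ V), x ∈ W ∧ ∃ k, Kill D j k (hW.trans h) (FMod90.res M hW s)

variable {D}

theorem Kill.mono {j k k' : ℕ} {h : V ≤ D.U} {s : Sec M V} (hs : Kill D j k h s) (hk : k ≤ k') :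
    Kill D j k' h s := fun i hi => by
  rw [← Nat.sub_add_cancel hk, pow_add, mul_smul, hs i hi, smul_zero]

theorem Kill.res {j k : ℕ} {h : V ≤ D.U} {s : Sec M V} (hs : Kill D j k h s) (hW : W ≤ V) :
    Kill D j k (hW.trans h) (FMod90.res M hW s) := fun i hi => by
  rw [← rres_rres h hW, ← map_pow, ← res_smul', hs i hi, res_zero]

theorem Kill.sub {j k : ℕ} {h : V ≤ D.U} {s t : Sec M V} (hs : Kill D j k h s)
    (ht : Kill D j k h t) : Kill D j k h (s - t) := fun i hi => by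
  rw [smul_sub, hs i hi, ht i hi, sub_zero]

theorem Kill.smul {j k : ℕ} {h : V ≤ D.U} {s : Sec M V} (hs : Kill D j k h s) (a : Ring O V) :
    Kill D j k h (a • s) := fun i hi => by rw [smul_comm, hs i hi, smul_zero]

theorem Kill.map {j k : ℕ} {h : V ≤ D.U} {s : Sec M V} (hs : Kill D j k h s) (φ : M ⟶ N) :
    Kill D j k h (appL φ V s) := fun i hi => by rw [← map_smul, hs i hi, map_zero]

theorem Kill.of_mono {j k : ℕ} {h : V ≤ D.U} {s : Sec M V} (φ : M ⟶ N) [Mono φ]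
    (hs : Kill D j k h (appL φ V s)) : Kill D j k h s :=
  fun i hi => injective_of_mono φ V (by rw [map_smul, hs i hi, map_zero])

theorem Kill.smul_eq_zero {j k : ℕ} {h : V ≤ D.U} {s : Sec M V} (hs : Kill D j k h s)
    {a : Ring O V} (ha : a ∈ (D.idl j k).map (rres O h)) : a • s = 0 := by
  rw [Datum.idl, Ideal.map_span] at ha
  induction ha using Submodule.span_induction with
  | mem a ha =>
    obtain ⟨_, ⟨i, hi, rfl⟩, rfl⟩ := ha
    rw [map_pow]
    exact hs i hi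
  | zero => exact zero_smul _ _
  | add a b _ _ ha hb => rw [add_smul, ha, hb, add_zero]
  | smul c a _ ha => rw [smul_eq_mul, mul_smul, ha, smul_zero]

theorem Upto.res {j : ℕ} {h : V ≤ D.U} {s : Sec M V} (hs : Upto D j h s) (hW : W ≤ V) :
    Upto D j (hW.trans h) (FMod90.res M hW s) := fun x hx => by
  obtain ⟨W', hW', hx', k, hk⟩ := hs x (hW hx)
  refine ⟨W' ⊓ W, inf_le_right, ⟨hx', hx⟩, k, ?_⟩
  have := hk.res (inf_le_left : W' ⊓ W ≤ W')
  rw [res_res] at this ⊢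
  exact this

theorem Upto.of_kill {j k : ℕ} {h : V ≤ D.U} {s : Sec M V} (hs : Kill D j k h s) : Upto D j h s :=
  fun x hx => ⟨V, le_rfl, hx, k, by rwa [res_refl]⟩

theorem Upto.of_locally {j : ℕ} {h : V ≤ D.U} {s : Sec M V}
    (hs : ∀ x ∈ V, ∃ (W : Opens T) (hW : W ≤ V), x ∈ W ∧ Upto D j (hW.trans h) (FMod90.res M hW s)) :
    Upto D j h s := fun x hx => by
  obtain ⟨W, hW, hxW, hW'⟩ := hs x hx
  obtain ⟨W', hW'', hx', k, hk⟩ := hW' x hxW
  rw [res_res] at hk
  exact ⟨W', hW''.trans hW, hx', k, hk⟩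

theorem Upto.zero_left (h : V ≤ D.U) (s : Sec M V) : Upto D 0 h s :=
  .of_kill (k := 0) fun _ hi => absurd hi (Nat.not_lt_zero _)

theorem Upto.map {j : ℕ} {h : V ≤ D.U} {s : Sec M V} (hs : Upto D j h s) (φ : M ⟶ N) :
    Upto D j h (appL φ V s) := fun x hx => by
  obtain ⟨W, hW, hxW, k, hk⟩ := hs x hx
  exact ⟨W, hW, hxW, k, by rw [res_appL]; exact hk.map φ⟩

theorem Upto.sub {j : ℕ} {h : V ≤ D.U} {s t : Sec M V} (hs : Upto D j h s) (ht : Upto D j h t) :
    Upto D j h (s - t) := fun x hx => by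
  obtain ⟨W₁, h₁, hx₁, k, hk⟩ := hs x hx
  obtain ⟨W₂, h₂, hx₂, l, hl⟩ := ht x hx
  refine ⟨W₁ ⊓ W₂, inf_le_left.trans h₁, ⟨hx₁, hx₂⟩, max k l, ?_⟩
  have a := (hk.res (inf_le_left : W₁ ⊓ W₂ ≤ W₁)).mono (le_max_left k l)
  have b := (hl.res (inf_le_right : W₁ ⊓ W₂ ≤ W₂)).mono (le_max_right k l)
  rw [res_res] at a b
  rw [map_sub]
  exact a.sub b

theorem isTorsSect_iff_exists (s : Sec M V) :
    FTors.IsTorsSect I M s ↔
      ∀ x ∈ V, ∃ (W : Opens T) (hW : W ≤ V), x ∈ W ∧ ∃ n, FTors.KilledBy I M n (FMod90.res M hW s) := by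
  constructor
  · intro h x hx
    obtain ⟨W, g, hg, hxW⟩ := h x hx
    exact ⟨W, leOfHom g, hxW, hg⟩
  · intro h x hx
    obtain ⟨W, hW, hxW, hn⟩ := h x hx
    exact ⟨W, homOfLE hW, hn, hxW⟩

theorem killedBy_of_kill {k n : ℕ} {h : V ≤ D.U} {s : Sec M V} (hs : Kill D D.r k h s)
    (hn : ∀ (W : Opens T) (h : W ≤ D.U) (a : Ring O W), a ∈ I.ideal n W → ∀ x ∈ W,
      ∃ (W' : Opens T) (h' : W' ≤ W), x ∈ W' ∧
        rres O h' a ∈ Ideal.span (Set.range fun i => rres O (h'.trans h) (D.t i) ^ k)) :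
    FTors.KilledBy I M n s := fun W g a ha => by
  rw [ftors_res_eq]
  refine eq_zero_of_locally fun x hx => ?_
  obtain ⟨W', h', hx', hmem⟩ := hn W ((leOfHom g).trans h) a ha x hx
  refine ⟨W', h', hx', ?_⟩
  rw [res_smul', res_res]
  refine (hs.res (h'.trans (leOfHom g))).smul_eq_zero ?_
  rw [Datum.idl, Ideal.map_span, ← Set.image_comp]
  refine Ideal.span_mono ?_ hmem
  rintro _ ⟨i, rfl⟩
  exact ⟨i, i.isLt, by simp⟩

theorem kill_of_killedBy {k n : ℕ} {h : V ≤ D.U} {s : Sec M V} (hs : FTors.KilledBy I M n s)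
    (hk : ∀ (i : Fin D.r) (W : Opens T) (h : W ≤ D.U), rres O h (D.t i) ^ k ∈ I.ideal n W) (j : ℕ) :
    Kill D j k h s := fun i _ => by
  have := hs (𝟙 V) _ (hk i V h)
  rwa [FTors.res_id] at this

theorem upto_of_isTorsSect {s : Sec M V} (hs : FTors.IsTorsSect I M s) (h : V ≤ D.U) (j : ℕ) :
    Upto D j h s := fun x hx => by
  obtain ⟨W, hW, hxW, n, hn⟩ := (isTorsSect_iff_exists s).1 hs x hx
  obtain ⟨k, hk⟩ := D.pow_mem n
  exact ⟨W, hW, hxW, k, kill_of_killedBy hn hk j⟩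

theorem isTorsSect_of_upto {h : V ≤ D.U} {s : Sec M V} (hs : Upto D D.r h s) :
    FTors.IsTorsSect I M s := by
  refine (isTorsSect_iff_exists s).2 fun x hx => ?_
  obtain ⟨W, hW, hxW, k, hk⟩ := hs x hx
  obtain ⟨n, hn⟩ := D.le_span k
  exact ⟨W, hW, hxW, n, killedBy_of_kill hk hn⟩

variable (D)

/-- The acyclicity condition of a module for a datum. -/
def Good (M : ModSite.Mod O) : Prop :=
  ∀ (j : Fin D.r) (V : Opens T) (h : V ≤ D.U) (s : Sec M V) (k n : ℕ), Kill D j k h s →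
    ∀ x ∈ V, ∃ (W : Opens T) (hW : W ≤ V), x ∈ W ∧ ∃ (f : Sec M W) (m : ℕ),
      Upto D j (hW.trans h) f ∧
        rres O (hW.trans h) (D.t j) ^ (m + n) • f = rres O (hW.trans h) (D.t j) ^ m • FMod90.res M hW s

/-- A collection of data covers the space. -/
def Covers (𝒜 : Set (Datum I)) : Prop := ∀ x : T, ∃ D ∈ 𝒜, x ∈ D.U

/-- Good for every datum of a collection. -/
def GoodOn (𝒜 : Set (Datum I)) : ObjectProperty (ModSite.Mod O) := fun M => ∀ D ∈ 𝒜, Good D M

theorem good_of_isTors (hM : FTors.IsTors I M) : Good D M := fun j V h s k n _ x hx => by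
  obtain ⟨W, hW, hxW, l, hl⟩ := upto_of_isTorsSect (hM V s) h D.r x hx
  refine ⟨W, hW, hxW, 0, l, .of_kill (k := 0) fun i _ => smul_zero _, ?_⟩
  rw [hl j j.isLt, smul_zero]

theorem goodOn_of_isTors (𝒜 : Set (Datum I)) (hM : FTors.IsTors I M) : GoodOn 𝒜 M :=
  fun D _ => good_of_isTors D hM

theorem good_biprod (hM : Good D M) (hN : Good D N) : Good D (M ⊞ N) :=
  fun j V h s k n hs x hx => by
  obtain ⟨W₁, h₁, hx₁, f₁, m₁, hu₁, he₁⟩ := hM j V h _ k n (hs.map biprod.fst) x hx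
  obtain ⟨W₂, h₂, hx₂, f₂, m₂, hu₂, he₂⟩ := hN j V h _ k n (hs.map biprod.snd) x hx
  have a₁ := (hu₁.res (inf_le_left : W₁ ⊓ W₂ ≤ W₁)).map (biprod.inl : M ⟶ M ⊞ N)
  have a₂ := (hu₂.res (inf_le_right : W₁ ⊓ W₂ ≤ W₂)).map (biprod.inr : N ⟶ M ⊞ N)
  refine ⟨W₁ ⊓ W₂, inf_le_left.trans h₁, ⟨hx₁, hx₂⟩,
    appL biprod.inl _ (FMod90.res M inf_le_left f₁) + appL biprod.inr _ (FMod90.res N inf_le_right f₂),
    m₁ + m₂, ?_, ?_⟩
  · have : Upto D j ((inf_le_left.trans h₁).trans h)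
        (appL biprod.inl _ (FMod90.res M inf_le_left f₁) -
          -(appL biprod.inr _ (FMod90.res N inf_le_right f₂))) := by
      refine a₁.sub fun y hy => ?_
      obtain ⟨W, hW, hyW, l, hl⟩ := a₂ y hy
      exact ⟨W, hW, hyW, l, fun i hi => by rw [map_neg, smul_neg, hl i hi, neg_zero]⟩
    rwa [sub_neg_eq_add] at this
  · have e₁ := congrArg (FMod90.res M (inf_le_left : W₁ ⊓ W₂ ≤ W₁)) he₁
    have e₂ := congrArg (FMod90.res N (inf_le_right : W₁ ⊓ W₂ ≤ W₂)) he₂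
    rw [res_smul', res_smul', map_pow, map_pow, rres_rres, res_res] at e₁ e₂
    rw [res_appL] at e₁ e₂
    generalize hτ : rres O _ (D.t j) = τ at e₁ e₂ ⊢
    have c₁ : τ ^ (m₁ + m₂ + n) • FMod90.res M (inf_le_left : W₁ ⊓ W₂ ≤ W₁) f₁ =
        τ ^ (m₁ + m₂) • appL biprod.fst _ (FMod90.res (M ⊞ N) (inf_le_left.trans h₁) s) := by
      rw [show m₁ + m₂ + n = m₂ + (m₁ + n) by omega, pow_add, mul_smul, e₁, ← mul_smul, ← pow_add,
        Nat.add_comm m₂]
    have c₂ : τ ^ (m₁ + m₂ + n) • FMod90.res N (inf_le_right : W₁ ⊓ W₂ ≤ W₂) f₂ =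
        τ ^ (m₁ + m₂) • appL biprod.snd _ (FMod90.res (M ⊞ N) (inf_le_left.trans h₁) s) := by
      rw [show m₁ + m₂ + n = m₁ + (m₂ + n) by omega, pow_add, mul_smul, e₂, ← mul_smul, ← pow_add]
    rw [smul_add, ← (appL biprod.inl _).map_smul, ← (appL biprod.inr _).map_smul, c₁, c₂,
      (appL biprod.inl _).map_smul, (appL biprod.inr _).map_smul, ← smul_add]
    congr 1
    rw [← appL_comp, ← appL_comp, ← appL_add, biprod.total, appL_id]

theorem good_of_iso (hM : Good D M) (e : M ≅ N) : Good D N := fun j V h s k n hs x hx => by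
  obtain ⟨W, hW, hxW, f, m, hu, he⟩ := hM j V h _ k n (hs.map e.inv) x hx
  refine ⟨W, hW, hxW, appL e.hom W f, m, hu.map e.hom, ?_⟩
  rw [← map_smul, he, map_smul, ← res_appL, ← appL_comp, e.inv_hom_id, appL_id]

end Groth.Agent.FTors52
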