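import Groth.Agent.FTors52.Inj
import Groth.Agent.DSites.Rpush

/-!
# The derived torsion functor

On a ringed space with a covering collection of good data, the derived torsion functor is computed by
complexes of good modules and is the coreflection onto the objects with torsion cohomology.
-/

set_option autoImplicit false

universe u

open CategoryTheory CategoryTheory.Limits Opposite TopologicalSpace

attribute [local instance] HasDerivedCategory.standard

namespace Groth.Agent.FTors52

open FMod90

section Cone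

variable {A : Type*} [Category A] [Abelian A] [HasDerivedCategory A]

/-- A map of complexes is a quasi-isomorphism iff its mapping cone has no cohomology. -/
theorem quasiIso_iff_cone {K L : CochainComplex A ℤ} (φ : K ⟶ L) :
    QuasiIso φ ↔ ∀ p, IsZero ((CochainComplex.mappingCone φ).homology p) := by
  have hT := DerivedCategory.mappingCone_triangle_distinguished φ
  rw [← DerivedCategory.isIso_Q_map_iff_quasiIso]
  constructor
  · intro h p
    have h0 := (Pretriangulated.Triangle.isZero₃_iff_isIso₁ _ hT).2 h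
    exact ((DerivedCategory.homologyFunctor A p).map_isZero h0).of_iso
      ((DerivedCategory.homologyFunctorFactors A p).app (CochainComplex.mappingCone φ)).symm
  · intro h
    refine (Pretriangulated.Triangle.isZero₃_iff_isIso₁ _ hT).1 ?_
    have : QuasiIso (0 : CochainComplex.mappingCone φ ⟶ HomologicalComplex.zero) :=
      ⟨fun p => (quasiIsoAt_iff_isIso_homologyMap _ p).2 (isIso_of_source_target_iso_zero _
        (h p).isoZero (((HomologicalComplex.homologyFunctor A (ComplexShape.up ℤ) p).map_isZero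
          HomologicalComplex.isZero_zero).isoZero))⟩
    have hq := (DerivedCategory.isIso_Q_map_iff_quasiIso _
      (0 : CochainComplex.mappingCone φ ⟶ HomologicalComplex.zero)).2 this
    exact ((DerivedCategory.Q (C := A)).map_isZero HomologicalComplex.isZero_zero).of_iso
      (@asIso _ _ _ _ _ hq)

end Cone

variable {T : TopCat.{u}} {O : Sheaf (Opens.grothendieckTopology T) CommRingCat.{u}}
variable {I : FTors.IdealFam O}

/-- A covering collection of data for which injective modules are good. -/
structure Atlas (I : FTors.IdealFam O) where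
  data : Set (Datum I)
  covers : Covers data
  isSat : ∀ D ∈ data, D.IsSat

theorem Atlas.goodOn_of_injective (𝒜 : Atlas I) (F : ModSite.Mod O) [Injective F] :
    GoodOn 𝒜.data F := fun D hD => good_of_injective (𝒜.isSat D hD) F

theorem goodOn_biprod {𝒜 : Set (Datum I)} {M N : ModSite.Mod O} (hM : GoodOn 𝒜 M)
    (hN : GoodOn 𝒜 N) : GoodOn 𝒜 (M ⊞ N) := fun D hD => good_biprod D (hM D hD) (hN D hD)

theorem goodOn_cone {𝒜 : Set (Datum I)} {K L : CochainComplex (ModSite.Mod O) ℤ} (φ : K ⟶ L)
    (hK : ∀ p, GoodOn 𝒜 (K.X p)) (hL : ∀ p, GoodOn 𝒜 (L.X p)) (p : ℤ) :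
    GoodOn 𝒜 ((CochainComplex.mappingCone φ).X p) := fun D hD =>
  good_of_iso D (good_biprod D (hK (p + 1) D hD) (hL p D hD))
    (HomologicalComplex.homotopyCofiber.XIsoBiprod φ p (p + 1) rfl).symm

theorem isTors_of_isZero {M : ModSite.Mod O} (h : IsZero M) : FTors.IsTors I M :=
  fun U s => by
    rw [show s = appL (0 : M ⟶ M) U s from by rw [← h.eq_of_src (𝟙 M) 0, appL_id], appL_zero]
    exact FTors.IsTorsSect.zero I M U

/-- The torsion functor preserves quasi-isomorphisms between complexes of good modules. -/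
theorem quasiIso_gamma_map (𝒜 : Atlas I) {K L : CochainComplex (ModSite.Mod O) ℤ} (φ : K ⟶ L)
    [QuasiIso φ] (hK : ∀ p, GoodOn 𝒜.data (K.X p)) (hL : ∀ p, GoodOn 𝒜.data (L.X p)) :
    QuasiIso (((FTors.gamma O I).mapHomologicalComplex (ComplexShape.up ℤ)).map φ) := by
  refine (quasiIso_iff_cone _).2 fun p => ?_
  have hz := (quasiIso_iff_cone φ).1 inferInstance
  have := quasiIso_gammaC 𝒜.covers (goodOn_cone φ hK hL) fun p => isTors_of_isZero (hz p)
  haveI := (quasiIsoAt_iff_isIso_homologyMap (gammaC I (CochainComplex.mappingCone φ)) p).1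
    (this.quasiIsoAt p)
  exact ((hz p).of_iso (asIso (HomologicalComplex.homologyMap
      (gammaC I (CochainComplex.mappingCone φ)) p))).of_iso
    ((HomologicalComplex.homologyFunctor _ _ p).mapIso
      (CochainComplex.mappingCone.mapHomologicalComplexIso φ (FTors.gamma O I))).symm

theorem gammaτ_app (K : CochainComplex (ModSite.Mod O) ℤ) :
    (FTors.gammaτ I).app ((HomotopyCategory.quotient (ModSite.Mod O) (ComplexShape.up ℤ)).obj K) =
      DerivedCategory.Qh.map ((HomotopyCategory.quotient _ _).map (gammaC I K)) := by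
  simp only [FTors.gammaτ, FTors.gammaτ0, gammaC]
  refine (Quotient.natTransLift_app _ _ _ _ _).trans ?_
  simp [Functor.mapHomotopyCategoryFactors]
  erw [CategoryTheory.Functor.map_id, Category.id_comp]

variable (I)

/-- The unit of the derived torsion functor. -/
noncomputable abbrev gammaUnit [FTors.HasRgamma I] :
    FTors.gammaKh I ⟶ DerivedCategory.Qh ⋙ FTors.Rgamma I :=
  (FTors.gammaKh I).totalRightDerivedUnit DerivedCategory.Qh
    (HomotopyCategory.quasiIso (ModSite.Mod O) (ComplexShape.up ℤ))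

/-- The derived torsion functor exists. -/
theorem hasRgamma : FTors.HasRgamma I :=
  let W := HomotopyCategory.quasiIso (ModSite.Mod O) (ComplexShape.up ℤ)
  let α : FTors.gammaKh I ⟶ DerivedCategory.Qh ⋙ DSites.kinjRes O ⋙ FTors.gammaKh I :=
    Functor.whiskerRight (DSites.kinjAdj O).unit (FTors.gammaKh I)
  haveI : (DSites.kinjRes O ⋙ FTors.gammaKh I).IsRightDerivedFunctor α W :=
    TriCat.isRightDerivedFunctor_of_adjunction (DSites.kinjAdj O) W (FTors.gammaKh I)
  Functor.HasRightDerivedFunctor.mk' (DSites.kinjRes O ⋙ FTors.gammaKh I) α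

variable [FTors.HasRgamma I]

theorem gammaUnit_ε (X : HomotopyCategory (ModSite.Mod O) (ComplexShape.up ℤ)) :
    (gammaUnit I).app X ≫ (FTors.Rgammaε I).app (DerivedCategory.Qh.obj X) =
      (FTors.gammaτ I).app X :=
  ((FTors.Rgamma I).rightDerived_fac_app (gammaUnit I)
    (HomotopyCategory.quasiIso (ModSite.Mod O) (ComplexShape.up ℤ)) _ _ X).trans (Category.comp_id _)

theorem isIso_gammaUnit_of_isIso_unit (R : HomotopyCategory (ModSite.Mod O) (ComplexShape.up ℤ))
    (hR : IsIso ((DSites.kinjAdj O).unit.app R)) : IsIso ((gammaUnit I).app R) := by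
  let W := HomotopyCategory.quasiIso (ModSite.Mod O) (ComplexShape.up ℤ)
  let α : FTors.gammaKh I ⟶ DerivedCategory.Qh ⋙ DSites.kinjRes O ⋙ FTors.gammaKh I :=
    Functor.whiskerRight (DSites.kinjAdj O).unit (FTors.gammaKh I)
  haveI : (DSites.kinjRes O ⋙ FTors.gammaKh I).IsRightDerivedFunctor α W :=
    TriCat.isRightDerivedFunctor_of_adjunction (DSites.kinjAdj O) W (FTors.gammaKh I)
  let e := Functor.rightDerivedUnique (DSites.kinjRes O ⋙ FTors.gammaKh I) (FTors.Rgamma I) α
    (gammaUnit I) W
  have he : α ≫ Functor.whiskerLeft DerivedCategory.Qh e.hom = gammaUnit I := by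
    exact (Functor.rightDerivedNatTrans_fac _ _ α (gammaUnit I) W (𝟙 _)).trans (Category.id_comp _)
  rw [← he]
  simp only [NatTrans.comp_app, α, Functor.whiskerRight_app, Functor.whiskerLeft_app]
  infer_instance

theorem isIso_gammaUnit_of_isKInjective (K : CochainComplex (ModSite.Mod O) ℤ) [K.IsKInjective] :
    IsIso ((gammaUnit I).app ((HomotopyCategory.quotient _ _).obj K)) :=
  isIso_gammaUnit_of_isIso_unit I _ (TriCat.isIso_unit_of_isKInjective (DSites.kinjAdj O) K)

variable {I}

/-- Every complex is resolved by a K-injective complex with good terms. -/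
theorem exists_good_resolution (𝒜 : Atlas I) (K : CochainComplex (ModSite.Mod O) ℤ) :
    ∃ (L : CochainComplex (ModSite.Mod O) ℤ) (u : K ⟶ L),
      L.IsKInjective ∧ QuasiIso u ∧ ∀ p, GoodOn 𝒜.data (L.X p) := by
  obtain ⟨L, u, hL, hu, -, hi⟩ := TriCat.exists_kInjective_resolution' K
  exact ⟨L, u, hL, hu, fun p => have := hi p; 𝒜.goodOn_of_injective _⟩

/-- Complexes of good modules compute the derived torsion functor. -/
theorem isIso_gammaUnit (𝒜 : Atlas I) (K : CochainComplex (ModSite.Mod O) ℤ)
    (hK : ∀ p, GoodOn 𝒜.data (K.X p)) :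
    IsIso ((gammaUnit I).app ((HomotopyCategory.quotient _ _).obj K)) := by
  obtain ⟨L, u, hL, hu, hLg⟩ := exists_good_resolution 𝒜 K
  haveI := isIso_gammaUnit_of_isKInjective I L
  have hn := (gammaUnit I).naturality ((HomotopyCategory.quotient _ _).map u)
  haveI : IsIso (DerivedCategory.Qh.map ((HomotopyCategory.quotient _ _).map u)) :=
    (NatIso.isIso_map_iff (DerivedCategory.quotientCompQhIso _) u).2
      ((DerivedCategory.isIso_Q_map_iff_quasiIso _ u).2 hu)
  haveI : IsIso ((FTors.gammaKh I).map ((HomotopyCategory.quotient _ _).map u)) :=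
    (NatIso.isIso_map_iff (DerivedCategory.quotientCompQhIso _)
      (((FTors.gamma O I).mapHomologicalComplex _).map u)).2
      ((DerivedCategory.isIso_Q_map_iff_quasiIso _ _).2 (quasiIso_gamma_map 𝒜 u hK hLg))
  haveI : IsIso ((gammaUnit I).app ((HomotopyCategory.quotient _ _).obj K) ≫
      (DerivedCategory.Qh ⋙ FTors.Rgamma I).map ((HomotopyCategory.quotient _ _).map u)) := by
    rw [← hn]
    exact IsIso.comp_isIso
  haveI : IsIso ((DerivedCategory.Qh ⋙ FTors.Rgamma I).map ((HomotopyCategory.quotient _ _).map u)) :=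
    Functor.map_isIso (FTors.Rgamma I) _
  exact IsIso.of_isIso_comp_right _
    ((DerivedCategory.Qh ⋙ FTors.Rgamma I).map ((HomotopyCategory.quotient _ _).map u))

/-- An isomorphism class of complexes with good terms. -/
theorem exists_good_rep (𝒜 : Atlas I) (X : DerivedCategory (ModSite.Mod O)) :
    ∃ L : CochainComplex (ModSite.Mod O) ℤ, L.IsKInjective ∧ (∀ p, GoodOn 𝒜.data (L.X p)) ∧
      Nonempty (X ≅ DerivedCategory.Qh.obj ((HomotopyCategory.quotient _ _).obj L)) := by
  obtain ⟨L, u, hL, hu, hLg⟩ := exists_good_resolution 𝒜 ((DerivedCategory.Q).objPreimage X)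
  exact ⟨L, hL, hLg, ⟨((DerivedCategory.Q).objObjPreimageIso X).symm ≪≫
    asIso (DerivedCategory.Q.map u) ≪≫ ((DerivedCategory.quotientCompQhIso _).app L).symm⟩⟩

theorem hMod_iso (L : CochainComplex (ModSite.Mod O) ℤ) (p : ℤ) :
    Nonempty (SiteCmp.HMod (DerivedCategory.Qh.obj ((HomotopyCategory.quotient _ _).obj L)) p ≅
      L.homology p) :=
  ⟨(DerivedCategory.homologyFunctor _ p).mapIso ((DerivedCategory.quotientCompQhIso _).app L) ≪≫
    (DerivedCategory.homologyFunctorFactors _ p).app L⟩

theorem isDTors_of_iso {X Y : DerivedCategory (ModSite.Mod O)} (e : X ≅ Y)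
    (h : FTors.IsDTors I X) : FTors.IsDTors I Y := fun p =>
  isTors_of_epi ((DerivedCategory.homologyFunctor _ p).mapIso e).hom (h p)

theorem isDTors_Qh (L : CochainComplex (ModSite.Mod O) ℤ) (h : ∀ p, FTors.IsTors I (L.X p)) :
    FTors.IsDTors I (DerivedCategory.Qh.obj ((HomotopyCategory.quotient _ _).obj L)) := fun p => by
  obtain ⟨e⟩ := hMod_iso L p
  exact isTors_of_epi e.inv (isTors_homology L p (h p))

/-- The derived torsion functor has torsion cohomology. -/
theorem isDTors_Rgamma (𝒜 : Atlas I) (X : DerivedCategory (ModSite.Mod O)) :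
    FTors.IsDTors I ((FTors.Rgamma I).obj X) := by
  obtain ⟨L, hL, hLg, ⟨e⟩⟩ := exists_good_rep 𝒜 X
  haveI := isIso_gammaUnit 𝒜 L hLg
  exact isDTors_of_iso (asIso ((gammaUnit I).app ((HomotopyCategory.quotient _ _).obj L)) ≪≫
      (FTors.Rgamma I).mapIso e.symm)
    (isDTors_Qh (((FTors.gamma O I).mapHomologicalComplex _).obj L) fun p => isTors_gammaObj _)

/-- Complexes with torsion cohomology are fixed by the derived torsion functor. -/
theorem isIso_ε_of_isDTors (𝒜 : Atlas I) {X : DerivedCategory (ModSite.Mod O)}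
    (hX : FTors.IsDTors I X) : IsIso ((FTors.Rgammaε I).app X) := by
  obtain ⟨L, hL, hLg, ⟨e⟩⟩ := exists_good_rep 𝒜 X
  rw [NatTrans.isIso_app_iff_of_iso _ e]
  haveI := isIso_gammaUnit 𝒜 L hLg
  have hh : ∀ p, FTors.IsTors I (L.homology p) := fun p => by
    obtain ⟨e'⟩ := hMod_iso L p
    exact isTors_of_epi e'.hom (isDTors_of_iso e hX p)
  haveI := quasiIso_gammaC 𝒜.covers hLg hh
  haveI : IsIso ((gammaUnit I).app ((HomotopyCategory.quotient _ _).obj L) ≫
      (FTors.Rgammaε I).app (DerivedCategory.Qh.obj ((HomotopyCategory.quotient _ _).obj L))) := by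
    rw [gammaUnit_ε, gammaτ_app]
    exact (NatIso.isIso_map_iff (DerivedCategory.quotientCompQhIso _) (gammaC I L)).2
      ((DerivedCategory.isIso_Q_map_iff_quasiIso _ _).2 inferInstance)
  exact IsIso.of_isIso_comp_left ((gammaUnit I).app ((HomotopyCategory.quotient _ _).obj L)) _

/-- An object has torsion cohomology iff it is fixed by the derived torsion functor. -/
theorem isDTors_iff_isIso_ε (𝒜 : Atlas I) (X : DerivedCategory (ModSite.Mod O)) :
    FTors.IsDTors I X ↔ IsIso ((FTors.Rgammaε I).app X) :=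
  ⟨isIso_ε_of_isDTors 𝒜,
    fun _ => isDTors_of_iso (asIso ((FTors.Rgammaε I).app X)) (isDTors_Rgamma 𝒜 X)⟩

theorem isIso_Rgamma_map_ε (𝒜 : Atlas I) (X : DerivedCategory (ModSite.Mod O)) :
    IsIso ((FTors.Rgamma I).map ((FTors.Rgammaε I).app X)) := by
  obtain ⟨L, hL, hLg, ⟨e⟩⟩ := exists_good_rep 𝒜 X
  suffices IsIso ((FTors.Rgamma I).map
      ((FTors.Rgammaε I).app (DerivedCategory.Qh.obj ((HomotopyCategory.quotient _ _).obj L)))) by
    have hn := congrArg (FTors.Rgamma I).map ((FTors.Rgammaε I).naturality e.hom)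
    rw [Functor.map_comp, Functor.map_comp] at hn
    haveI : IsIso ((FTors.Rgamma I).map ((FTors.Rgammaε I).app X) ≫
        (FTors.Rgamma I).map ((𝟭 _).map e.hom)) := by
      rw [← hn]
      infer_instance
    exact IsIso.of_isIso_comp_right _ ((FTors.Rgamma I).map ((𝟭 _).map e.hom))
  haveI hL' := isIso_gammaUnit 𝒜 L hLg
  haveI hΓ := isIso_gammaUnit 𝒜 (((FTors.gamma O I).mapHomologicalComplex _).obj L)
    (fun p => goodOn_of_isTors _ (isTors_gammaObj _))
  have hq : QuasiIso (((FTors.gamma O I).mapHomologicalComplex _).map (gammaC I L)) := by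
    haveI : ∀ p, IsIso ((((FTors.gamma O I).mapHomologicalComplex _).map (gammaC I L)).f p) :=
      fun p => by
        have hιι : (FTors.gamma O I).map ((FTors.gammaι I).app (L.X p)) =
            (FTors.gammaι I).app ((FTors.gamma O I).obj (L.X p)) :=
          (cancel_mono ((FTors.gammaι I).app (L.X p))).1
            ((FTors.gammaι I).naturality ((FTors.gammaι I).app (L.X p)))
        change IsIso ((FTors.gamma O I).map ((gammaC I L).f p))
        rw [gammaC_f]
        exact hιι ▸ isIso_gammaι_of_isTors (isTors_gammaObj _)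
    haveI := HomologicalComplex.Hom.isIso_of_components
      (((FTors.gamma O I).mapHomologicalComplex _).map (gammaC I L))
    infer_instance
  haveI : IsIso ((FTors.gammaKh I).map ((HomotopyCategory.quotient _ _).map (gammaC I L))) :=
    (NatIso.isIso_map_iff (DerivedCategory.quotientCompQhIso _) _).2
      ((DerivedCategory.isIso_Q_map_iff_quasiIso _ _).2 hq)
  have hn := (gammaUnit I).naturality ((HomotopyCategory.quotient _ _).map (gammaC I L))
  haveI : IsIso ((gammaUnit I).app ((HomotopyCategory.quotient _ _).obj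
        (((FTors.gamma O I).mapHomologicalComplex _).obj L)) ≫
      (DerivedCategory.Qh ⋙ FTors.Rgamma I).map
        ((HomotopyCategory.quotient _ _).map (gammaC I L))) := by
    rw [← hn]
    exact IsIso.comp_isIso
  haveI h1 : IsIso ((DerivedCategory.Qh ⋙ FTors.Rgamma I).map
      ((HomotopyCategory.quotient _ _).map (gammaC I L))) :=
    IsIso.of_isIso_comp_left ((gammaUnit I).app ((HomotopyCategory.quotient _ _).obj
      (((FTors.gamma O I).mapHomologicalComplex _).obj L))) _
  rw [Functor.comp_map, ← gammaτ_app, ← gammaUnit_ε] at h1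
  erw [Functor.map_comp] at h1
  exact @IsIso.of_isIso_comp_left _ _ _ _ _ _ _ (@Functor.map_isIso _ _ _ _ _ _ (FTors.Rgamma I) _ hL') h1

/-- The derived torsion functor is the coreflection onto objects with torsion cohomology. -/
theorem bijective_comp_ε (𝒜 : Atlas I) {E : DerivedCategory (ModSite.Mod O)}
    (hE : FTors.IsDTors I E) (F : DerivedCategory (ModSite.Mod O)) :
    Function.Bijective (fun φ : E ⟶ (FTors.Rgamma I).obj F => φ ≫ (FTors.Rgammaε I).app F) := by
  haveI := isIso_ε_of_isDTors 𝒜 hE
  refine ⟨fun a b hab => ?_,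
    fun φ => ⟨inv ((FTors.Rgammaε I).app E) ≫ (FTors.Rgamma I).map φ, ?_⟩⟩
  · haveI := isIso_Rgamma_map_ε 𝒜 F
    have h1 := congrArg (FTors.Rgamma I).map hab
    simp only [Functor.map_comp, cancel_mono] at h1
    haveI := isIso_ε_of_isDTors 𝒜 (isDTors_Rgamma 𝒜 F)
    have ha := (FTors.Rgammaε I).naturality a
    have hb := (FTors.Rgammaε I).naturality b
    rw [h1, hb] at ha
    exact ((cancel_epi ((FTors.Rgammaε I).app E)).1 ha).symm
  · dsimp only
    rw [Category.assoc]
    exact (congrArg (inv ((FTors.Rgammaε I).app E) ≫ ·) ((FTors.Rgammaε I).naturality φ)).trans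
      (IsIso.inv_hom_id_assoc _ _)

end Groth.Agent.FTors52
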