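import Groth.Prelude.Def_FTors2
import Groth.Agent.FMod90.Basic
import Groth.Agent.SiteBase.ModGroth

/-!
# Complexes of sheaves of modules on a ringed space, elementwise

Exactness, cohomology classes and quasi-isomorphisms of complexes of sheaves of modules on a ringed
space in terms of local sections.
-/

set_option autoImplicit false

universe u

open CategoryTheory CategoryTheory.Limits Opposite TopologicalSpace

namespace Groth.Agent.FTors52

open FMod90

variable {T : TopCat.{u}} {O : Sheaf (Opens.grothendieckTopology T) CommRingCat.{u}}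

variable {M N P : ModSite.Mod O} {U V W : Opens T}

theorem res_zero (h : V ≤ U) : res M h (0 : Sec M U) = 0 := map_zero _

theorem LocLift.res {φ : M ⟶ N} {y : Sec N U} (hy : LocLift φ y) (h : V ≤ U) :
    LocLift φ (res N h y) := fun x hx => by
  obtain ⟨W, hW, s, hxW, hs⟩ := hy x (h hx)
  exact ⟨W ⊓ V, inf_le_right, FMod90.res M inf_le_left s, ⟨hxW, hx⟩, by
    rw [← res_appL, hs, res_res, res_res]⟩

theorem LocLift.of_locally {φ : M ⟶ N} {y : Sec N U}
    (h : ∀ x ∈ U, ∃ (W : Opens T) (hW : W ≤ U), x ∈ W ∧ LocLift φ (FMod90.res N hW y)) :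
    LocLift φ y := fun x hx => by
  obtain ⟨W, hW, hxW, hy⟩ := h x hx
  obtain ⟨W', hW', s, hx', hs⟩ := hy x hxW
  exact ⟨W', hW'.trans hW, s, hx', hs.trans (res_res _ _ _)⟩

theorem locLift_zero (φ : M ⟶ N) : LocLift φ (0 : Sec N U) :=
  locLift_of_mem ⟨0, map_zero _⟩

theorem LocLift.add {φ : M ⟶ N} {y z : Sec N U} (hy : LocLift φ y) (hz : LocLift φ z) :
    LocLift φ (y + z) := fun x hx => by
  obtain ⟨W₁, h₁, s, hx₁, hs⟩ := hy x hx
  obtain ⟨W₂, h₂, t, hx₂, ht⟩ := hz x hx
  exact ⟨W₁ ⊓ W₂, inf_le_left.trans h₁, FMod90.res M inf_le_left s + FMod90.res M inf_le_right t,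
    ⟨hx₁, hx₂⟩, by rw [map_add, ← res_appL, ← res_appL, hs, ht, res_res, res_res, ← map_add]⟩

/-- Sections in the kernel lift locally along an exact pair. -/
theorem locLift_of_exact {S : ShortComplex (ModSite.Mod O)} (hS : S.Exact) {s : Sec S.X₂ U}
    (h : appL S.g U s = 0) : LocLift S.f s := fun x hx => by
  have := S.exact_iff_epi_kernel_lift.1 hS
  obtain ⟨t, rfl⟩ := exists_kernel_lift S.g s h
  obtain ⟨W, hW, a, hxW, ha⟩ := locLift_of_epi (kernel.lift S.g S.f S.zero) t x hx
  refine ⟨W, hW, a, hxW, ?_⟩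
  rw [res_appL, ← ha, ← appL_comp, kernel.lift_ι]

/-- A section which lifts locally along a monomorphism lifts. -/
theorem exists_lift_of_mono (φ : M ⟶ N) [Mono φ] {y : Sec N U} (h : LocLift φ y) :
    ∃ s : Sec M U, appL φ U s = y := by
  choose W hW s hx hs using fun x : U => h x.1 x.2
  obtain ⟨t, ht⟩ := exists_glue (M := M) W hW
    (fun x hxU => Opens.mem_iSup.2 ⟨⟨x, hxU⟩, hx _⟩) s (fun i j => injective_of_mono φ _ (by
      rw [← res_appL, ← res_appL, hs, hs, res_res, res_res]))
  refine ⟨t, eq_of_locally fun x hxU => ⟨W ⟨x, hxU⟩, hW _, hx _, ?_⟩⟩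
  rw [res_appL, ht, hs]

/-- Exactness by lifting kernel sections locally. -/
theorem exact_of_locLift (S : ShortComplex (ModSite.Mod O))
    (h : ∀ U (s : Sec S.X₂ U), appL S.g U s = 0 → LocLift S.f s) : S.Exact := by
  refine S.exact_iff_epi_kernel_lift.2 (epi_of_locLift _ fun U t x hx => ?_)
  obtain ⟨W, hW, a, hxW, ha⟩ := h U (appL (kernel.ι S.g) U t) (appL_kernel_condition S.g t) x hx
  refine ⟨W, hW, a, hxW, injective_of_mono (kernel.ι S.g) W ?_⟩
  rw [← appL_comp, kernel.lift_ι, ha, res_appL]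

section Complex

variable (K : CochainComplex (ModSite.Mod O) ℤ)

/-- A section is a cocycle. -/
def IsCyc (p : ℤ) (z : Sec (K.X p) U) : Prop := appL (K.d p (p + 1)) U z = 0

/-- A section is locally a coboundary. -/
def IsBdy (p : ℤ) (z : Sec (K.X p) U) : Prop := LocLift (K.d (p - 1) p) z

variable {K}

theorem IsCyc.res {p : ℤ} {z : Sec (K.X p) U} (hz : IsCyc K p z) (h : V ≤ U) :
    IsCyc K p (FMod90.res (K.X p) h z) := by
  rw [IsCyc, ← res_appL, hz, res_zero]

theorem IsCyc.smul {p : ℤ} {z : Sec (K.X p) U} (hz : IsCyc K p z) (a : Ring O U) :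
    IsCyc K p (a • z) := by
  rw [IsCyc, map_smul, hz, smul_zero]

theorem appL_d_d (p q r : ℤ) (y : Sec (K.X p) U) :
    appL (K.d q r) U (appL (K.d p q) U y) = 0 := by
  rw [← appL_comp, K.d_comp_d, appL_zero]

theorem isCyc_d (p q : ℤ) (y : Sec (K.X p) U) : IsCyc K q (appL (K.d p q) U y) :=
  appL_d_d p q _ y

theorem IsCyc.exists_cycle {p : ℤ} {z : Sec (K.X p) U} (hz : IsCyc K p z) :
    ∃ c : Sec (K.cycles p) U, appL (K.iCycles p) U c = z :=
  exists_lift_of_mono _ (locLift_of_exact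
    ((ShortComplex.mk (K.iCycles p) (K.d p (p + 1)) (K.iCycles_d p (p + 1))).exact_of_f_is_kernel
      (K.cyclesIsKernel p (p + 1) (CochainComplex.next ℤ p))) hz)

theorem isCyc_iCycles {p : ℤ} (c : Sec (K.cycles p) U) : IsCyc K p (appL (K.iCycles p) U c) := by
  rw [IsCyc, ← appL_comp, K.iCycles_d, appL_zero]

/-- A class vanishes iff the cocycle is locally a coboundary. -/
theorem homologyπ_eq_zero_iff {p : ℤ} (c : Sec (K.cycles p) U) :
    appL (K.homologyπ p) U c = 0 ↔ IsBdy K p (appL (K.iCycles p) U c) := by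
  constructor
  · intro h x hx
    obtain ⟨W, hW, y, hxW, hy⟩ := locLift_of_exact
      ((ShortComplex.mk (K.toCycles (p - 1) p) (K.homologyπ p)
        (K.toCycles_comp_homologyπ (p - 1) p)).exact_of_g_is_cokernel
          (K.homologyIsCokernel (p - 1) p (CochainComplex.prev ℤ p))) h x hx
    refine ⟨W, hW, y, hxW, ?_⟩
    rw [← K.toCycles_i (p - 1) p, appL_comp, hy, res_appL]
  · intro h
    refine eq_zero_of_locally fun x hx => ?_
    obtain ⟨W, hW, y, hxW, hy⟩ := h x hx
    refine ⟨W, hW, hxW, ?_⟩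
    have hc : FMod90.res (K.cycles p) hW c = appL (K.toCycles (p - 1) p) W y := by
      refine injective_of_mono (K.iCycles p) W ?_
      rw [← res_appL, ← hy, ← appL_comp (K.toCycles _ _), K.toCycles_i]
    rw [res_appL, hc, ← appL_comp, K.toCycles_comp_homologyπ, appL_zero]

/-- Sections of cohomology are locally classes of cocycles. -/
theorem exists_homologyπ {p : ℤ} (h : Sec (K.homology p) U) (x : T) (hx : x ∈ U) :
    ∃ (W : Opens T) (hW : W ≤ U) (c : Sec (K.cycles p) W), x ∈ W ∧
      appL (K.homologyπ p) W c = res (K.homology p) hW h :=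
  locLift_of_epi (K.homologyπ p) h x hx

theorem homologyMap_class {L : CochainComplex (ModSite.Mod O) ℤ} (f : K ⟶ L) {p : ℤ}
    (c : Sec (K.cycles p) U) :
    appL (HomologicalComplex.homologyMap f p) U (appL (K.homologyπ p) U c) =
      appL (L.homologyπ p) U (appL (HomologicalComplex.cyclesMap f p) U c) := by
  rw [← appL_comp, HomologicalComplex.homologyπ_naturality, appL_comp]

theorem iCycles_cyclesMap {L : CochainComplex (ModSite.Mod O) ℤ} (f : K ⟶ L) {p : ℤ}
    (c : Sec (K.cycles p) U) :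
    appL (L.iCycles p) U (appL (HomologicalComplex.cyclesMap f p) U c) =
      appL (f.f p) U (appL (K.iCycles p) U c) := by
  rw [← appL_comp, HomologicalComplex.cyclesMap_i, appL_comp]

/-- A map of complexes is a quasi-isomorphism if it is so on local classes. -/
theorem quasiIso_of_elem {L : CochainComplex (ModSite.Mod O) ℤ} (f : K ⟶ L)
    (hS : ∀ (p : ℤ) (V : Opens T) (z : Sec (L.X p) V), IsCyc L p z → ∀ x ∈ V,
      ∃ (W : Opens T) (hW : W ≤ V) (z' : Sec (K.X p) W), x ∈ W ∧ IsCyc K p z' ∧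
        IsBdy L p (res (L.X p) hW z - appL (f.f p) W z'))
    (hI : ∀ (p : ℤ) (V : Opens T) (z : Sec (K.X p) V), IsCyc K p z →
      IsBdy L p (appL (f.f p) V z) → IsBdy K p z) : QuasiIso f := by
  refine ⟨fun p => (quasiIsoAt_iff_isIso_homologyMap f p).2 ?_⟩
  have : Mono (HomologicalComplex.homologyMap f p) := by
    refine mono_of_injective _ fun U => (injective_iff_map_eq_zero _).2 fun h hh => ?_
    refine eq_zero_of_locally fun x hx => ?_
    obtain ⟨W, hW, c, hxW, hc⟩ := exists_homologyπ h x hx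
    refine ⟨W, hW, hxW, ?_⟩
    rw [← hc, homologyπ_eq_zero_iff]
    refine hI p W _ (isCyc_iCycles c) ?_
    rw [← iCycles_cyclesMap, ← homologyπ_eq_zero_iff, ← homologyMap_class, hc, ← res_appL, hh,
      res_zero]
  have : Epi (HomologicalComplex.homologyMap f p) := by
    refine epi_of_locLift _ fun U h x hx => ?_
    obtain ⟨W, hW, c, hxW, hc⟩ := exists_homologyπ h x hx
    obtain ⟨W', hW', z', hx', hz', hb⟩ := hS p W _ (isCyc_iCycles c) x hxW
    obtain ⟨c', rfl⟩ := hz'.exists_cycle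
    refine ⟨W', hW'.trans hW, appL (K.homologyπ p) W' c', hx', ?_⟩
    rw [res_appL, ← iCycles_cyclesMap, ← map_sub, ← homologyπ_eq_zero_iff, map_sub, sub_eq_zero]
      at hb
    rw [homologyMap_class, ← hb, ← res_appL, hc, res_res]
  exact isIso_of_mono_of_epi _

end Complex

end Groth.Agent.FTors52
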