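import Mathlib.Algebra.Homology.ExactSequence
import Mathlib.CategoryTheory.Abelian.Basic
import Mathlib.Algebra.Homology.ShortComplex.Abelian
import Mathlib.Algebra.Homology.ShortComplex.ShortExact

/-!
# The short exact sequence in the middle of an exact sequence of five terms
-/

set_option autoImplicit false

universe v u

open CategoryTheory CategoryTheory.Limits

namespace Groth.Agent.FTors52

variable {C : Type u} [Category.{v} C] [Abelian C] {F₀ F₁ F₂ F₃ F₄ : C}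

/-- In an exact sequence of five terms the middle one is an extension of the kernel of the last
morphism by the cokernel of the first one. -/
theorem exists_shortExact_mid (f₀ : F₀ ⟶ F₁) (f₁ : F₁ ⟶ F₂) (f₂ : F₂ ⟶ F₃) (f₃ : F₃ ⟶ F₄)
    (w₀ : f₀ ≫ f₁ = 0) (w₁ : f₁ ≫ f₂ = 0) (w₂ : f₂ ≫ f₃ = 0)
    (h₀ : (ShortComplex.mk f₀ f₁ w₀).Exact) (h₁ : (ShortComplex.mk f₁ f₂ w₁).Exact)
    (h₂ : (ShortComplex.mk f₂ f₃ w₂).Exact) :
    ∃ (a : cokernel f₀ ⟶ F₂) (b : F₂ ⟶ kernel f₃) (w : a ≫ b = 0),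
      (ShortComplex.mk a b w).Exact ∧ Mono a ∧ Epi b := by
  have wa : cokernel.desc f₀ f₁ w₀ ≫ f₂ = 0 := by
    rw [← cancel_epi (cokernel.π f₀), cokernel.π_desc_assoc, w₁, comp_zero]
  have w : cokernel.desc f₀ f₁ w₀ ≫ kernel.lift f₃ f₂ w₂ = 0 := by
    rw [← cancel_mono (kernel.ι f₃), Category.assoc, kernel.lift_ι, wa, zero_comp]
  refine ⟨_, _, w, ?_, h₀.mono_cokernelDesc, h₂.epi_kernelLift⟩
  let α : ShortComplex.mk f₁ f₂ w₁ ⟶ ShortComplex.mk _ f₂ wa :=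
    { τ₁ := cokernel.π f₀
      τ₂ := 𝟙 _
      τ₃ := 𝟙 _ }
  let β : ShortComplex.mk _ _ w ⟶ ShortComplex.mk _ f₂ wa :=
    { τ₁ := 𝟙 _
      τ₂ := 𝟙 _
      τ₃ := kernel.ι f₃ }
  have : Epi α.τ₁ := inferInstanceAs (Epi (cokernel.π f₀))
  have : IsIso α.τ₂ := inferInstanceAs (IsIso (𝟙 F₂))
  have : Mono α.τ₃ := inferInstanceAs (Mono (𝟙 F₃))
  have : Epi β.τ₁ := inferInstanceAs (Epi (𝟙 _))
  have : IsIso β.τ₂ := inferInstanceAs (IsIso (𝟙 F₂))
  have : Mono β.τ₃ := inferInstanceAs (Mono (kernel.ι f₃))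
  exact (ShortComplex.exact_iff_of_epi_of_isIso_of_mono β).2
    ((ShortComplex.exact_iff_of_epi_of_isIso_of_mono α).1 h₁)

/-- The same for composable arrows. -/
theorem exists_shortExact_of_five {S : ComposableArrows C 4} (hS : S.Exact) :
    ∃ (a : cokernel (S.map' 0 1) ⟶ S.obj 2) (b : S.obj 2 ⟶ kernel (S.map' 3 4)) (w : a ≫ b = 0),
      (ShortComplex.mk a b w).Exact ∧ Mono a ∧ Epi b :=
  exists_shortExact_mid (S.map' 0 1) (S.map' 1 2) (S.map' 2 3) (S.map' 3 4) (hS.zero 0) (hS.zero 1)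
    (hS.zero 2) (hS.exact 0) (hS.exact 1) (hS.exact 2)

end Groth.Agent.FTors52
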