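import Groth.Agent.FTors52.Sat
import Groth.Agent.FMod90.Coh
import Groth.Agent.CAlgOdd.FlatCompletion

/-!
# Data for the open ideals of a locally Noetherian formal scheme
-/

set_option autoImplicit false

universe u

open CategoryTheory CategoryTheory.Limits AlgebraicGeometry Opposite TopologicalSpace

namespace Groth.Agent.FTors52

open FMod90

variable {𝔛 : FSch.Sys.{u}} {h : 𝔛.IsFormal} {U : (𝔛.X 0).Opens}

/-- Restriction of sections of a level along opens of the common space. -/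
noncomputable abbrev resLvl {V : (𝔛.X 0).Opens} (hVU : V ≤ U) (n : ℕ) : Rn h U n →+* Rn h V n :=
  ((𝔛.X n).presheaf.map ((Opens.map (𝔛.gInv h n)).map (homOfLE hVU)).op).hom

theorem pr_rres' {V : (𝔛.X 0).Opens} (hVU : V ≤ U) (n : ℕ) (s : Ring (𝔛.Osh h) U) :
    pr h V n (rres (𝔛.Osh h) hVU s) = resLvl hVU n (pr h U n s) :=
  pr_rres h U hVU n s

theorem Nid_res {V : (𝔛.X 0).Opens} (hU : IsAffineOpen U) (hV : IsAffineOpen V) (hVU : V ≤ U)
    (n : ℕ) : (Nid h hU n).map (resLvl hVU n) = Nid h hV n :=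
  (𝔛.toX n).ker.map_ideal' (U := ⟨_, isAffineOpen_lvU h hV n⟩) (V := ⟨_, isAffineOpen_lvU h hU n⟩)
    ((Opens.map (𝔛.gInv h n)).map (homOfLE hVU)).op

theorem mem_openIdealFam (n : ℕ) (W : (𝔛.X 0).Opens) (a : Ring (𝔛.Osh h) W) :
    a ∈ (FTors.openIdealFam 𝔛 h).ideal n W ↔ a ∈ RingHom.ker (pr h W n) :=
  Iff.rfl

/-- The adic structure of the sections over a basic open is induced. -/
theorem isAdicRing_Dop (h𝔛 : 𝔛.IsLocNoethFormal) {hU : IsAffineOpen U}
    {J : Ideal (Ring (𝔛.Osh h) U)} (hJ : IsAdicRing h hU J) (f : Ring (𝔛.Osh h) U) :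
    IsAdicRing h (isAffineOpen_Dop h hU f) (J.map (rres (𝔛.Osh h) (Dop_le h f))) := by
  obtain ⟨J', hJ'⟩ := exists_isAdicRing h𝔛 (isAffineOpen_Dop h hU f)
  set K := J.map (rres (𝔛.Osh h) (Dop_le h f))
  suffices e : K = J' by rw [e]; exact hJ'
  have hK : ∀ n, K.map (pr h _ n) = J'.map (pr h _ n) := fun n => by
    rw [hJ'.map_pr, ← Nid_res hU (isAffineOpen_Dop h hU f) (Dop_le h f), ← hJ.map_pr,
      Ideal.map_map, Ideal.map_map]
    congr 1
    exact RingHom.ext fun s => pr_rres' _ n s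
  have hsup : K ⊔ J' ^ (1 + 1) = J' := by
    have h1 := congrArg (Ideal.comap (pr h _ 1)) (hK 1)
    rw [Ideal.comap_map_of_surjective' _ (pr_surjective h (isAffineOpen_Dop h hU f) 1),
      Ideal.comap_map_of_surjective' _ (pr_surjective h (isAffineOpen_Dop h hU f) 1), hJ'.ker_pr,
      sup_eq_left.2 (Ideal.pow_le_self (by omega) : J' ^ (1 + 1) ≤ J')] at h1
    exact h1
  have := hJ'.complete
  refine le_antisymm (le_sup_left.trans hsup.le) ?_
  refine Submodule.le_of_le_smul_of_le_jacobson_bot hJ'.fg (IsAdicComplete.le_jacobson_bot J') ?_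
  rw [smul_eq_mul, ← pow_two]
  exact hsup.ge

/-- The restriction to a basic open is flat. -/
theorem flat_rres_Dop (h𝔛 : 𝔛.IsLocNoethFormal) {hU : IsAffineOpen U}
    {J : Ideal (Ring (𝔛.Osh h) U)} (hJ : IsAdicRing h hU J) (f : Ring (𝔛.Osh h) U) :
    (rres (𝔛.Osh h) (Dop_le h f)).Flat := by
  classical
  let φ := rres (𝔛.Osh h) (Dop_le h f)
  letI : Algebra (Ring (𝔛.Osh h) U) (Ring (𝔛.Osh h) (Dop h f)) := φ.toAlgebra
  have hK := isAdicRing_Dop h𝔛 hJ f
  haveI := hJ.noetherian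
  haveI := hK.complete
  haveI : IsAdicComplete J (Ring (𝔛.Osh h) (Dop h f)) :=
    (IsAdicComplete.map_algebraMap_iff (I := J) (S := Ring (𝔛.Osh h) (Dop h f)) _).1 hK.complete
  have hpow : ∀ (N : ℕ) (x : Ring (𝔛.Osh h) (Dop h f)),
      x ∈ J ^ N • (⊤ : Submodule (Ring (𝔛.Osh h) U) (Ring (𝔛.Osh h) (Dop h f))) ↔
        x ∈ (J.map φ) ^ N := fun N x => by
    rw [Ideal.smul_top_eq_map, Submodule.restrictScalars_mem, Ideal.map_pow]
    rfl
  change Module.Flat (Ring (𝔛.Osh h) U) (Ring (𝔛.Osh h) (Dop h f))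
  refine CAlgOdd.FlatCompletion.flat J ?_
  intro N q r s v hv
  obtain _ | n := N
  · refine Submodule.mem_sup_right ?_
    rw [pow_zero, Ideal.one_eq_top, Submodule.top_smul]
    exact Submodule.mem_top
  let ρU := pr h U n
  let ρV := pr h (Dop h f) n
  letI : Algebra (Rn h U n) (Rn h (Dop h f) n) := (resLvl (Dop_le h f) n).toAlgebra
  haveI : IsLocalization.Away (ρU f) (Rn h (Dop h f) n) :=
    (isAffineOpen_lvU h hU n).isLocalization_of_eq_basicOpen (ρU f)
      ((Opens.map (𝔛.gInv h n)).map (homOfLE (Dop_le h f))) (lvU_Dop h f n)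
  haveI : Module.Flat (Rn h U n) (Rn h (Dop h f) n) :=
    IsLocalization.flat _ (Submonoid.powers (ρU f))
  have hφ : ∀ a, ρV (φ a) = algebraMap (Rn h U n) (Rn h (Dop h f) n) (ρU a) :=
    fun a => pr_rres' (Dop_le h f) n a
  let g : (Fin r → Rn h U n) →ₗ[Rn h U n] (Fin q → Rn h U n) :=
    LinearMap.pi fun i => ∑ j, ρU (s j i) • LinearMap.proj j
  let x : (Fin q → Rn h U n) →ₗ[Rn h U n] Rn h (Dop h f) n :=
    Fintype.linearCombination (Rn h U n) fun i => ρV (v i)
  have hxg : x ∘ₗ g = 0 := by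
    ext j
    have hj : ρV (∑ i, s j i • v i) = 0 := by
      have h1 := (hpow (n + 1) _).1 (hv j)
      rw [← hK.ker_pr n] at h1
      exact h1
    simp only [map_sum, Algebra.smul_def, map_mul] at hj
    change x (g (Pi.single j 1)) = 0
    rw [← hj]
    simp only [g, x, Fintype.linearCombination_apply]
    refine Finset.sum_congr rfl fun i _ => ?_
    simp only [LinearMap.pi_apply, LinearMap.coe_sum, Finset.sum_apply, LinearMap.smul_apply,
      LinearMap.proj_apply, smul_eq_mul, Pi.single_apply, mul_ite, mul_one, mul_zero,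
      Finset.sum_ite_eq', Finset.mem_univ, if_true, Algebra.smul_def]
    exact congrArg (· * ρV (v i)) (hφ (s j i)).symm
  obtain ⟨k, a, y, hxy, hag⟩ := Module.Flat.exists_factorization_of_comp_eq_zero_of_free hxg
  let A : Fin k → Fin q → Rn h U n := fun l i => a (Pi.single i 1) l
  choose u hu using fun l i => pr_surjective h hU n (A l i)
  choose w hw using fun l => pr_surjective h (isAffineOpen_Dop h hU f) n
    (y (Finsupp.single l 1))
  have hrel : ∀ l j, ∑ i, s j i * u l i ∈ J ^ (n + 1) := fun l j => by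
    rw [← hJ.ker_pr n, RingHom.mem_ker, map_sum]
    have h1 : a (g (Pi.single j 1)) l = 0 :=
      DFunLike.congr_fun (LinearMap.congr_fun hag (Pi.single j 1)) l
    rw [pi_eq_sum_univ' (g (Pi.single j 1)), map_sum, Finsupp.finset_sum_apply] at h1
    rw [← h1]
    refine Finset.sum_congr rfl fun i _ => ?_
    rw [map_smul, Finsupp.smul_apply, smul_eq_mul, map_mul, hu]
    congr 1
    simp only [g, LinearMap.pi_apply, LinearMap.coe_sum, Finset.sum_apply, LinearMap.smul_apply,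
      LinearMap.proj_apply, Pi.single_apply, smul_eq_mul, mul_ite, mul_one, mul_zero,
      Finset.sum_ite_eq', Finset.mem_univ, if_true]
    rfl
  refine Submodule.mem_sup.2 ⟨∑ l, fun i => u l i • w l,
    Submodule.sum_mem _ fun l _ => Submodule.subset_span ⟨u l, hrel l, w l, rfl⟩,
    v - ∑ l, fun i => u l i • w l, ARPair.mem_smul_top_pi.2 fun i => (hpow (n + 1) _).2 ?_,
    add_sub_cancel _ _⟩
  rw [← hK.ker_pr n, RingHom.mem_ker, Pi.sub_apply, map_sub, Finset.sum_apply, map_sum, sub_eq_zero]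
  have h2 : x (Pi.single i 1) = y (a (Pi.single i 1)) := LinearMap.congr_fun hxy _
  rw [Fintype.linearCombination_apply_single, one_smul] at h2
  change ρV (v i) = _
  rw [h2, ← Finsupp.univ_sum_single (a (Pi.single i 1)), map_sum]
  refine Finset.sum_congr rfl fun l _ => ?_
  rw [← Finsupp.smul_single_one, map_smul, ← hw, Algebra.smul_def, Algebra.smul_def, map_mul]
  congr 1
  rw [show a (Pi.single i 1) l = A l i from rfl, ← hu]
  exact (hφ _).symm

/-- The datum of generators of the adic ideal over an affine open. -/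
noncomputable def datumFormal (h𝔛 : 𝔛.IsLocNoethFormal) {hU : IsAffineOpen U}
    {J : Ideal (Ring (𝔛.Osh h) U)} (hJ : IsAdicRing h hU J) {r : ℕ} (t : Fin r → Ring (𝔛.Osh h) U)
    (ht : Ideal.span (Set.range t) = J) : Datum (FTors.openIdealFam 𝔛 h) where
  U := U
  r := r
  t := t
  pow_mem n := ⟨n + 1, fun i W hW => by
    rw [mem_openIdealFam, RingHom.mem_ker, ← map_pow, pr_rres',
      RingHom.mem_ker.1 ((hJ.ker_pr n).ge (Ideal.pow_mem_pow (ht ▸ Ideal.subset_span ⟨i, rfl⟩) _)),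
      map_zero]⟩
  le_span k := by
    have hfg : (Ideal.span (Set.range t)).FG := Submodule.fg_span (Set.finite_range t)
    obtain ⟨c, hc⟩ := Ideal.exists_pow_le_of_le_radical_of_fg
      (J := Ideal.span (Set.range fun i => t i ^ k))
      (I := Ideal.span (Set.range t)) (Ideal.span_le.2 (by
        rintro _ ⟨i, rfl⟩
        exact ⟨k, Ideal.subset_span ⟨i, rfl⟩⟩)) hfg
    refine ⟨c, fun W hW a ha x hx => ?_⟩
    obtain ⟨f, hfW, hxf⟩ := exists_Dop_le h hU (hW hx) hx
    refine ⟨Dop h f, hfW, hxf, ?_⟩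
    have h1 : rres (𝔛.Osh h) hfW a ∈ (FTors.openIdealFam 𝔛 h).ideal c (Dop h f) := by
      rw [mem_openIdealFam, RingHom.mem_ker] at ha ⊢
      rw [pr_rres', ha, map_zero]
    rw [mem_openIdealFam, (isAdicRing_Dop h𝔛 hJ f).ker_pr c] at h1
    have h2 : J ^ (c + 1) ≤ Ideal.span (Set.range fun i => t i ^ k) :=
      (Ideal.pow_le_pow_right (Nat.le_succ c)).trans (by rw [← ht]; exact hc)
    rw [← Ideal.map_pow] at h1
    have h3 := Ideal.map_mono (f := rres (𝔛.Osh h) (Dop_le h f)) h2 h1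
    rw [Ideal.map_span, ← Set.range_comp] at h3
    simp only [Function.comp_def, map_pow] at h3
    exact h3

theorem isSat_datumFormal (h𝔛 : 𝔛.IsLocNoethFormal) {hU : IsAffineOpen U}
    {J : Ideal (Ring (𝔛.Osh h) U)} (hJ : IsAdicRing h hU J) {r : ℕ} (t : Fin r → Ring (𝔛.Osh h) U)
    (ht : Ideal.span (Set.range t) = J) : (datumFormal h𝔛 hJ t ht).IsSat :=
  haveI : IsNoetherianRing (Ring (𝔛.Osh h) (datumFormal h𝔛 hJ t ht).U) := hJ.noetherian
  isSat_of_flat _ fun W hW x hx => by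
    obtain ⟨f, hfW, hxf⟩ := exists_Dop_le h hU (hW hx) hx
    exact ⟨Dop h f, Dop_le h f, hfW, hxf, flat_rres_Dop h𝔛 hJ f⟩

/-- Every affine open carries a datum for the open ideals, with bounded torsion. -/
theorem exists_datum_formal (h𝔛 : 𝔛.IsLocNoethFormal) (hU : IsAffineOpen U) :
    ∃ D : Datum (FTors.openIdealFam 𝔛 h), D.U = U ∧ D.IsSat := by
  obtain ⟨J, hJ⟩ := exists_isAdicRing h𝔛 hU
  obtain ⟨r, t, ht⟩ := Submodule.fg_iff_exists_fin_generating_family.1 hJ.fg
  exact ⟨datumFormal h𝔛 hJ t ht, rfl, isSat_datumFormal h𝔛 hJ t ht⟩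

theorem exists_covers_formal (h𝔛 : 𝔛.IsLocNoethFormal) :
    Covers {D : Datum (FTors.openIdealFam 𝔛 h) | D.IsSat} := fun x => by
  obtain ⟨U, hU, hx, -⟩ := Opens.isBasis_iff_nbhd.1 (𝔛.X 0).isBasis_affineOpens
    (show x ∈ (⊤ : (𝔛.X 0).Opens) from trivial)
  obtain ⟨D, rfl, hD⟩ := exists_datum_formal (h := h) h𝔛 hU
  exact ⟨D, hD, hx⟩

end Groth.Agent.FTors52
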