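import Groth.Agent.FTors52.Derived
import Groth.Agent.FTors52.Formal

/-! # The atlas of a locally Noetherian formal scheme -/

set_option autoImplicit false

universe u

namespace Groth.Agent.FTors52

/-- The atlas of all data with bounded torsion on a locally Noetherian formal scheme. -/
def formalAtlas {𝔛 : FSch.Sys.{u}} (h𝔛 : 𝔛.IsLocNoethFormal) :
    Atlas (FTors.openIdealFam 𝔛 h𝔛.1) :=
  ⟨{D | D.IsSat}, exists_covers_formal h𝔛, fun _ hD => hD⟩

end Groth.Agent.FTors52
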