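import Groth.Agent.FTors52.Rel

/-!
# Relations between sections on a locally Noetherian formal scheme

Over an affine open, relations between finitely many sections which are locally finitely generated
are finitely generated, and are then computed by sections; finitely presented modules and cokernels
have finitely generated relations.
-/

set_option autoImplicit false

universe u

open CategoryTheory CategoryTheory.Limits AlgebraicGeometry Opposite TopologicalSpace

namespace Groth.Agent.FTors52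

open FMod90

variable {𝔛 : FSch.Sys.{u}} {h : 𝔛.IsFormal} {U V W : (𝔛.X 0).Opens} {n m k : ℕ}
  {M N : FSch.ModF 𝔛 h}

theorem exists_affine_le {x : 𝔛.X 0} (hx : x ∈ U) :
    ∃ W : (𝔛.X 0).Opens, IsAffineOpen W ∧ W ≤ U ∧ x ∈ W := by
  obtain ⟨W, hW, hxW, hWU⟩ := Opens.isBasis_iff_nbhd.1 (𝔛.X 0).isBasis_affineOpens hx
  exact ⟨W, hW, hWU, hxW⟩

/-- A property true near every point of an affine open holds on a finite cover by basic opens. -/
theorem exists_finite_cover (hU : IsAffineOpen U) (P : (𝔛.X 0).Opens → Prop)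
    (hmono : ∀ W W', W' ≤ W → W ≤ U → P W → P W')
    (hP : ∀ x ∈ U, ∃ W, W ≤ U ∧ x ∈ W ∧ P W) :
    ∃ (ι : Type u) (_ : Finite ι) (f : ι → Ring (𝔛.Osh h) U),
      U ≤ ⨆ i, Dop h (f i) ∧ ∀ i, P (Dop h (f i)) := by
  choose W hWU hxW hPW using fun x : U => hP x.1 x.2
  choose f hfW hxf using fun x : U => exists_Dop_le h hU x.2 (hxW x)
  obtain ⟨t, ht⟩ := hU.isCompact.elim_finite_subcover (fun x : U => (Dop h (f x) : Set (𝔛.X 0)))
    (fun x => (Dop h (f x)).2) fun x hx => Set.mem_iUnion.2 ⟨⟨x, hx⟩, hxf ⟨x, hx⟩⟩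
  refine ⟨t, inferInstance, fun x => f x.1, fun x hx => ?_, fun x =>
    hmono _ _ (hfW x.1) (hWU x.1) (hPW x.1)⟩
  obtain ⟨y, hy, hxy⟩ := Set.mem_iUnion₂.1 (ht hx)
  exact Opens.mem_iSup.2 ⟨⟨y, hy⟩, hxy⟩

variable (h𝔛 : 𝔛.IsLocNoethFormal)

include h𝔛

/-- Over an affine open generators of the relations generate the relations between sections. -/
theorem IsRel.mem_spanV {s : Fin n → Sec M U} {r : Fin m → Fin n → Ring (𝔛.Osh h) U} (hr : IsRel s r)
    (hV : IsAffineOpen V) (hVU : V ≤ U) {a : Fin n → Ring (𝔛.Osh h) V} (ha : comb s hVU a = 0) :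
    a ∈ spanV hVU r := by
  obtain ⟨ι, _, f, hf, hP⟩ := exists_finite_cover hV
    (fun W => ∃ hW : W ≤ V, rv _ hW a ∈ spanV (hW.trans hVU) r)
    (fun W W' hW'W _ ⟨hW, hmem⟩ => ⟨hW'W.trans hW, by
      rw [← rv_rv hW hW'W]
      exact rv_mem_spanV _ _ hmem⟩)
    (fun x hx => by
      obtain ⟨W, hW, hxW, hmem⟩ := hr.exact V hVU a ha x hx
      exact ⟨W, hW, hxW, hW, hmem⟩)
  have h1 := mem_span_of_cover h𝔛 hV f hf (fun l => rv _ hVU (r l)) (a := a) fun i => by
    obtain ⟨hW, hmem⟩ := hP i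
    rw [spanV_rv]
    exact hmem
  exact h1

/-- Locally finitely generated relations over an affine open are finitely generated. -/
theorem exists_isRel_of_locally (hU : IsAffineOpen U) (s : Fin n → Sec M U)
    (hs : ∀ x ∈ U, ∃ (W : (𝔛.X 0).Opens) (hW : W ≤ U), x ∈ W ∧
      ∃ (m : ℕ) (r : Fin m → Fin n → Ring (𝔛.Osh h) W), IsRel (fun i => res M hW (s i)) r) :
    ∃ (m : ℕ) (r : Fin m → Fin n → Ring (𝔛.Osh h) U), IsRel s r := by
  obtain ⟨ι, _, f, hf, hP⟩ := exists_finite_cover hU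
    (fun W => ∃ (hW : W ≤ U) (m : ℕ) (r : Fin m → Fin n → Ring (𝔛.Osh h) W),
      IsRel (fun i => res M hW (s i)) r)
    (fun W W' hW'W _ ⟨hW, m, r, hr⟩ => ⟨hW'W.trans hW, m, _, by
      have h1 := hr.restrict hW'W
      simp only [res_res] at h1
      exact h1⟩)
    (fun x hx => by
      obtain ⟨W, hW, hxW, hr⟩ := hs x hx
      exact ⟨W, hW, hxW, hW, hr⟩)
  choose hVU mi r hr using hP
  obtain ⟨p, R, hR⟩ := exists_glue_submodule h𝔛 hU f hf r fun i j => by
    refine Submodule.span_le.2 ?_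
    rintro _ ⟨l, rfl⟩
    refine (hr j).mem_spanV h𝔛 (isAffineOpen_Dop h hU (f i * f j)) (Dop_mul_right (f i) (f j)) ?_
    have h1 := congrArg (res M (Dop_mul_left (f i) (f j))) ((hr i).rel l)
    rw [map_zero, comb_res, ← comb_rv] at h1
    rw [comb_res]
    exact h1
  refine ⟨p, R, fun l => eq_zero_of_locally fun x hx => ?_, fun V hVU' a ha x hx => ?_⟩
  · obtain ⟨i, hi⟩ := Opens.mem_iSup.1 (hf hx)
    refine ⟨Dop h (f i), Dop_le h (f i), hi, ?_⟩
    have h1 : comb (fun q => res M (hVU i) (s q)) le_rfl (rv _ (Dop_le h (f i)) (R l)) = 0 := by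
      refine comb_eq_zero_of_mem_spanV _ (hr i).rel le_rfl ?_
      rw [spanV_refl, ← hR i]
      exact Submodule.subset_span ⟨l, rfl⟩
    rw [comb_res] at h1
    rw [← comb_rv]
    exact h1
  · obtain ⟨i, hi⟩ := Opens.mem_iSup.1 (hf (hVU' hx))
    have ha' : comb (fun q => res M (hVU i) (s q)) (inf_le_right : V ⊓ Dop h (f i) ≤ _)
        (rv _ inf_le_left a) = 0 := by
      rw [comb_res, comb_rv s hVU' inf_le_left, ha, map_zero]
    obtain ⟨W', hW', hxW', hmem⟩ := (hr i).exact _ inf_le_right _ ha' x ⟨hx, hi⟩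
    refine ⟨W', hW'.trans inf_le_left, hxW', ?_⟩
    rw [rv_rv] at hmem
    refine Submodule.span_le.2 ?_ hmem
    rintro _ ⟨l, rfl⟩
    have hl : r i l ∈ spanV (Dop_le h (f i)) R := by
      rw [hR i]
      exact Submodule.subset_span ⟨l, rfl⟩
    exact rv_mem_spanV _ _ hl

/-- Over an affine open finitely many sections have finitely generated relations. -/
theorem PC.exists_isRel (hM : PC M) (hU : IsAffineOpen U) (s : Fin n → Sec M U) :
    ∃ (m : ℕ) (r : Fin m → Fin n → Ring (𝔛.Osh h) U), IsRel s r :=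
  exists_isRel_of_locally h𝔛 hU s fun x hx => hM U n s x hx

/-- A section over an affine open which locally is a combination is a combination. -/
theorem IsRel.exists_comb {s : Fin n → Sec M U} {r : Fin m → Fin n → Ring (𝔛.Osh h) U}
    (hr : IsRel s r) (hV : IsAffineOpen V) (hVU : V ≤ U) (y : Sec M V)
    (hy : ∀ x ∈ V, ∃ (W : (𝔛.X 0).Opens) (hW : W ≤ V) (a : Fin n → Ring (𝔛.Osh h) W),
      x ∈ W ∧ comb s (hW.trans hVU) a = res M hW y) :
    ∃ a, comb s hVU a = y := by
  obtain ⟨ι, _, f, hf, hP⟩ := exists_finite_cover hV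
    (fun W => ∃ (hW : W ≤ V) (a : Fin n → Ring (𝔛.Osh h) W), comb s (hW.trans hVU) a = res M hW y)
    (fun W W' hW'W _ ⟨hW, a, ha⟩ => ⟨hW'W.trans hW, rv _ hW'W a, by
      rw [comb_rv s (hW.trans hVU) hW'W, ha, res_res]⟩)
    (fun x hx => by
      obtain ⟨W, hW, a, hxW, ha⟩ := hy x hx
      exact ⟨W, hW, hxW, hW, a, ha⟩)
  choose hW a ha using hP
  obtain ⟨b, hb⟩ := exists_glue_span h𝔛 hV f hf (fun l => rv _ hVU (r l)) a fun i j => by
    rw [spanV_rv]
    refine hr.mem_spanV h𝔛 (isAffineOpen_Dop h hV (f i * f j)) _ ?_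
    rw [← combL_apply, map_sub, combL_apply, combL_apply,
      comb_rv s ((hW i).trans hVU) (Dop_mul_left (f i) (f j)),
      comb_rv s ((hW j).trans hVU) (Dop_mul_right (f i) (f j)), ha, ha, res_res, res_res, sub_self]
  refine ⟨b, eq_of_locally fun x hx => ?_⟩
  obtain ⟨i, hi⟩ := Opens.mem_iSup.1 (hf hx)
  refine ⟨Dop h (f i), Dop_le h (f i), hi, ?_⟩
  have h1 := hb i
  rw [spanV_rv] at h1
  have h2 := comb_eq_zero_of_mem_spanV s hr.rel ((hW i).trans hVU) h1
  rw [← combL_apply, map_sub, combL_apply, combL_apply, sub_eq_zero, ha] at h2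
  rw [← h2, comb_rv s hVU (Dop_le h (f i))]

/-- Kernels of matrices of functions are finitely generated and commute with restriction. -/
theorem exists_matrix_kernel (hU : IsAffineOpen U) {N p : ℕ}
    (B : Fin N → Fin p → Ring (𝔛.Osh h) U) :
    ∃ (q : ℕ) (K : Fin q → Fin N → Ring (𝔛.Osh h) U), (∀ l, ∑ i, K l i • B i = 0) ∧
      ∀ (V : (𝔛.X 0).Opens) (hVU : V ≤ U) (a : Fin N → Ring (𝔛.Osh h) V),
        ∑ i, a i • rv _ hVU (B i) = 0 → ∀ x ∈ V,
          ∃ (W : (𝔛.X 0).Opens) (hW : W ≤ V), x ∈ W ∧ rv _ hW a ∈ spanV (hW.trans hVU) K := by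
  classical
  obtain ⟨J, hJ⟩ := exists_isAdicRing h𝔛 hU
  haveI := hJ.noetherian
  let R := Ring (𝔛.Osh h) U
  obtain ⟨q, K, hK⟩ := Submodule.fg_iff_exists_fin_generating_family.1
    (IsNoetherian.noetherian (LinearMap.ker (Fintype.linearCombination R B)))
  refine ⟨q, K, fun l => ?_, fun V hVU a ha x hx => ?_⟩
  · have h1 : K l ∈ LinearMap.ker (Fintype.linearCombination R B) := by
      rw [← hK]
      exact Submodule.subset_span ⟨l, rfl⟩
    rwa [LinearMap.mem_ker, Fintype.linearCombination_apply] at h1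
  obtain ⟨f, hfV, hxf⟩ := exists_Dop_le h hU (hVU hx) hx
  refine ⟨Dop h f, hfV, hxf, ?_⟩
  let S := Ring (𝔛.Osh h) (Dop h f)
  let φ : R →+* S := rres (𝔛.Osh h) (Dop_le h f)
  letI : Algebra R S := φ.toAlgebra
  haveI : Module.Flat R S := flat_rres_Dop h𝔛 hJ f
  let g : (Fin p → R) →ₗ[R] (Fin N → R) :=
    LinearMap.pi fun i => Fintype.linearCombination R (B i)
  let a' : Fin N → S := rv _ hfV a
  let x' : (Fin N → R) →ₗ[R] S := Fintype.linearCombination R a'
  have hxg : x' ∘ₗ g = 0 := by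
    ext j
    have hj := congrArg (rres (𝔛.Osh h) hfV) (congrFun ha j)
    rw [Finset.sum_apply, map_sum, Pi.zero_apply, map_zero] at hj
    change x' (g (Pi.single j 1)) = 0
    refine Eq.trans ?_ hj
    rw [Fintype.linearCombination_apply]
    refine Finset.sum_congr rfl fun i _ => ?_
    simp only [g, a', φ, LinearMap.pi_apply, Fintype.linearCombination_apply_single, Algebra.smul_def,
      Pi.smul_apply, map_mul, rv_apply, rres_rres, Algebra.algebraMap_self, RingHom.id_apply, map_one,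
      one_mul]
    exact mul_comm _ _
  obtain ⟨κ, b, y, hxy, hbg⟩ := Module.Flat.exists_factorization_of_comp_eq_zero_of_free hxg
  let G : Fin κ → Fin N → R := fun l i => b (Pi.single i 1) l
  have hG : ∀ l, G l ∈ Submodule.span R (Set.range K) := fun l => by
    rw [hK, LinearMap.mem_ker, Fintype.linearCombination_apply]
    funext j
    have h1 : b (g (Pi.single j 1)) l = 0 :=
      DFunLike.congr_fun (LinearMap.congr_fun hbg (Pi.single j 1)) l
    rw [pi_eq_sum_univ' (g (Pi.single j 1)), map_sum, Finsupp.finsetSum_apply] at h1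
    rw [Finset.sum_apply, Pi.zero_apply, ← h1]
    refine Finset.sum_congr rfl fun i _ => ?_
    rw [map_smul, Finsupp.smul_apply, Pi.smul_apply, smul_eq_mul, smul_eq_mul]
    simp only [g, G, LinearMap.pi_apply, Fintype.linearCombination_apply_single, one_smul]
    exact mul_comm _ _
  have e : rv _ hfV a = ∑ l, y (Finsupp.single l 1) • rv _ (Dop_le h f) (G l) := by
    funext i
    have h2 : a' i = y (b (Pi.single i 1)) := by
      rw [← LinearMap.comp_apply, ← hxy]
      simp [x', Fintype.linearCombination_apply_single]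
    change a' i = _
    rw [h2, ← Finsupp.univ_sum_single (b (Pi.single i 1)), map_sum, Finset.sum_apply]
    refine Finset.sum_congr rfl fun l _ => ?_
    rw [← Finsupp.smul_single_one, map_smul, Algebra.smul_def, Pi.smul_apply, smul_eq_mul, rv_apply]
    exact mul_comm _ _
  rw [e]
  exact Submodule.sum_mem _ fun l _ => Submodule.smul_mem _ _ (rv_mem_of_mem_span _ (hG l))

/-- Modules presented by sections near every point have finitely generated relations. -/
theorem isPC_of_isPres (hM : ∀ x, ∃ (U : (𝔛.X 0).Opens) (_ : x ∈ U) (p q : ℕ)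
    (s : Fin p → Sec M U) (r : Fin q → Fin p → Ring (𝔛.Osh h) U), IsPres M s r) : PC M := by
  intro U n t x hx
  obtain ⟨U₀, hxU₀, p, q, s, r, hp⟩ := hM x
  choose Wi hWi b hxWi hb using fun i =>
    hp.gen (U ⊓ U₀) inf_le_right (res M inf_le_left (t i)) x ⟨hx, hxU₀⟩
  obtain ⟨W, hWa, hW, hxW⟩ := exists_affine_le
    (U := (⟨⋂ i, (Wi i : Set (𝔛.X 0)), isOpen_iInter_of_finite fun i => (Wi i).2⟩ :
      (𝔛.X 0).Opens) ⊓ (U ⊓ U₀)) (x := x) ⟨Set.mem_iInter.2 hxWi, hx, hxU₀⟩
  have hWU : W ≤ U := hW.trans (inf_le_right.trans inf_le_left)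
  have hWU₀ : W ≤ U₀ := hW.trans (inf_le_right.trans inf_le_right)
  have hWi' : ∀ i, W ≤ Wi i := fun i w hw => Set.mem_iInter.1 (hW hw).1 i
  let b' : Fin n → Fin p → Ring (𝔛.Osh h) W := fun i => rv _ (hWi' i) (b i)
  have hb' : ∀ i, comb s hWU₀ (b' i) = res M hWU (t i) := fun i => by
    rw [comb_rv s ((hWi i).trans inf_le_right) (hWi' i), hb, res_res, res_res]
  let B : Fin (n + q) → Fin p → Ring (𝔛.Osh h) W := Fin.append b' fun l => rv _ hWU₀ (r l)
  obtain ⟨κ, K, hK0, hK⟩ := exists_matrix_kernel h𝔛 hWa B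
  refine ⟨W, hWU, hxW, κ, fun l i => K l (Fin.castAdd q i), fun l => ?_, fun V hV a ha y hy => ?_⟩
  · have h1 := congrArg (combL s hWU₀) (hK0 l)
    rw [map_sum, map_zero, Fin.sum_univ_add] at h1
    simp only [map_smul, combL_apply, B, Fin.append_left, Fin.append_right, hb',
      comb_rv s le_rfl hWU₀, hp.rel, map_zero, smul_zero, Finset.sum_const_zero, add_zero] at h1
    simpa [comb] using h1
  · have h2 : comb s (hV.trans hWU₀) (∑ i, a i • rv _ hV (b' i)) = 0 := by
      rw [← combL_apply, map_sum]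
      refine Eq.trans ?_ ha
      refine Finset.sum_congr rfl fun i _ => ?_
      rw [map_smul, combL_apply, comb_rv s hWU₀ hV, hb']
    obtain ⟨W', hW', hxW', hmem⟩ := (IsPres.isRel hp).exact V _ _ h2 y hy
    obtain ⟨c, hc⟩ := (Submodule.mem_span_range_iff_exists_fun _).1 hmem
    let v : Fin (n + q) → Ring (𝔛.Osh h) W' := Fin.append (rv _ hW' a) (-c)
    have hv : ∑ i, v i • rv _ (hW'.trans hV) (B i) = 0 := by
      rw [Fin.sum_univ_add]
      simp only [v, B, Fin.append_left, Fin.append_right, rv_rv, Pi.neg_apply, neg_smul,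
        Finset.sum_neg_distrib]
      rw [hc, map_sum]
      simp only [rv_smul, rv_rv, rv_apply]
      exact add_neg_cancel _
    obtain ⟨W'', hW'', hyW'', hmem'⟩ := hK W' _ v hv y hxW'
    obtain ⟨d, hd⟩ := (Submodule.mem_span_range_iff_exists_fun _).1 hmem'
    refine ⟨W'', hW''.trans hW', hyW'', (rv_mem_spanV_iff _ _ _).2 ⟨d, fun i => ?_⟩⟩
    have h3 := congrFun hd (Fin.castAdd q i)
    simp only [Finset.sum_apply, Pi.smul_apply, smul_eq_mul, rv_apply, v, Fin.append_left,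
      rres_rres] at h3
    rw [rv_apply]
    exact h3.symm

theorem isPC_of_isCohF (hM : FSch.IsCohF 𝔛 h M) : PC M :=
  have := hM
  isPC_of_isPres h𝔛 fun x => exists_isPres M x

/-- A cokernel of a map from a locally generated module to a module with finitely generated relations
has finitely generated relations. -/
theorem PC.of_exact_epi {S : ShortComplex (FSch.ModF 𝔛 h)} (hS : S.Exact) [Epi S.g] (h₁ : Gen S.X₁)
    (h₂ : PC S.X₂) : PC S.X₃ := by
  intro U n s x hx
  obtain ⟨U₁, hxU₁, hU₁⟩ := h₁ x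
  choose Wi hWi t hxWi ht using fun i =>
    locLift_of_epi S.g (res S.X₃ (inf_le_left : U ⊓ U₁ ≤ U) (s i)) x ⟨hx, hxU₁⟩
  obtain ⟨W, hWa, hW, hxW⟩ := exists_affine_le
    (U := (⟨⋂ i, (Wi i : Set (𝔛.X 0)), isOpen_iInter_of_finite fun i => (Wi i).2⟩ :
      (𝔛.X 0).Opens) ⊓ (U ⊓ U₁)) (x := x) ⟨Set.mem_iInter.2 hxWi, hx, hxU₁⟩
  have hWU : W ≤ U := hW.trans (inf_le_right.trans inf_le_left)
  have hWi' : ∀ i, W ≤ Wi i := fun i w hw => Set.mem_iInter.1 (hW hw).1 i
  have hgen : GenBy S.X₁ W := hU₁.restrict (hW.trans (inf_le_right.trans inf_le_right))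
  let t' : Fin n → Sec S.X₂ W := fun i => res S.X₂ (hWi' i) (t i)
  have ht' : ∀ i, appL S.g W (t' i) = res S.X₃ hWU (s i) := fun i => by
    rw [← res_appL, ht, res_res, res_res]
  obtain ⟨J, hJ⟩ := exists_isAdicRing h𝔛 hWa
  haveI := hJ.noetherian
  let P : ∀ k, (Fin k → Sec S.X₁ W) → Submodule (Ring (𝔛.Osh h) W) (Fin n → Ring (𝔛.Osh h) W) :=
    fun k g => Submodule.comap (combL t' le_rfl)
      (LinearMap.range (combL (fun j => appL S.f W (g j)) (le_refl W)))
  obtain ⟨_, ⟨k₀, g₀, rfl⟩, hmax⟩ :=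
    (set_has_maximal_iff_noetherian (R := Ring (𝔛.Osh h) W)
        (M := Fin n → Ring (𝔛.Osh h) W)).2 inferInstance
        {Q | ∃ (k : ℕ) (g : Fin k → Sec S.X₁ W), Q = P k g} ⟨_, 0, Fin.elim0, rfl⟩
  obtain ⟨m, r, hr⟩ := Submodule.fg_iff_exists_fin_generating_family.1
    (IsNoetherian.noetherian (P k₀ g₀))
  have hP : ∀ k g, P k g ≤ P k₀ g₀ := fun k g => by
    have hle : ∀ {k'} (g' : Fin k' → Sec S.X₁ W), (∀ j, appL S.f W (g' j) ∈ LinearMap.range
        (combL (fun j => appL S.f W (Fin.append g₀ g j)) (le_refl W))) →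
        P k' g' ≤ P _ (Fin.append g₀ g) := fun g' hg' a ⟨c, hc⟩ => by
      refine Submodule.mem_comap.2 ?_
      rw [← hc, combL_apply]
      refine Submodule.sum_mem _ fun j _ => Submodule.smul_mem _ _ ?_
      rw [res_refl]
      exact hg' j
    have h1 : P k₀ g₀ ≤ P _ (Fin.append g₀ g) := hle g₀ fun j =>
      ⟨delta (Fin.castAdd k j), by rw [combL_apply, comb_delta, res_refl, Fin.append_left]⟩
    have h2 : P k g ≤ P _ (Fin.append g₀ g) := hle g fun j =>
      ⟨delta (Fin.natAdd k₀ j), by rw [combL_apply, comb_delta, res_refl, Fin.append_right]⟩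
    exact h2.trans (eq_of_le_of_not_lt h1 fun hlt => hmax _ ⟨_, _, rfl⟩ hlt).ge
  refine ⟨W, hWU, hxW, m, r, fun l => ?_, fun V hV a ha y hy => ?_⟩
  · have h1 : r l ∈ P k₀ g₀ := by
      rw [← hr]
      exact Submodule.subset_span ⟨l, rfl⟩
    obtain ⟨c, hc⟩ := h1
    have h2 := congrArg (appL S.g W) hc
    simp only [combL_apply] at h2
    rw [appL_comb, appL_comb] at h2
    simp only [ht'] at h2
    rw [← h2]
    refine Finset.sum_eq_zero fun j _ => ?_
    simp only [res_refl, ← appL_comp, S.zero, appL_zero, smul_zero]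
  · have hker : appL S.g V (comb t' hV a) = 0 := by
      rw [appL_comb]
      simp only [ht']
      exact ha
    obtain ⟨V₁, hV₁, z, hyV₁, hz⟩ := locLift_of_exact hS hker y hy
    obtain ⟨V₂, hV₂, k, g, c, hyV₂, hc⟩ := hgen V₁ (hV₁.trans hV) z y hyV₁
    obtain ⟨q, Q, hQ⟩ := PC.exists_isRel h𝔛 h₂ hWa (Fin.append t' fun j => appL S.f W (g j))
    let v : Fin (n + k) → Ring (𝔛.Osh h) V₂ := Fin.append (rv _ (hV₂.trans hV₁) a) (-c)
    have hv : comb (Fin.append t' fun j => appL S.f W (g j)) ((hV₂.trans hV₁).trans hV) v = 0 := by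
      have h4 := congrArg (appL S.f V₂) hc
      rw [appL_comb, ← res_appL, hz, res_res, ← comb_rv] at h4
      simp only [comb, Fin.sum_univ_add, v, Fin.append_left, Fin.append_right, Pi.neg_apply,
        neg_smul, Finset.sum_neg_distrib] at h4 ⊢
      rw [h4]
      exact add_neg_cancel _
    obtain ⟨V₃, hV₃, hyV₃, hmem⟩ := hQ.exact V₂ _ v hv y hyV₂
    obtain ⟨d, hd⟩ := (Submodule.mem_span_range_iff_exists_fun _).1 hmem
    refine ⟨V₃, hV₃.trans (hV₂.trans hV₁), hyV₃, ?_⟩
    have hQP : ∀ l, (fun i => Q l (Fin.castAdd k i)) ∈ P k₀ g₀ := fun l => hP k g (by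
      refine ⟨fun j => -Q l (Fin.natAdd n j), ?_⟩
      have h5 := hQ.rel l
      simp only [comb, Fin.sum_univ_add, Fin.append_left, Fin.append_right] at h5
      simp only [combL_apply, comb, neg_smul, Finset.sum_neg_distrib]
      exact (eq_neg_of_add_eq_zero_left h5).symm)
    have e : rv _ (hV₃.trans (hV₂.trans hV₁)) a =
        ∑ l, d l • rv _ (((hV₃.trans hV₂).trans hV₁).trans hV) fun i => Q l (Fin.castAdd k i) := by
      funext i
      have h6 := congrFun hd (Fin.castAdd k i)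
      simp only [Finset.sum_apply, Pi.smul_apply, rv_apply, v, Fin.append_left, rres_rres] at h6 ⊢
      exact h6.symm
    rw [e]
    refine Submodule.sum_mem _ fun l _ => Submodule.smul_mem _ _ (rv_mem_of_mem_span _ ?_)
    rw [hr]
    exact hQP l

/-- Colimits of modules with finitely generated relations which are locally generated. -/
theorem PC.of_isColimit {I : Type u} [SmallCategory I] {K : I ⥤ FSch.ModF 𝔛 h} {c : Cocone K}
    (hc : IsColimit c) (hK : ∀ i, PC (K.obj i))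
    (hsum : Gen (∐ fun f : (Σ p : I × I, p.1 ⟶ p.2) => K.obj f.1.1)) : PC c.pt := by
  let E : (Σ p : I × I, p.1 ⟶ p.2) → FSch.ModF 𝔛 h := fun f => K.obj f.1.1
  let d : ∐ E ⟶ ∐ K.obj := Sigma.desc fun f =>
    Sigma.ι K.obj f.1.1 - K.map f.2 ≫ Sigma.ι K.obj f.1.2
  let π : ∐ K.obj ⟶ c.pt := Sigma.desc fun i => c.ι.app i
  have hd : d ≫ π = 0 := Sigma.hom_ext _ _ fun f => by
    simp [d, π, E, sub_eq_zero]
  have hcok : IsColimit (CokernelCofork.ofπ π hd) := by
    refine CokernelCofork.IsColimit.ofπ π hd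
      (fun {Z} g hg => hc.desc ⟨Z, ⟨fun i => Sigma.ι K.obj i ≫ g, fun i j f => ?_⟩⟩)
      (fun {Z} g hg => Sigma.hom_ext _ _ fun i => by simp [π])
      fun {Z} g hg m hm => hc.hom_ext fun i => by simp [← hm, π]
    have h1 := congrArg (Sigma.ι E ⟨(i, j), f⟩ ≫ ·) hg
    simp [d, E, sub_eq_zero] at h1
    simpa using h1.symm
  have hex := ShortComplex.exact_of_g_is_cokernel (ShortComplex.mk d π hd) hcok
  have : Epi π := Cofork.IsColimit.epi hcok
  exact PC.of_exact_epi h𝔛 (S := ShortComplex.mk d π hd) hex hsum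
    (PC.of_cofan (coproductIsCoproduct K.obj) hK)

end Groth.Agent.FTors52
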