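import Groth.Agent.FMod90.FreeSect
import Groth.Agent.SiteBase.ModColim

/-!
# Sections of free modules are locally finite combinations of the tautological sections
-/

set_option autoImplicit false

universe u

open CategoryTheory CategoryTheory.Limits Opposite

namespace Groth.Agent.FTors52

open FMod90

variable {C : Type u} [SmallCategory C] {J : GrothendieckTopology C} {O : Sheaf J CommRingCat.{u}}
  {I : Type u}

/-- The free presheaf of modules. -/
noncomputable abbrev freeDiag (O : Sheaf J CommRingCat.{u}) (I : Type u) :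
    Discrete I ⥤ PresheafOfModules.{u} (ModSite.ringSh O).obj :=
  (Discrete.functor fun _ : I => SheafOfModules.unit (ModSite.ringSh O)) ⋙ SheafOfModules.forget _

/-- The comparison of the free presheaf with the free sheaf. -/
noncomputable def freePre (O : Sheaf J CommRingCat.{u}) (I : Type u) :
    colimit (freeDiag O I) ⟶
      (SheafOfModules.forget _).obj (SheafOfModules.free (R := ModSite.ringSh O) I) :=
  colimit.desc (freeDiag O I)
    ((SheafOfModules.forget _).mapCocone (SheafOfModules.freeCofan (R := ModSite.ringSh O) I))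

theorem freePre_app_ι (Y : C) (k : I) :
    (freePre O I).app (op Y)
      ((colimit.ι (freeDiag O I) ⟨k⟩).app (op Y) (1 : Site.Scal O Y)) = Site.basisSec k Y :=
  congrArg (fun t => t.app (op Y) (1 : Site.Scal O Y))
    (colimit.ι_desc ((SheafOfModules.forget _).mapCocone
      (SheafOfModules.freeCofan (R := ModSite.ringSh O) I)) ⟨k⟩)

theorem freePre_mem_span (Y : C) (p : (colimit (freeDiag O I)).obj (op Y)) :
    (show ModSite.sect (SheafOfModules.free I : ModSite.Mod O) Y from (freePre O I).app (op Y) p) ∈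
      Submodule.span (Site.Scal O Y) (Set.range fun i : I => Site.basisSec (O := O) i Y) := by
  let S : Submodule (Site.Scal O Y) (ModSite.sect (SheafOfModules.free I : ModSite.Mod O) Y) :=
    Submodule.span (Site.Scal O Y) (Set.range fun i : I => Site.basisSec (O := O) i Y)
  let q : ModuleCat.of (Site.Scal O Y) ((colimit (freeDiag O I)).obj (op Y)) ⟶
      ModuleCat.of (Site.Scal O Y) (ModSite.sect (SheafOfModules.free I : ModSite.Mod O) Y ⧸ S) :=
    ModuleCat.ofHom (X := (colimit (freeDiag O I)).obj (op Y)) (S.mkQ.comp ((freePre O I).app (op Y)).hom)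
  have hq : q = 0 := by
    refine (isColimitOfPreserves (PresheafOfModules.evaluation (ModSite.ringSh O).obj (op Y))
      (colimit.isColimit (freeDiag O I))).hom_ext fun k => ?_
    obtain ⟨k⟩ := k
    refine ModuleCat.hom_ext (LinearMap.ext_ring ?_)
    change S.mkQ ((freePre O I).app (op Y) ((colimit.ι (freeDiag O I) ⟨k⟩).app (op Y) (1 : Site.Scal O Y))) = 0
    rw [Submodule.mkQ_apply, Submodule.Quotient.mk_eq_zero, freePre_app_ι]
    exact Submodule.subset_span ⟨k, rfl⟩
  exact (Submodule.Quotient.mk_eq_zero S).1 (congrArg (fun t => t.hom p) hq :)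

/-- The morphism from the associated sheaf of the free presheaf is an epimorphism. -/
theorem epi_freeSh :
    Epi (((PresheafOfModules.sheafificationAdjunction (R := ModSite.ringSh O)
      (𝟙 (ModSite.ringSh O).obj)).homEquiv _ _).symm (freePre O I)) := by
  let adj := PresheafOfModules.sheafificationAdjunction (R := ModSite.ringSh O)
    (𝟙 (ModSite.ringSh O).obj)
  refine ⟨fun a b hab => ?_⟩
  refine (SheafOfModules.isColimitFreeCofan (R := ModSite.ringSh O) I).hom_ext fun k => ?_
  obtain ⟨k⟩ := k
  let L := PresheafOfModules.sheafification (R := ModSite.ringSh O) (𝟙 (ModSite.ringSh O).obj)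
  let ψ := (adj.homEquiv _ _).symm (freePre O I)
  let c := SheafOfModules.freeCofan (R := ModSite.ringSh O) I
  have key : L.map (colimit.ι (freeDiag O I) ⟨k⟩) ≫ ψ = adj.counit.app _ ≫ c.ι.app ⟨k⟩ := by
    change _ ≫ (adj.homEquiv _ _).symm (freePre O I) = _
    rw [← Adjunction.homEquiv_naturality_left_symm, freePre]
    erw [colimit.ι_desc]
    rw [Adjunction.homEquiv_counit]
    exact adj.counit.naturality (c.ι.app ⟨k⟩)
  have h1 : L.map (colimit.ι (freeDiag O I) ⟨k⟩) ≫ ψ ≫ a =
      L.map (colimit.ι (freeDiag O I) ⟨k⟩) ≫ ψ ≫ b := congrArg (_ ≫ ·) hab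
  rw [← Category.assoc, ← Category.assoc, key] at h1
  have h2 : adj.counit.app _ ≫ c.ι.app ⟨k⟩ ≫ a = adj.counit.app _ ≫ c.ι.app ⟨k⟩ ≫ b :=
    (Category.assoc _ _ _).symm.trans (h1.trans (Category.assoc _ _ _))
  exact (cancel_epi (adj.counit.app _)).1 h2

/-- Locally a section of a free module is a finite combination of the tautological sections. -/
theorem exists_cover_span {Y : C} (z : ModSite.sect (SheafOfModules.free I : ModSite.Mod O) Y) :
    ∃ S ∈ J Y, ∀ ⦃Y' : C⦄ (g : Y' ⟶ Y), S g →
      Site.mapS (SheafOfModules.free I : ModSite.Mod O) g z ∈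
        Submodule.span (Site.Scal O Y') (Set.range fun i : I => Site.basisSec (O := O) i Y') := by
  let adj := PresheafOfModules.sheafificationAdjunction (R := ModSite.ringSh O)
    (𝟙 (ModSite.ringSh O).obj)
  let ψ := (adj.homEquiv _ _).symm (freePre O I)
  haveI : Epi ψ := epi_freeSh
  obtain ⟨S, hS, hlift⟩ := Site.exists_cover_lift ψ z
  choose w hw using hlift
  let P := colimit (freeDiag O I)
  let η := CategoryTheory.toSheafify J P.presheaf
  let R : ∀ ⦃Y' : C⦄ ⦃g : Y' ⟶ Y⦄, S g → Sieve Y' := fun Y' g hg =>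
    Presheaf.imageSieve η (w g hg)
  refine ⟨Sieve.bind S.arrows R, J.bind_covering hS fun Y' g hg =>
    Presheaf.imageSieve_mem J η _, ?_⟩
  rintro Y'' _ ⟨Y', g', g, hg, hR, rfl⟩
  obtain ⟨p, hp⟩ := hR
  suffices e : Site.mapS (SheafOfModules.free I : ModSite.Mod O) (g' ≫ g) z =
      (freePre O I).app (op Y'') p by
    rw [e]
    exact freePre_mem_span Y'' p
  rw [← Site.mapS_comp, ← hw g hg, Site.map_app]
  have h3 : freePre O I = adj.unit.app P ≫
      (SheafOfModules.forget _ ⋙ PresheafOfModules.restrictScalars (𝟙 _)).map ψ :=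
    ((adj.homEquiv _ _).apply_symm_apply (freePre O I)).symm.trans
      (Adjunction.homEquiv_unit (adj := adj) (f := ψ))
  rw [h3]
  exact congrArg (Site.app ψ Y'') hp.symm

end Groth.Agent.FTors52
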