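import Groth.Agent.FTors52.Rel
import Groth.Agent.FTors52.FreeSupp

/-!
# Combinations of sections of modules over the localised site of an open, and coefficients
-/

set_option autoImplicit false

universe u

open CategoryTheory CategoryTheory.Limits Opposite TopologicalSpace

namespace Groth.Agent.FTors52

open FMod90

variable {T : TopCat.{u}} {O : Sheaf (Opens.grothendieckTopology T) CommRingCat.{u}}
  {M : ModSite.Mod O} {U V W X : Opens T} {n k : ℕ} {I : Type u}

variable (O) in
/-- The free module over `U`. -/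
noncomputable abbrev freeU (U : Opens T) (I : Type u) : ModSite.Mod (O.over U) :=
  SheafOfModules.free I

/-- An open inside `U` as an object over `U`. -/
abbrev ov (h : V ≤ U) : Over U := Over.mk (homOfLE h)

/-- The inclusion of opens inside `U`. -/
abbrev ovHom (hW : W ≤ V) (h : V ≤ U) : ov (hW.trans h) ⟶ ov h := Over.homMk (homOfLE hW)

/-- A function on an open inside `U` as a scalar of the localised site. -/
abbrev sc (h : V ≤ U) (a : Ring O V) : Site.Scal (O.over U) (ov h) := a

variable {G G' : ModSite.Mod (O.over U)}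

/-- Combinations of sections over an open inside `U`, on a smaller open. -/
noncomputable def lcomb {hW : W ≤ U} (b : Fin n → ModSite.sect G (ov hW)) (h : V ≤ W)
    (a : Fin n → Ring O V) : ModSite.sect G (ov (h.trans hW)) :=
  ∑ i, sc (h.trans hW) (a i) • Site.mapS G (ovHom h hW) (b i)

/-- Morphisms commute with combinations. -/
theorem app_lcomb (φ : G ⟶ G') {hW : W ≤ U} (b : Fin n → ModSite.sect G (ov hW)) (h : V ≤ W)
    (a : Fin n → Ring O V) : Site.app φ (ov (h.trans hW)) (lcomb b h a) =
      lcomb (fun i => Site.app φ (ov hW) (b i)) h a := by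
  refine (map_sum (Site.app φ (ov (h.trans hW))) _ _).trans (Finset.sum_congr rfl fun i _ => ?_)
  rw [map_smul, Site.map_app]

/-- Combinations of restrictions to the localised site are combinations. -/
theorem lcomb_over {hW : W ≤ U} (b : Fin n → ModSite.sect (O := O.over U) (M.over U) (ov hW)) (h : V ≤ W)
    (a : Fin n → Ring O V) :
    (lcomb b h a : Sec M V) = comb (fun i => (show Sec M W from b i)) h a :=
  rfl

theorem mapS_lcomb {hW : W ≤ U} (b : Fin n → ModSite.sect G (ov hW)) (h : V ≤ W) (h' : X ≤ V)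
    (a : Fin n → Ring O V) :
    Site.mapS G (ovHom h' (h.trans hW)) (lcomb b h a) = lcomb b (h'.trans h) (rv O h' a) := by
  refine (map_sum (Site.mapS G (ovHom h' (h.trans hW))) _ _).trans
    (Finset.sum_congr rfl fun i _ => ?_)
  rw [Site.map_smul_sect, Site.mapS_comp]
  rfl

theorem lcomb_res {hW : W ≤ U} (b : Fin n → ModSite.sect G (ov hW)) (h : V ≤ W) (h' : X ≤ V)
    (a : Fin n → Ring O X) :
    lcomb (fun i => Site.mapS G (ovHom h hW) (b i)) h' a = lcomb b (h'.trans h) a := by
  refine Finset.sum_congr rfl fun i _ => ?_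
  rw [Site.mapS_comp]
  rfl

theorem lcomb_zero {hW : W ≤ U} (b : Fin n → ModSite.sect G (ov hW)) (h : V ≤ W) :
    lcomb b h (0 : Fin n → Ring O V) = 0 :=
  Finset.sum_eq_zero fun _ _ => zero_smul (Site.Scal (O.over U) _) _

/-- Combinations of combinations. -/
theorem lcomb_trans {hW : W ≤ U} (b : Fin n → ModSite.sect G (ov hW)) (h : V ≤ W)
    (d : Fin k → Fin n → Ring O W) (c : Fin k → Ring O V) :
    lcomb b h (∑ l, c l • rv O h (d l)) = lcomb (fun l => lcomb b le_rfl (d l)) h c := by
  have e : ∀ l, Site.mapS G (ovHom h hW) (lcomb b le_rfl (d l)) = lcomb b h (rv O h (d l)) :=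
    fun l => mapS_lcomb b le_rfl h (d l)
  rw [show lcomb (fun l => lcomb b le_rfl (d l)) h c =
    ∑ l, sc (h.trans hW) (c l) • lcomb b h (rv O h (d l)) from
      Finset.sum_congr rfl fun l _ => congrArg (sc (h.trans hW) (c l) • ·) (e l)]
  simp only [lcomb, Finset.smul_sum, smul_smul]
  rw [Finset.sum_comm]
  refine Finset.sum_congr rfl fun i _ => ?_
  rw [← Finset.sum_smul]
  congr 1
  exact Finset.sum_apply i Finset.univ fun l => c l • rv O h (d l)

/-! ### Free modules -/

/-- Tautological sections over an open inside `U`. -/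
noncomputable def bas (g : Fin k → I) (h : V ≤ U) : Fin k → ModSite.sect (freeU O U I) (ov h) :=
  fun i => Site.basisSec (O := O.over U) (g i) (ov h)

theorem mapS_bas (g : Fin k → I) (h : V ≤ U) (hW : W ≤ V) (i : Fin k) :
    Site.mapS (freeU O U I) (ovHom hW h) (bas g h i) = bas g (hW.trans h) i :=
  Site.map_basisSec (g i) (ovHom hW h)

/-- Finite sums in the span of the tautological sections. -/
theorem exists_lcomb_of_mem_span (h : V ≤ U) {z : ModSite.sect (freeU O U I) (ov h)}
    (hz : z ∈ Submodule.span (Site.Scal (O.over U) (ov h))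
      (Set.range fun i : I => Site.basisSec (O := O.over U) i (ov h))) :
    ∃ (k : ℕ) (g : Fin k → I) (a : Fin k → Ring O V), lcomb (bas g h) le_rfl a = z := by
  obtain ⟨c, hc⟩ := Finsupp.mem_span_range_iff_exists_finsupp.1 hz
  let e := c.support.equivFin
  refine ⟨_, fun i => (e.symm i).1, fun i => c (e.symm i).1, ?_⟩
  rw [← hc]
  refine Eq.trans ?_ (Finset.sum_coe_sort c.support
    (fun i => c i • Site.basisSec (O := O.over U) i (ov h)))
  refine Eq.trans ?_ (e.symm.sum_comp fun i : c.support =>
    c i.1 • Site.basisSec (O := O.over U) i.1 (ov h))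
  refine Finset.sum_congr rfl fun i _ => ?_
  rw [show Site.mapS (freeU O U I) (ovHom le_rfl h) (bas (fun i => (e.symm i).1) h i) =
    bas (fun i => (e.symm i).1) h i from mapS_bas _ h le_rfl i]
  rfl

/-- Sections of a free module over `U` are locally finite combinations. -/
theorem exists_lcomb_local (h : V ≤ U) (z : ModSite.sect (freeU O U I) (ov h)) {x : T} (hx : x ∈ V) :
    ∃ (W : Opens T) (hW : W ≤ V) (k : ℕ) (g : Fin k → I) (a : Fin k → Ring O W),
      x ∈ W ∧ lcomb (bas g h) hW a = Site.mapS (freeU O U I) (ovHom hW h) z := by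
  obtain ⟨S, hS, hspan⟩ := exists_cover_span (O := O.over U) z
  obtain ⟨W, hW, hxW, hSW⟩ := exists_mem_of_cover hS hx
  obtain ⟨k, g, a, ha⟩ := exists_lcomb_of_mem_span (hW.trans h) (hspan _ hSW)
  refine ⟨W, hW, k, g, a, hxW, Eq.trans ?_ ha⟩
  refine Eq.trans ?_ (congrArg (fun b => lcomb b le_rfl a) (funext fun i => mapS_bas g h hW i))
  exact (lcomb_res (bas g h) hW le_rfl a).symm

/-- The coefficients of a section of a free module. -/
noncomputable def cfAll (h : V ≤ U) : ModSite.sect (freeU O U I) (ov h) →+ (I → Ring O V) where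
  toFun z j := Site.app (Site.proj (O := O.over U) j) (ov h) z
  map_zero' := funext fun j => map_zero (Site.app (Site.proj (O := O.over U) j) (ov h))
  map_add' a b := funext fun j => map_add (Site.app (Site.proj (O := O.over U) j) (ov h)) a b

theorem cfAll_smul (h : V ≤ U) (c : Ring O V) (z : ModSite.sect (freeU O U I) (ov h)) :
    cfAll h (sc h c • z) = c • cfAll h z :=
  funext fun j => map_smul (Site.app (Site.proj (O := O.over U) j) (ov h)) (sc h c) z

theorem cfAll_mapS (h : V ≤ U) (hW : W ≤ V) (z : ModSite.sect (freeU O U I) (ov h)) (j : I) :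
    cfAll (hW.trans h) (Site.mapS (freeU O U I) (ovHom hW h) z) j = rres O hW (cfAll h z j) :=
  (Site.map_app (Site.proj (O := O.over U) j) (ovHom hW h) z).symm

theorem cfAll_lcomb {hW : W ≤ U} (b : Fin n → ModSite.sect (freeU O U I) (ov hW)) (h : V ≤ W)
    (a : Fin n → Ring O V) (j : I) :
    cfAll (h.trans hW) (lcomb b h a) j = ∑ i, a i * rres O h (cfAll hW (b i) j) := by
  refine (congrFun (map_sum (cfAll (O := O) (h.trans hW)) _ _) j).trans
    ((Finset.sum_apply _ _ _).trans (Finset.sum_congr rfl fun i _ => ?_))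
  refine (congrFun (cfAll_smul (h.trans hW) (a i) _) j).trans ?_
  exact congrArg (a i * ·) (cfAll_mapS hW h (b i) j)

theorem cfAll_bas [DecidableEq I] (g : Fin k → I) (h : V ≤ U) (i : Fin k) (j : I) :
    cfAll h (bas g h i) j = if g i = j then (1 : Ring O V) else 0 := by
  have h1 := congrArg (fun f => Site.app f (ov h) (1 : Site.Scal (O.over U) (ov h)))
    (Site.ιFree_proj (O := O.over U) (g i) j)
  simp only [Site.app_comp, Site.app_ιFree, one_smul] at h1
  refine h1.trans ?_
  by_cases h' : g i = j <;> simp only [h', if_true, if_false] <;> rfl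

theorem cfAll_lcomb_bas [DecidableEq I] (g : Fin k → I) (hW : W ≤ U) (h : V ≤ W)
    (a : Fin k → Ring O V) (j : I) :
    cfAll (h.trans hW) (lcomb (bas g hW) h a) j = ∑ i, if g i = j then a i else 0 := by
  rw [cfAll_lcomb]
  refine Finset.sum_congr rfl fun i _ => ?_
  rw [cfAll_bas]
  split_ifs <;> simp

theorem lcomb_bas_eq_zero {g : Fin k → I} {hW : W ≤ U} {h : V ≤ W} {a : Fin k → Ring O V}
    (ha : cfAll (h.trans hW) (lcomb (bas g hW) h a) = 0) : lcomb (bas g hW) h a = 0 := by
  classical
  rw [lcomb, ← Finset.sum_fiberwise_of_maps_to (g := g) (t := Finset.univ.image g)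
    fun i _ => Finset.mem_image_of_mem g (Finset.mem_univ i)]
  refine Finset.sum_eq_zero fun j _ => ?_
  rw [Finset.sum_congr rfl fun i hi =>
    show sc (h.trans hW) (a i) • Site.mapS (freeU O U I) (ovHom h hW) (bas g hW i) =
      sc (h.trans hW) (a i) • Site.basisSec (O := O.over U) j (ov (h.trans hW)) by
        rw [mapS_bas, bas, (Finset.mem_filter.1 hi).2], ← Finset.sum_smul, Finset.sum_filter]
  have h1 := congrFun ha j
  rw [cfAll_lcomb_bas, Pi.zero_apply] at h1
  exact (congrArg (· • Site.basisSec (O := O.over U) j (ov (h.trans hW)))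
    (show (∑ i, if g i = j then sc (h.trans hW) (a i) else 0) = 0 from h1)).trans (zero_smul _ _)

/-- A section with vanishing coefficients vanishes locally. -/
theorem mapS_eq_zero_of_cfAll (h : V ≤ U) {z : ModSite.sect (freeU O U I) (ov h)}
    (hz : cfAll h z = 0) {x : T} (hx : x ∈ V) :
    ∃ (W : Opens T) (hW : W ≤ V), x ∈ W ∧ Site.mapS (freeU O U I) (ovHom hW h) z = 0 := by
  obtain ⟨W, hW, k, g, a, hxW, ha⟩ := exists_lcomb_local h z hx
  refine ⟨W, hW, hxW, ?_⟩
  rw [← ha]
  refine lcomb_bas_eq_zero (funext fun j => ?_)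
  rw [ha, cfAll_mapS, hz, Pi.zero_apply, map_zero, Pi.zero_apply]

/-- A section of a free module over a quasi-compact open has finite support. -/
theorem exists_support (h : V ≤ U) (hV : IsCompact (V : Set T))
    (z : ModSite.sect (freeU O U I) (ov h)) : ∃ F : Finset I, ∀ j ∉ F, cfAll h z j = 0 := by
  classical
  choose W hW k g a hxW ha using fun x : V => exists_lcomb_local h z x.2
  obtain ⟨t, ht⟩ := hV.elim_finite_subcover (fun x : V => (W x : Set T)) (fun x => (W x).2)
    fun x hx => Set.mem_iUnion.2 ⟨⟨x, hx⟩, hxW ⟨x, hx⟩⟩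
  refine ⟨t.biUnion fun x => Finset.univ.image (g x), fun j hj =>
    eq_zero_of_locally (M := ModSite.unit O) fun x hx => ?_⟩
  obtain ⟨x', hx', hxx'⟩ := Set.mem_iUnion₂.1 (ht hx)
  refine ⟨W x', hW x', hxx', ?_⟩
  have h1 : rres O (hW x') (cfAll h z j) = 0 := by
    rw [← cfAll_mapS, ← ha x', cfAll_lcomb_bas]
    exact Finset.sum_eq_zero fun i _ => if_neg fun e => hj (Finset.mem_biUnion.2
      ⟨x', hx', Finset.mem_image.2 ⟨i, Finset.mem_univ i, e⟩⟩)
  exact h1

/-- The values of a morphism out of a free module over `U` on combinations. -/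
theorem app_lcomb_bas (π : freeU O U I ⟶ M.over U) (g : Fin k → I) (hW : W ≤ U) (h : V ≤ W)
    (a : Fin k → Ring O V) :
    (Site.app π (ov (h.trans hW)) (lcomb (bas g hW) h a) : Sec M V) =
      comb (fun i => ((M.over U).freeHomEquiv π (g i)).val (op (Over.mk (𝟙 U)))) (h.trans hW) a := by
  rw [app_lcomb]
  refine (lcomb_over _ h a).trans (Eq.trans ?_ (comb_res _ hW h a))
  refine congrArg (fun b => comb b h a) (funext fun i => ?_)
  exact (Site.app_basisSec π (g i) (ov hW)).trans (over_sections_val _ (ov hW))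

/-- The section over the localised site given by a section over its final object. -/
noncomputable def topSec (G : ModSite.Mod (O.over U)) (z : ModSite.sect G (Over.mk (𝟙 U))) :
    G.sections :=
  PresheafOfModules.sectionsMk
    (fun Y => Site.mapS G (Over.homMk Y.unop.hom : Y.unop ⟶ Over.mk (𝟙 U)) z)
    fun Y Y' f => by
      refine (Site.mapS_comp _ _ z).trans ?_
      congr 2

end Groth.Agent.FTors52
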