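import Groth.Agent.FTors52.Coherent
import Mathlib.CategoryTheory.ObjectProperty.Ind
import Mathlib.CategoryTheory.Limits.Presentation

/-!
# Filtered colimits of coherent modules on a locally Noetherian formal scheme

A module is a filtered colimit of coherent modules exactly when finite families of its sections
locally have finitely generated relations and every section locally comes from a coherent module;
it is then the directed union of its coherent submodules.
-/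

set_option autoImplicit false

universe u

open CategoryTheory CategoryTheory.Limits AlgebraicGeometry Opposite TopologicalSpace

namespace Groth.Agent.FTors52

open FMod90

section general

variable {T : TopCat.{u}} {O : Sheaf (Opens.grothendieckTopology T) CommRingCat.{u}}
  {M N : ModSite.Mod O} {U V W : Opens T}

instance : Preorder (SubMod M) where
  le L L' := ∀ U, L.mem U ≤ L'.mem U
  le_refl L U := le_refl (L.mem U)
  le_trans _ _ _ h₁ h₂ U := le_trans (h₁ U) (h₂ U)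

theorem SubMod.le_iff {L L' : SubMod M} : L ≤ L' ↔ ∀ U, L.mem U ≤ L'.mem U := Iff.rfl

/-- The inclusion of a smaller submodule. -/
noncomputable def SubMod.incl {L L' : SubMod M} (hle : L ≤ L') : L.toMod ⟶ L'.toMod :=
  L'.corestrict L.ι fun U s => SubMod.le_iff.1 hle U s.2

@[simp]
theorem SubMod.incl_ι {L L' : SubMod M} (hle : L ≤ L') : SubMod.incl hle ≫ L'.ι = L.ι :=
  SubMod.corestrict_ι _ _ _

theorem GenBy.of_isColimit {J : Type*} [Category J] {K : J ⥤ ModSite.Mod O} {c : Cocone K}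
    (hc : IsColimit c) (hK : ∀ j, GenBy (K.obj j) U) : GenBy c.pt U := fun V hV y x hx => by
  obtain ⟨W, hW, k, σ, z, hxW, hz⟩ := exists_sum_of_isColimit hc y hx
  choose Wt hWt n g a hxWt ha using fun t => hK (σ t) W (hW.trans hV) (z t) x hxW
  let W' : Opens T := ⟨⋂ t, (Wt t : Set T), isOpen_iInter_of_finite fun t => (Wt t).2⟩ ⊓ W
  have hW't : ∀ t, W' ≤ Wt t := fun t w hw => Set.mem_iInter.1 hw.1 t
  have hW'W : W' ≤ W := inf_le_right
  have hmem : res c.pt (hW'W.trans hW) y ∈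
      Submodule.span (Ring O W') (Set.range (res c.pt ((hW'W.trans hW).trans hV))) := by
    rw [← res_res hW hW'W, hz, map_sum]
    refine Submodule.sum_mem _ fun t _ => ?_
    rw [res_appL, ← res_res (hWt t) (hW't t), ← ha,
      ← comb_rv (g t) ((hWt t).trans (hW.trans hV)) (hW't t), appL_comb]
    exact Submodule.sum_mem _ fun i _ => Submodule.smul_mem _ _ (Submodule.subset_span ⟨_, rfl⟩)
  obtain ⟨m, f, gs, hs⟩ := Submodule.mem_span_set'.1 hmem
  choose g' hg' using fun i => (gs i).2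
  refine ⟨W', hW'W.trans hW, m, g', f, ⟨Set.mem_iInter.2 hxWt, hxW⟩, ?_⟩
  rw [← hs]
  exact Finset.sum_congr rfl fun i _ => by rw [hg' i]

end general

variable {𝔛 : FSch.Sys.{u}} {h : 𝔛.IsFormal} {U : (𝔛.X 0).Opens} {M N : FSch.ModF 𝔛 h}

/-- Every section locally comes from a coherent module. -/
def GenC (M : FSch.ModF 𝔛 h) : Prop :=
  ∀ (U : (𝔛.X 0).Opens) (y : Sec M U), ∀ x ∈ U, ∃ (C : FSch.ModF 𝔛 h)
    (_ : FSch.IsCohF 𝔛 h C) (φ : C ⟶ M) (W : (𝔛.X 0).Opens) (hW : W ≤ U) (z : Sec C W),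
    x ∈ W ∧ appL φ W z = res M hW y

theorem GenC.of_isCohF (hM : FSch.IsCohF 𝔛 h M) : GenC M := fun U y _ hx =>
  ⟨M, hM, 𝟙 M, U, le_rfl, y, hx, by rw [res_refl]; rfl⟩

theorem GenC.of_epi (hM : GenC M) (φ : M ⟶ N) [Epi φ] : GenC N := fun U y x hx => by
  obtain ⟨W, hW, t, hxW, ht⟩ := locLift_of_epi φ y x hx
  obtain ⟨C, hC, ψ, W', hW', z, hxW', hz⟩ := hM W t x hxW
  refine ⟨C, hC, ψ ≫ φ, W', hW'.trans hW, z, hxW', ?_⟩
  rw [appL_comp, hz, ← res_appL, ht, res_res]

variable (h𝔛 : 𝔛.IsLocNoethFormal)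

include h𝔛

/-- Finitely many maps from coherent modules factor through one. -/
theorem exists_coh_sum {ι : Type u} [Finite ι] (C : ι → FSch.ModF 𝔛 h)
    (hC : ∀ i, FSch.IsCohF 𝔛 h (C i)) (φ : ∀ i, C i ⟶ M) :
    ∃ (P : FSch.ModF 𝔛 h) (_ : FSch.IsCohF 𝔛 h P) (ψ : P ⟶ M), ∀ i, ∃ j : C i ⟶ P, j ≫ ψ = φ i :=
  ⟨∐ C, isCohF_cofan h𝔛 (coproductIsCoproduct C) hC, Sigma.desc φ,
    fun i => ⟨Sigma.ι C i, Sigma.ι_desc φ i⟩⟩

/-- Modules locally coming from coherent modules are generated over affine opens. -/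
theorem GenC.genBy (hM : GenC M) (hU : IsAffineOpen U) : GenBy M U := fun V hV y x hx => by
  obtain ⟨C, hC, φ, W, hW, z, hxW, hz⟩ := hM V y x hx
  obtain ⟨n, s, hs⟩ := exists_isGen_affine h𝔛 hC hU
  obtain ⟨W', hW', a, hxW', ha⟩ := hs W (hW.trans hV) z x hxW
  refine ⟨W', hW'.trans hW, n, fun i => appL φ U (s i), a, hxW', ?_⟩
  rw [← appL_comb, ha, ← res_appL, hz, res_res]

theorem GenC.gen (hM : GenC M) : Gen M := fun x => by
  obtain ⟨U, hU, -, hxU⟩ := exists_affine_le (U := (⊤ : (𝔛.X 0).Opens)) (x := x) trivial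
  exact ⟨U, hxU, hM.genBy h𝔛 hU⟩

theorem GenC.of_isColimit {J : Type*} [Category J] {K : J ⥤ FSch.ModF 𝔛 h} {c : Cocone K}
    (hc : IsColimit c) (hK : ∀ j, GenC (K.obj j)) : GenC c.pt := fun U y x hx => by
  obtain ⟨W, hW, k, σ, z, hxW, hz⟩ := exists_sum_of_isColimit hc y hx
  choose C hC φ Wt hWt zt hxWt hzt using fun t => hK (σ t) W (z t) x hxW
  obtain ⟨P, hP, ψ, hψ⟩ := exists_coh_sum h𝔛 (ι := ULift.{u} (Fin k)) (fun t => C t.down)
    (fun t => hC t.down) fun t => φ t.down ≫ c.ι.app (σ t.down)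
  choose j hj using fun t : Fin k => hψ ⟨t⟩
  let W' : (𝔛.X 0).Opens :=
    ⟨⋂ t, (Wt t : Set (𝔛.X 0)), isOpen_iInter_of_finite fun t => (Wt t).2⟩ ⊓ W
  have hW't : ∀ t, W' ≤ Wt t := fun t w hw => Set.mem_iInter.1 hw.1 t
  refine ⟨P, hP, ψ, W', inf_le_right.trans hW, ∑ t, appL (j t) W' (res (C t) (hW't t) (zt t)),
    ⟨Set.mem_iInter.2 hxWt, hxW⟩, ?_⟩
  rw [map_sum, ← res_res hW (inf_le_right : W' ≤ W), hz, map_sum]
  refine Finset.sum_congr rfl fun t _ => ?_
  rw [← appL_comp, hj, appL_comp, ← res_appL, hzt, res_res, res_appL]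

theorem GenC.kernel (hM : GenC M) (hN : PC N) (φ : M ⟶ N) : GenC (kernel φ) := fun U y x hx => by
  obtain ⟨C, hC, ψ, W, hW, z, hxW, hz⟩ := hM U (appL (kernel.ι φ) U y) x hx
  have h0 : appL (ψ ≫ φ) W z = 0 := by
    rw [appL_comp, hz, ← res_appL, appL_kernel_condition, map_zero]
  obtain ⟨t, ht⟩ := exists_kernel_lift (ψ ≫ φ) z h0
  refine ⟨_, isCohF_kernel h𝔛 (ψ ≫ φ) hC hN,
    kernel.lift φ (kernel.ι (ψ ≫ φ) ≫ ψ) (by rw [Category.assoc, kernel.condition]),
    W, hW, t, hxW, injective_of_mono (kernel.ι φ) W ?_⟩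
  rw [← appL_comp, kernel.lift_ι, appL_comp, ht, hz, res_appL]

theorem PC.cokernel (hN : PC N) (hM : Gen M) (φ : M ⟶ N) : PC (cokernel φ) :=
  PC.of_exact_epi h𝔛 (S := ShortComplex.mk φ (cokernel.π φ) (cokernel.condition φ))
    (ShortComplex.exact_of_g_is_cokernel _ (cokernelIsCokernel φ)) hM hN

/-- Colimits of modules with both properties have both. -/
theorem pc_genC_of_isColimit {J : Type u} [SmallCategory J] {K : J ⥤ FSch.ModF 𝔛 h} {c : Cocone K}
    (hc : IsColimit c) (hK : ∀ j, PC (K.obj j)) (hK' : ∀ j, GenC (K.obj j)) :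
    PC c.pt ∧ GenC c.pt := by
  refine ⟨PC.of_isColimit h𝔛 hc hK (GenC.gen h𝔛 ?_), GenC.of_isColimit h𝔛 hc hK'⟩
  exact GenC.of_isColimit h𝔛
    (coproductIsCoproduct fun f : (Σ p : J × J, p.1 ⟶ p.2) => K.obj f.1.1)
    fun f => hK' f.as.1.1

theorem pc_genC_of_ind
    (hM : (ObjectProperty.ind.{u} fun 𝔊 : FSch.ModF 𝔛 h => FSch.IsCohF 𝔛 h 𝔊) M) :
    PC M ∧ GenC M := by
  obtain ⟨J, _, _, pres, hP⟩ := hM
  exact pc_genC_of_isColimit h𝔛 pres.isColimit (fun j => isPC_of_isCohF h𝔛 (hP j))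
    fun j => GenC.of_isCohF (hP j)

/-- A module with both properties is the directed union of its coherent submodules. -/
theorem exists_presentation_of_pc_genC (hM : PC M) (hgen : GenC M) :
    ∃ (J : Type u) (_ : SmallCategory J) (_ : IsFiltered J) (pres : ColimitPresentation J M),
      (∀ j : J, FSch.IsCohF 𝔛 h (pres.diag.obj j)) ∧ ∀ j : J, Mono (pres.ι.app j) := by
  classical
  let J := {L : SubMod M // FSch.IsCohF 𝔛 h L.toMod}
  have key : ∀ {k : ℕ} (L : Fin k → J), ∃ L' : J, ∀ t, L t ≤ L' := fun {k} L => by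
    obtain ⟨P, hP, ψ, hψ⟩ := exists_coh_sum h𝔛 (ι := ULift.{u} (Fin k)) (fun t => (L t.down).1.toMod)
      (fun t => (L t.down).2) fun t => (L t.down).1.ι
    refine ⟨⟨imSub ψ, isCohF_imSub h𝔛 ψ hP hM⟩, fun t V s hs => ?_⟩
    obtain ⟨j, hj⟩ := hψ ⟨t⟩
    refine locLift_of_mem ⟨appL j V ⟨s, hs⟩, ?_⟩
    rw [← appL_comp, hj]
    rfl
  have : Nonempty J := ⟨(key Fin.elim0).choose⟩
  have : IsDirectedOrder J := ⟨fun a b => by
    obtain ⟨c, hc⟩ := key ![a, b]
    exact ⟨c, hc 0, hc 1⟩⟩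
  let D : J ⥤ FSch.ModF 𝔛 h :=
    { obj := fun L => L.1.toMod
      map := fun f => SubMod.incl (L := Subtype.val _) (L' := Subtype.val _) f.le
      map_id := fun _ => hom_ext fun _ _ => rfl
      map_comp := fun _ _ => hom_ext fun _ _ => rfl }
  let c : Cocone D :=
    { pt := M
      ι :=
        { app := fun L => L.1.ι
          naturality := fun _ _ _ => hom_ext fun _ _ => rfl } }
  let d : colimit D ⟶ M := colimit.desc D c
  have hd : ∀ (L : J) (V : (𝔛.X 0).Opens) (z : Sec L.1.toMod V),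
      appL d V (appL (colimit.ι D L) V z) = appL L.1.ι V z := fun L V z => by
    rw [← appL_comp]
    exact congrArg (fun f => appL f V z) (colimit.ι_desc c L)
  have : Epi d := epi_of_locLift d fun U y x hx => by
    obtain ⟨C, hC, φ, W, hW, z, hxW, hz⟩ := hgen U y x hx
    refine ⟨W, hW, appL (colimit.ι D ⟨imSub φ, isCohF_imSub h𝔛 φ hC hM⟩) W (appL (imMap φ) W z),
      hxW, ?_⟩
    rw [hd, ← hz]
    rfl
  have : Mono d := mono_of_injective d fun U => (injective_iff_map_eq_zero _).2 fun w hw =>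
    eq_zero_of_locally fun x hx => by
      obtain ⟨W, hW, k, σ, z, hxW, hz⟩ := exists_sum_of_isColimit (colimit.isColimit D) w hx
      obtain ⟨L, hL⟩ := key σ
      refine ⟨W, hW, hxW, ?_⟩
      let z' : Sec L.1.toMod W := ∑ t, appL (D.map (homOfLE (hL t))) W (z t)
      have h1 : res (colimit D) hW w = appL (colimit.ι D L) W z' := by
        refine hz.trans ?_
        rw [map_sum]
        refine Finset.sum_congr rfl fun t _ => ?_
        rw [← appL_comp, colimit.w]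
        rfl
      have h2 : appL L.1.ι W z' = 0 := by
        rw [← hd, ← h1, ← res_appL, hw, map_zero]
      rw [h1, show z' = 0 from injective_of_mono L.1.ι W (h2.trans (map_zero _).symm), map_zero]
  have : IsIso d := isIso_of_mono_of_epi d
  exact ⟨J, inferInstance, inferInstance,
    { diag := D
      ι := c.ι
      isColimit := IsColimit.ofPointIso (i := this) (colimit.isColimit D) },
    fun L => L.2, fun L => L.1.mono_ι⟩

theorem ind_of_pc_genC (hM : PC M) (hgen : GenC M) :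
    (ObjectProperty.ind.{u} fun 𝔊 : FSch.ModF 𝔛 h => FSch.IsCohF 𝔛 h 𝔊) M := by
  obtain ⟨J, i₁, i₂, pres, hP, -⟩ := exists_presentation_of_pc_genC h𝔛 hM hgen
  exact ⟨J, i₁, i₂, pres, hP⟩

theorem ind_iff : (ObjectProperty.ind.{u} fun 𝔊 : FSch.ModF 𝔛 h => FSch.IsCohF 𝔛 h 𝔊) M ↔
    PC M ∧ GenC M :=
  ⟨pc_genC_of_ind h𝔛, fun hM => ind_of_pc_genC h𝔛 hM.1 hM.2⟩

end Groth.Agent.FTors52
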