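import Groth.Agent.FTors52.IndCoh
import Mathlib.AlgebraicGeometry.Noetherian

/-!
# Extensions of filtered colimits of coherent modules

On a Noetherian formal scheme an extension of filtered colimits of coherent modules is one.
-/

set_option autoImplicit false

universe u

open CategoryTheory CategoryTheory.Limits AlgebraicGeometry Opposite TopologicalSpace

namespace Groth.Agent.FTors52

open FMod90

section general

variable {T : TopCat.{u}} {O : Sheaf (Opens.grothendieckTopology T) CommRingCat.{u}}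
  {M : ModSite.Mod O} {U V W : Opens T} {n k : ℕ}

theorem GenIn.smul {g : Fin k → Sec M U} {h : V ≤ U} {y : Sec M V} (hy : GenIn g h y) (c : Ring O V) :
    GenIn g h (c • y) := fun x hx => by
  obtain ⟨W, hW, a, hxW, ha⟩ := hy x hx
  refine ⟨W, hW, fun i => rres O hW c * a i, hxW, ?_⟩
  rw [comb_mul, ha, res_smul]

variable {ι : Type*} (U' : ι → Opens T) {k' : ι → ℕ} (g : ∀ i, Fin (k' i) → Sec M (U' i))

/-- The sections which over each member of a family of opens are locally combinations of given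
sections. -/
noncomputable def genSub : SubMod M where
  mem V :=
    { carrier := {y | ∀ i, GenIn (g i) (inf_le_right : V ⊓ U' i ≤ U' i) (FMod90.res M inf_le_left y)}
      zero_mem' := fun i => by
        rw [map_zero]
        exact GenIn.zero _ _
      add_mem' := fun {a b} ha hb i => by
        rw [map_add]
        exact (ha i).add (hb i)
      smul_mem' := fun c a ha i => by
        rw [res_smul]
        exact (ha i).smul _ }
  map_mem {V V'} hle s hs i := by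
    have h1 := GenIn.res (hs i) (inf_le_inf_right (U' i) hle)
    rw [res_res] at h1 ⊢
    exact h1
  of_locally V s hs i := GenIn.of_locally (h := inf_le_right) fun x hx => by
    obtain ⟨V', hV', hxV', hmem⟩ := hs x hx.1
    refine ⟨V' ⊓ U' i, inf_le_inf_right _ hV', ⟨hxV', hx.2⟩, ?_⟩
    have h1 := hmem i
    rw [res_res] at h1 ⊢
    exact h1

theorem mem_genSub_iff (y : Sec M V) : y ∈ (genSub U' g).mem V ↔
    ∀ i, GenIn (g i) (inf_le_right : V ⊓ U' i ≤ U' i) (res M inf_le_left y) := Iff.rfl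

/-- Compatible families generate their submodule on each member of the family. -/
theorem genSub_isGen (hg : ∀ i l, g i l ∈ (genSub U' g).mem (U' i)) (i : ι) :
    IsGen (genSub U' g).toMod fun l => (⟨g i l, hg i l⟩ : Sec (genSub U' g).toMod (U' i)) :=
  fun V hV y x hx => by
    obtain ⟨W, hW, a, hxW, ha⟩ := y.2 i x ⟨hx, hV hx⟩
    refine ⟨W, hW.trans inf_le_left, a, hxW, injective_of_mono (genSub U' g).ι W ?_⟩
    rw [appL_comb, ← res_appL]
    exact ha.trans (res_res inf_le_left hW y.1)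

end general

variable {𝔛 : FSch.Sys.{u}} {h : 𝔛.IsFormal} (h𝔛 : 𝔛.IsLocNoethFormal)
  {S : ShortComplex (FSch.ModF 𝔛 h)}

include h𝔛

/-- Finitely many sections on opens of a quasi-compact space locally come from one coherent module. -/
theorem GenC.exists_coh_family [CompactSpace (𝔛.X 0)] {M : FSch.ModF 𝔛 h} (hM : GenC M) {κ : Type u}
    [Finite κ] (V : κ → (𝔛.X 0).Opens)
    (P : ∀ (k : κ) (W : (𝔛.X 0).Opens), W ≤ V k → Sec M W → Prop)
    (hmono : ∀ k W W' (hW : W ≤ V k) (hW' : W' ≤ W) y, P k W hW y →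
      P k W' (hW'.trans hW) (res M hW' y))
    (hP : ∀ k, ∀ x ∈ V k, ∃ (W : (𝔛.X 0).Opens) (hW : W ≤ V k) (y : Sec M W), x ∈ W ∧ P k W hW y) :
    ∃ (C : FSch.ModF 𝔛 h) (_ : FSch.IsCohF 𝔛 h C) (φ : C ⟶ M), ∀ k, ∀ x ∈ V k,
      ∃ (W : (𝔛.X 0).Opens) (hW : W ≤ V k) (z : Sec C W), x ∈ W ∧ P k W hW (appL φ W z) := by
  haveI : IsLocallyNoetherian (𝔛.X 0) := h𝔛.2.2 0
  haveI : IsNoetherian (𝔛.X 0) := { }
  have key : ∀ (p : Σ k, V k), ∃ (C : FSch.ModF 𝔛 h) (_ : FSch.IsCohF 𝔛 h C) (φ : C ⟶ M)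
      (W : (𝔛.X 0).Opens) (hW : W ≤ V p.1) (z : Sec C W), p.2.1 ∈ W ∧ P p.1 W hW (appL φ W z) :=
    fun ⟨k, x, hx⟩ => by
      obtain ⟨W, hW, y, hxW, hy⟩ := hP k x hx
      obtain ⟨C, hC, φ, W', hW', z, hxW', hz⟩ := hM W y x hxW
      exact ⟨C, hC, φ, W', hW'.trans hW, z, hxW', hz ▸ hmono k W W' hW hW' y hy⟩
  choose C hC φ W hW z hxW hz using key
  choose t ht using fun k => (NoetherianSpace.isCompact (V k : Set (𝔛.X 0))).elim_finite_subcover
    (fun x : V k => (W ⟨k, x⟩ : Set (𝔛.X 0))) (fun x => (W ⟨k, x⟩).2)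
    fun x hx => Set.mem_iUnion.2 ⟨⟨x, hx⟩, hxW ⟨k, x, hx⟩⟩
  obtain ⟨D, hD, ψ, hψ⟩ := exists_coh_sum h𝔛 (ι := Σ k, {x : V k // x ∈ t k})
    (fun p => C ⟨p.1, p.2.1⟩) (fun p => hC ⟨p.1, p.2.1⟩) fun p => φ ⟨p.1, p.2.1⟩
  refine ⟨D, hD, ψ, fun k x hx => ?_⟩
  obtain ⟨x', hx', hxx'⟩ := Set.mem_iUnion₂.1 (ht k hx)
  obtain ⟨j, hj⟩ := hψ ⟨k, ⟨x', hx'⟩⟩
  refine ⟨W ⟨k, x'⟩, hW ⟨k, x'⟩, appL j _ (z ⟨k, x'⟩), hxx', ?_⟩
  rw [← appL_comp, hj]
  exact hz ⟨k, x'⟩

/-- An extension of filtered colimits of coherent modules on a Noetherian formal scheme. -/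
theorem GenC.of_exact [CompactSpace (𝔛.X 0)] (hS : S.Exact) [Mono S.f] [Epi S.g] (h₁ : PC S.X₁)
    (h₁' : GenC S.X₁) (h₃ : PC S.X₃) (h₃' : GenC S.X₃) : GenC S.X₂ := by
  intro U y x hx
  obtain ⟨C, hC, ψ, W, hW, z, hxW, hz⟩ := h₃' U (appL S.g U y) x hx
  choose Uc hUc hxUc using fun x : 𝔛.X 0 => (show ∃ V : (𝔛.X 0).Opens, IsAffineOpen V ∧ x ∈ V by
    obtain ⟨V, hV, -, hxV⟩ := exists_affine_le (U := (⊤ : (𝔛.X 0).Opens)) (x := x) trivial
    exact ⟨V, hV, hxV⟩)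
  obtain ⟨tc, htc⟩ := isCompact_univ.elim_finite_subcover (fun x => (Uc x : Set (𝔛.X 0)))
    (fun x => (Uc x).2) fun x _ => Set.mem_iUnion.2 ⟨x, hxUc x⟩
  let I : Type u := (tc : Set (𝔛.X 0))
  let V : I → (𝔛.X 0).Opens := fun i => Uc i.1
  have hV : ∀ i : I, IsAffineOpen (V i) := fun i => hUc i.1
  choose n s hs using fun i : I => exists_isGen_affine h𝔛 hC (hV i)
  choose b hb using fun (i : I) (l : Fin (n i)) =>
    exists_lift_affine h𝔛 hS (hV i) h₁ (h₁'.genBy h𝔛 (hV i)) (appL ψ (V i) (s i l))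
  obtain ⟨A₀, hA₀, χ, hχ⟩ := h₁'.exists_coh_family h𝔛
    (κ := (Σ i : I, ULift.{u} (Fin (n i))) × I) (fun p => V p.1.1 ⊓ V p.2)
    (fun p W' hW' a => ∃ c, res S.X₂ (hW'.trans inf_le_left) (b p.1.1 p.1.2.down) =
      comb (b p.2) (hW'.trans inf_le_right) c + appL S.f W' a)
    (fun p W₁ W₂ hW₁ hW₂ a ⟨c, hc⟩ => ⟨rv _ hW₂ c, by
      rw [← res_res (hW₁.trans inf_le_left) hW₂, hc, map_add,
        comb_rv (b p.2) (hW₁.trans inf_le_right) hW₂, res_appL]⟩)
    fun p x' hx' => by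
      obtain ⟨⟨i, ⟨l⟩⟩, j⟩ := p
      obtain ⟨W', hW', c, hxW', hc⟩ := hs j (V i ⊓ V j) inf_le_right (res C inf_le_left (s i l)) x' hx'
      have hd : appL S.g W' (res S.X₂ (hW'.trans inf_le_left) (b i l) -
          comb (b j) (hW'.trans inf_le_right) c) = 0 := by
        rw [map_sub, ← res_appL, hb, appL_comb, sub_eq_zero]
        simp only [hb]
        rw [← appL_comb, hc, res_appL, res_res]
      obtain ⟨a, ha⟩ := exists_lift_of_mono S.f (locLift_of_exact hS hd)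
      exact ⟨W', hW', a, hxW', c, by rw [ha, add_sub_cancel]⟩
  choose m a ha using fun i : I => exists_isGen_affine h𝔛 hA₀ (hV i)
  let g : ∀ i : I, Fin (n i + m i) → Sec S.X₂ (V i) := fun i =>
    Fin.append (b i) fun l => appL (χ ≫ S.f) (V i) (a i l)
  have hg : ∀ i l, g i l ∈ (genSub V g).mem (V i) := fun i l j => by
    refine GenIn.of_locally (h := inf_le_right) fun x' hx' => ?_
    refine Fin.addCases (fun l => ?_) (fun l => ?_) l
    · obtain ⟨W', hW', z', hxW', c, hc⟩ := hχ (⟨i, ⟨l⟩⟩, j) x' hx'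
      refine ⟨W', hW', hxW', ?_⟩
      simp only [g, Fin.append_left]
      rw [res_res, hc, ← appL_comp]
      refine GenIn.add (GenIn.append_left ?_)
        (GenIn.append_right (GenIn.map (ha j W' (hW'.trans inf_le_right) z') (χ ≫ S.f)))
      exact fun x'' hx'' => ⟨W', le_rfl, c, hx'', (res_refl _ _).symm⟩
    · refine ⟨_, le_rfl, hx', ?_⟩
      simp only [g, Fin.append_right]
      rw [res_res, res_appL]
      exact GenIn.append_right (GenIn.map (ha j _ inf_le_right (res A₀ inf_le_left (a i l))) (χ ≫ S.f))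
  have hcov : ∀ x' : 𝔛.X 0, ∃ i : I, x' ∈ V i := fun x' => by
    obtain ⟨i, hi, hxi⟩ := Set.mem_iUnion₂.1 (htc (Set.mem_univ x'))
    exact ⟨⟨i, hi⟩, hxi⟩
  have hB : FSch.IsCohF 𝔛 h (genSub V g).toMod :=
    isCohF_of_pc h𝔛 ((PC.of_exact hS h₁ h₃).of_mono (genSub V g).ι) fun x' => by
      obtain ⟨i, hi⟩ := hcov x'
      exact ⟨V i, hi, _, _, genSub_isGen V g hg i⟩
  obtain ⟨i, hi⟩ := hcov x
  obtain ⟨W₁, hW₁, c, hxW₁, hc⟩ := hs i (W ⊓ V i) inf_le_right (res C inf_le_left z) x ⟨hxW, hi⟩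
  have hW₁U : W₁ ≤ U := (hW₁.trans inf_le_left).trans hW
  have hW₁V : W₁ ≤ V i := hW₁.trans inf_le_right
  have hd : appL S.g W₁ (res S.X₂ hW₁U y - comb (b i) hW₁V c) = 0 := by
    rw [map_sub, ← res_appL, appL_comb, sub_eq_zero]
    simp only [hb]
    rw [← appL_comb, hc, res_res, ← res_appL, hz, res_res]
  obtain ⟨a', ha'⟩ := exists_lift_of_mono S.f (locLift_of_exact hS hd)
  obtain ⟨A₁, hA₁, χ₁, W₂, hW₂, z₁, hxW₂, hz₁⟩ := h₁' W₁ a' x hxW₁
  have hmem : comb (b i) (hW₂.trans hW₁V) (rv _ hW₂ c) ∈ (genSub V g).mem W₂ := by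
    refine Submodule.sum_mem _ fun l _ => Submodule.smul_mem _ _ ?_
    have h1 := (genSub V g).map_mem (hW₂.trans hW₁V) (hg i (Fin.castAdd (m i) l))
    simp only [g, Fin.append_left] at h1
    exact h1
  obtain ⟨P, hP, π, hπ⟩ := exists_coh_sum h𝔛 (ι := ULift.{u} Bool)
    (fun q => if q.down then (genSub V g).toMod else A₁)
    (fun q => by rcases q with ⟨_ | _⟩ <;> assumption)
    fun q => match q with
      | ⟨true⟩ => (genSub V g).ι
      | ⟨false⟩ => χ₁ ≫ S.f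
  obtain ⟨j₁, hj₁⟩ := hπ ⟨true⟩
  obtain ⟨j₂, hj₂⟩ := hπ ⟨false⟩
  refine ⟨P, hP, π, W₂, hW₂.trans hW₁U,
    appL (M := (genSub V g).toMod) j₁ W₂ ⟨_, hmem⟩ + appL (M := A₁) j₂ W₂ z₁, hxW₂, ?_⟩
  rw [map_add, ← appL_comp, ← appL_comp]
  refine (congrArg₂ (· + ·) (congrArg (fun f => appL (M := (genSub V g).toMod) f W₂ ⟨_, hmem⟩) hj₁)
    (congrArg (fun f => appL (M := A₁) f W₂ z₁) hj₂)).trans ?_
  change comb (b i) (hW₂.trans hW₁V) (rv _ hW₂ c) + appL S.f W₂ (appL χ₁ W₂ z₁) = _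
  rw [hz₁, ← res_appL, ha', map_sub, comb_rv (b i) hW₁V hW₂, res_res, add_sub_cancel]

end Groth.Agent.FTors52
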