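import Groth.Agent.FTors52.Key
import Mathlib.Algebra.Category.ModuleCat.Presheaf.Submodule
import Mathlib.CategoryTheory.Preadditive.Injective.Basic

/-!
# Injective modules are good

For a datum whose ideals have uniformly bounded torsion, every injective sheaf of modules is good: a
morphism defined on a subpresheaf of the extension by zero of the structure presheaf extends.
-/

set_option autoImplicit false

universe u

open CategoryTheory CategoryTheory.Limits Opposite TopologicalSpace

namespace Groth.Agent.FTors52

open FMod90

variable {T : TopCat.{u}} {O : Sheaf (Opens.grothendieckTopology T) CommRingCat.{u}}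
variable {U V W : Opens T}

theorem mem_map_rres {h : W ≤ U} {a : Ideal (Ring O U)} {b : Ring O W} (hb : b ∈ a.map (rres O h))
    {W' : Opens T} (h' : W' ≤ W) : rres O h' b ∈ a.map (rres O (h'.trans h)) := by
  have := Ideal.mem_map_of_mem (rres O h') hb
  rwa [Ideal.map_map, show (rres O h').comp (rres O h) = rres O (h'.trans h) from
    RingHom.ext (rres_rres h h')] at this

/-- A section of the unit presheaf as a section of the structure sheaf. -/
abbrev toRing {W : (Opens T)ᵒᵖ} (a : (PresheafOfModules.unit (ModSite.ringSh O).obj).obj W) :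
    Ring O W.unop := a

variable (O) in
/-- Extension by zero of the structure presheaf from an open, as a subpresheaf. -/
noncomputable def jSub (V : Opens T) : (PresheafOfModules.unit (ModSite.ringSh O).obj).Submodule where
  obj W :=
    { carrier := {a | ¬ W.unop ≤ V → a = 0}
      zero_mem' := fun _ => rfl
      add_mem' := fun {a b} ha hb h => by rw [ha h, hb h, add_zero]
      smul_mem' := fun c a ha h => by rw [ha h, smul_zero] }
  map {W W'} f := fun a ha h' => by
    change (PresheafOfModules.unit _).map f a = 0
    rw [ha fun hW => h' ((leOfHom f.unop).trans hW), map_zero]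

variable {I : FTors.IdealFam O} (D : Datum I) (j : Fin D.r) (k e : ℕ)

/-- The subpresheaf generated by the ideal of the first sections and a power of the next one. -/
noncomputable def lSub (V : Opens T) (hV : V ≤ D.U) :
    (PresheafOfModules.unit (ModSite.ringSh O).obj).Submodule where
  obj W :=
    { carrier := {a | (¬ W.unop ≤ V → toRing a = 0) ∧ ∀ h : W.unop ≤ V, ∃ c : Ring O W.unop,
        toRing a - rres O (h.trans hV) (D.t j) ^ e * c ∈
          (D.idl j k).map (rres O (h.trans hV))}
      zero_mem' := ⟨fun _ => rfl, fun h => ⟨0, by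
        rw [mul_zero]
        change (0 : Ring O W.unop) - 0 ∈ _
        rw [sub_zero]
        exact Ideal.zero_mem _⟩⟩
      add_mem' := fun {a b} ha hb => ⟨fun h => by
        change toRing a + toRing b = 0
        rw [ha.1 h, hb.1 h, add_zero], fun h => by
        obtain ⟨c, hc⟩ := ha.2 h
        obtain ⟨d, hd⟩ := hb.2 h
        refine ⟨c + d, ?_⟩
        have := Ideal.add_mem _ hc hd
        change toRing a + toRing b - _ ∈ _
        rwa [sub_add_sub_comm, ← mul_add] at this⟩
      smul_mem' := fun r a ha => ⟨fun h => by
        change (show Ring O W.unop from r) * toRing a = 0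
        rw [ha.1 h, mul_zero], fun h => by
        obtain ⟨c, hc⟩ := ha.2 h
        refine ⟨(show Ring O W.unop from r) * c, ?_⟩
        have := Ideal.mul_mem_left _ (show Ring O W.unop from r) hc
        change (show Ring O W.unop from r) * toRing a - _ ∈ _
        rwa [mul_sub, mul_left_comm] at this⟩ }
  map {W W'} f := fun a ha => by
    refine ⟨fun h' => ?_, fun h' => ?_⟩
    · change rres O (leOfHom f.unop) (toRing a) = 0
      rw [ha.1 fun hW => h' ((leOfHom f.unop).trans hW), map_zero]
    · by_cases hW : W.unop ≤ V
      · obtain ⟨c, hc⟩ := ha.2 hW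
        refine ⟨rres O (leOfHom f.unop) c, ?_⟩
        have := mem_map_rres hc (leOfHom f.unop)
        rwa [map_sub, map_mul, map_pow, rres_rres] at this
      · refine ⟨0, ?_⟩
        change (rres O (leOfHom f.unop) (toRing a)) - _ ∈ _
        rw [ha.1 hW, map_zero, mul_zero, sub_zero]
        exact Ideal.zero_mem _

theorem lSub_le {V : Opens T} (hV : V ≤ D.U) : lSub D j k e V hV ≤ jSub O V :=
  fun _ _ ha h => ha.1 h

variable {D}

/-- An injective module is good. -/
theorem good_of_injective (hsat : D.IsSat) (F : ModSite.Mod O) [Injective F] : Good D F := by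
  intro j V hV s k n hs x hx
  obtain ⟨N, hN⟩ := hsat j k
  classical
  let e := n + N
  let L := lSub D j k e V hV
  let G := (SheafOfModules.forget (ModSite.ringSh O) ⋙
    PresheafOfModules.restrictScalars (𝟙 (ModSite.ringSh O).obj)).obj F
  have : Injective G := (PresheafOfModules.sheafificationAdjunction
    (𝟙 (ModSite.ringSh O).obj)).map_injective F inferInstance
  have hwd : ∀ (W : Opens T) (h : W ≤ V) (c c' : Ring O W),
      rres O (h.trans hV) (D.t j) ^ e * c - rres O (h.trans hV) (D.t j) ^ e * c' ∈
        (D.idl j k).map (rres O (h.trans hV)) →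
      (rres O (h.trans hV) (D.t j) ^ N * c) • FMod90.res F h s =
        (rres O (h.trans hV) (D.t j) ^ N * c') • FMod90.res F h s := by
    intro W h c c' hm
    rw [← mul_sub] at hm
    rw [← sub_eq_zero, ← sub_smul, ← mul_sub]
    refine eq_zero_of_locally fun y hy => ?_
    obtain ⟨W', h', hy', hmem⟩ := hN W _ _ e hm y hy
    refine ⟨W', h', hy', ?_⟩
    rw [res_smul', map_mul, map_pow, rres_rres, res_res]
    exact (hs.res (h'.trans h)).smul_eq_zero hmem
  let c : ∀ (W : Opens T), L.obj (op W) → Ring O W := fun W a =>
    if h : W ≤ V then (a.2.2 h).choose else 0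
  let φ : ∀ (W : Opens T), L.obj (op W) → Sec F W := fun W a =>
    if h : W ≤ V then (rres O (h.trans hV) (D.t j) ^ N * c W a) • FMod90.res F h s else 0
  have hφ : ∀ (W : Opens T) (h : W ≤ V) (a : L.obj (op W)) (d : Ring O W),
      toRing a.1 - rres O (h.trans hV) (D.t j) ^ e * d ∈
        (D.idl j k).map (rres O (h.trans hV)) →
      φ W a = (rres O (h.trans hV) (D.t j) ^ N * d) • FMod90.res F h s := by
    intro W h a d hd
    simp only [φ, c, dif_pos h]
    refine hwd W h _ _ ?_
    have := Ideal.sub_mem _ hd (a.2.2 h).choose_spec
    rwa [sub_sub_sub_cancel_left] at this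
  let ψ : L.toPresheafOfModules ⟶ G := PresheafOfModules.homMk
    { app := fun W => AddCommGrpCat.ofHom
        { toFun := fun a => φ W.unop a
          map_zero' := by
            by_cases h : W.unop ≤ V
            · refine (hφ W.unop h _ 0 ?_).trans ?_
              swap
              · rw [mul_zero, zero_smul]
                rfl
              · rw [mul_zero]
                change (0 : Ring O W.unop) - 0 ∈ _
                rw [sub_zero]
                exact Ideal.zero_mem _
            · exact dif_neg h
          map_add' := fun a b => by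
            by_cases h : W.unop ≤ V
            · obtain ⟨c₁, h₁⟩ := a.2.2 h
              obtain ⟨c₂, h₂⟩ := b.2.2 h
              rw [hφ W.unop h a c₁ h₁, hφ W.unop h b c₂ h₂, hφ W.unop h _ (c₁ + c₂) ?_]
              · rw [mul_add, add_smul]
                rfl
              · have := Ideal.add_mem _ h₁ h₂
                rwa [sub_add_sub_comm, ← mul_add] at this
            · simp only [φ, dif_neg h]
              exact (add_zero _).symm }
      naturality := fun W W' f => by
        ext a
        change φ W'.unop _ = FMod90.res F (leOfHom f.unop) (φ W.unop a)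
        by_cases h : W.unop ≤ V
        · obtain ⟨d, hd⟩ := a.2.2 h
          rw [hφ W.unop h a d hd,
            hφ W'.unop ((leOfHom f.unop).trans h) _ (rres O (leOfHom f.unop) d) ?_]
          · rw [res_smul', map_mul, map_pow, rres_rres, res_res]
          · have := mem_map_rres hd (leOfHom f.unop)
            rwa [map_sub, map_mul, map_pow, rres_rres] at this
        · have ha : toRing a.1 = 0 := a.2.1 h
          simp only [φ, dif_neg h, res_zero]
          by_cases h' : W'.unop ≤ V
          · have e0 := hφ W'.unop h' (L.toPresheafOfModules.map f a) 0 ?_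
            · rw [mul_zero, zero_smul] at e0
              exact e0
            · rw [mul_zero, sub_zero]
              change rres O (leOfHom f.unop) (toRing a.1) ∈ _
              rw [ha, map_zero]
              exact Ideal.zero_mem _
          · exact dif_neg h' }
    (fun W r a => by
      change φ W.unop _ = (show Ring O W.unop from r) • φ W.unop a
      by_cases h : W.unop ≤ V
      · obtain ⟨d, hd⟩ := a.2.2 h
        rw [hφ W.unop h a d hd, hφ W.unop h _ ((show Ring O W.unop from r) * d) ?_, ← mul_smul, mul_left_comm]
        have := Ideal.mul_mem_left _ (show Ring O W.unop from r) hd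
        rwa [mul_sub, mul_left_comm] at this
      · simp only [φ, dif_neg h, smul_zero])
  let ext' := Injective.factorThru ψ (PresheafOfModules.Submodule.homOfLE (lSub_le D j k e hV))
  have hext := Injective.comp_factorThru ψ (PresheafOfModules.Submodule.homOfLE (lSub_le D j k e hV))
  let one : (jSub O V).obj (op V) := ⟨(1 : Ring O V), fun h => absurd le_rfl h⟩
  let f : Sec F V := (ext'.app (op V)).hom one
  have happ : ∀ (b : Ring O V) (hb : b ∈ L.obj (op V)), b • f = φ V ⟨b, hb⟩ := fun b hb => by
    have h1 := congrArg (fun g => (g.app (op V)).hom ⟨b, hb⟩) hext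
    refine Eq.trans ?_ h1
    refine Eq.trans ((ext'.app (op V)).hom.map_smul b one).symm ?_
    refine congrArg (ext'.app (op V)).hom (Subtype.ext ?_)
    exact mul_one b
  refine ⟨V, le_rfl, hx, f, N, .of_kill (k := k) fun i hi => ?_, ?_⟩
  · have hmem : rres O hV (D.t i) ^ k ∈ (D.idl j k).map (rres O hV) := by
      rw [← map_pow]
      exact Ideal.mem_map_of_mem _ (Ideal.subset_span ⟨i, hi, rfl⟩)
    have hL : rres O hV (D.t i) ^ k ∈ L.obj (op V) :=
      ⟨fun h => absurd le_rfl h, fun _ => ⟨0, by rw [mul_zero, sub_zero]; exact hmem⟩⟩
    rw [happ _ hL, hφ V le_rfl ⟨_, hL⟩ 0 (by rw [mul_zero, sub_zero]; exact hmem), mul_zero,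
      zero_smul]
  · have hsub : rres O hV (D.t j) ^ (N + n) - rres O hV (D.t j) ^ e * 1 ∈
        (D.idl j k).map (rres O hV) := by
      rw [mul_one, show e = N + n from Nat.add_comm n N, sub_self]
      exact Ideal.zero_mem _
    have hL : rres O hV (D.t j) ^ (N + n) ∈ L.obj (op V) :=
      ⟨fun h => absurd le_rfl h, fun _ => ⟨1, hsub⟩⟩
    rw [happ _ hL, hφ V le_rfl ⟨_, hL⟩ 1 hsub, mul_one]

end Groth.Agent.FTors52
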