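import Groth.Agent.FTors52.Formal
import Groth.Prelude.Def_FTors3

/-!
# The completion morphism of a scheme along a closed subscheme

Sections of the scheme approximate the sections of the completion modulo the open ideals, and the open
ideals correspond to the powers of the ideal.
-/

set_option autoImplicit false

universe u

open CategoryTheory CategoryTheory.Limits AlgebraicGeometry Opposite TopologicalSpace

namespace Groth.Agent.FTors52

open FMod90

theorem appLE_eq_app {X Y : Scheme.{u}} (f : X ⟶ Y) (U : Y.Opens) (V : X.Opens) (e : f ⁻¹ᵁ U = V) :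
    (∀ a, f.appLE U V e.ge a = 0 ↔ f.app U a = 0) ∧
      (Function.Surjective (f.app U) → Function.Surjective (f.appLE U V e.ge)) := by
  subst e
  rw [← Scheme.Hom.app_eq_appLE]
  exact ⟨fun a => Iff.rfl, id⟩

variable (X : Scheme.{u}) (𝓘 : X.IdealSheafData) (hX : (FSch.completionAlong X 𝓘).IsFormal)

/-- The completion morphism. -/
noncomputable abbrev κ : ModSite.RMor ((FSch.completionAlong X 𝓘).Osh hX) X.sheaf :=
  FSch.toSchemeMor (FSch.completionAlong X 𝓘) hX (FSch.completionToX X 𝓘)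
    (FSch.completionToX_comm X 𝓘)

/-- The inverse image of an open in the completion. -/
noncomputable abbrev tr (U : X.Opens) : ((FSch.completionAlong X 𝓘).X 0).Opens :=
  (Opens.map (FSch.completionToX X 𝓘 0).base).obj U

/-- The structure map on sections. -/
noncomputable def sh (U : X.Opens) :
    Ring X.sheaf U →+* Ring ((FSch.completionAlong X 𝓘).Osh hX) (tr X 𝓘 U) :=
  ((κ X 𝓘 hX).sharp.hom.app (op U)).hom

variable {X 𝓘}

theorem tr_mono {U V : X.Opens} (h : V ≤ U) : tr X 𝓘 V ≤ tr X 𝓘 U :=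
  ((Opens.map (FSch.completionToX X 𝓘 0).base).map (homOfLE h)).le

theorem sh_rres {U V : X.Opens} (h : V ≤ U) (a : Ring X.sheaf U) :
    rres _ (tr_mono h) (sh X 𝓘 hX U a) = sh X 𝓘 hX V (rres _ h a) :=
  (congrArg (fun φ => φ.hom a) ((κ X 𝓘 hX).sharp.hom.naturality (homOfLE h).op)).symm

theorem pr_sh (n : ℕ) (U : X.Opens) (a : Ring X.sheaf U) :
    pr hX (tr X 𝓘 U) n (sh X 𝓘 hX U a) =
      ((FSch.completionToX X 𝓘 n).appLE U ((FSch.completionAlong X 𝓘).lvU hX n (tr X 𝓘 U))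
        (FSch.lvU_p _ hX (FSch.completionToX X 𝓘) (FSch.completionToX_comm X 𝓘) n U).ge) a := by
  have h := congrArg (fun φ => φ.hom.app (op U) a)
    (FSch.schSharp_proj (FSch.completionAlong X 𝓘) hX (FSch.completionToX X 𝓘)
      (FSch.completionToX_comm X 𝓘) n)
  exact h

/-- On an affine open the kernel of the map to a level is the power of the ideal. -/
theorem pr_sh_eq_zero_iff (n : ℕ) (W : X.affineOpens) (a : Ring X.sheaf W.1) :
    pr hX (tr X 𝓘 W) n (sh X 𝓘 hX W a) = 0 ↔ a ∈ 𝓘.ideal W ^ (n + 1) := by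
  rw [pr_sh]
  have e : 𝓘.ideal W ^ (n + 1) = (𝓘 ^ (n + 1)).ideal W := by
    rw [Scheme.IdealSheafData.ideal_pow]
    rfl
  rw [e, ← (𝓘 ^ (n + 1)).ker_subschemeι_app W]
  exact ((appLE_eq_app (FSch.completionToX X 𝓘 n) W.1 _
    (FSch.lvU_p _ hX (FSch.completionToX X 𝓘) (FSch.completionToX_comm X 𝓘) n W.1)).1 a).trans
      Iff.rfl

theorem pr_rres_eq_zero {U : ((FSch.completionAlong X 𝓘).X 0).Opens} (n : ℕ)
    {b : Ring ((FSch.completionAlong X 𝓘).Osh hX) U} (hb : pr hX U n b = 0) {V} (hV : V ≤ U) :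
    pr hX V n (rres _ hV b) = 0 := by
  rw [pr_rres', hb, map_zero]

theorem pr_eq_zero_of_locally {U : ((FSch.completionAlong X 𝓘).X 0).Opens} (n : ℕ)
    (b : Ring ((FSch.completionAlong X 𝓘).Osh hX) U)
    (h : ∀ x ∈ U, ∃ (V : _) (hV : V ≤ U), x ∈ V ∧ pr hX V n (rres _ hV b) = 0) :
    pr hX U n b = 0 := by
  choose V hV hxV hb using fun x : U => h x.1 x.2
  refine TopCat.Sheaf.eq_of_locally_eq' ((FSch.completionAlong X 𝓘).levelObj hX n) V U
    (fun x => homOfLE (hV x)) (fun x hx => Opens.mem_iSup.2 ⟨⟨x, hx⟩, hxV _⟩) _ _ fun x => ?_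
  refine Eq.trans ?_ (map_zero _).symm
  refine Eq.trans ?_ (hb x)
  exact (pr_rres hX U (hV x) n b).symm

/-- The members of the family of powers map into the open ideals. -/
theorem sh_mem_open {n : ℕ} {U : X.Opens} {a : Ring X.sheaf U}
    (ha : a ∈ (FTors.powIdealFam X 𝓘).ideal (n + 1) U) :
    pr hX (tr X 𝓘 U) n (sh X 𝓘 hX U a) = 0 := by
  refine pr_eq_zero_of_locally hX n _ fun x hx => ?_
  obtain ⟨W, hW, hxW, hWU⟩ := Opens.isBasis_iff_nbhd.1 X.isBasis_affineOpens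
    (show (FSch.completionToX X 𝓘 0).base x ∈ U from hx)
  refine ⟨tr X 𝓘 W, tr_mono hWU, hxW, ?_⟩
  rw [sh_rres, pr_sh_eq_zero_iff hX n ⟨W, hW⟩]
  exact (FTors.mem_powIdealFam_iff X 𝓘 (n + 1) U a).1 ha ⟨W, hW⟩ hWU

/-- Conversely a section landing in an open ideal is in the power. -/
theorem mem_pow_of_sh {n : ℕ} {U : X.Opens} {a : Ring X.sheaf U}
    (ha : pr hX (tr X 𝓘 U) n (sh X 𝓘 hX U a) = 0) :
    a ∈ (FTors.powIdealFam X 𝓘).ideal (n + 1) U :=
  (FTors.mem_powIdealFam_iff X 𝓘 (n + 1) U a).2 fun W hW => by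
    have := pr_rres_eq_zero hX n ha (tr_mono hW)
    rw [sh_rres, pr_sh_eq_zero_iff] at this
    exact this

theorem isClosedEmbedding_base :
    Topology.IsClosedEmbedding (FSch.completionToX X 𝓘 0).base :=
  (FSch.completionToX X 𝓘 0).isClosedEmbedding

/-- The largest open with a given inverse image. -/
noncomputable def ext (V : ((FSch.completionAlong X 𝓘).X 0).Opens) : X.Opens :=
  ⟨((FSch.completionToX X 𝓘 0).base '' (V : Set _)ᶜ)ᶜ,
    (isClosedEmbedding_base.isClosedMap _ V.isOpen.isClosed_compl).isOpen_compl⟩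

theorem tr_ext (V : ((FSch.completionAlong X 𝓘).X 0).Opens) : tr X 𝓘 (ext V) = V := by
  ext x
  change (FSch.completionToX X 𝓘 0).base x ∈ ((FSch.completionToX X 𝓘 0).base '' (V : Set _)ᶜ)ᶜ ↔ _
  rw [Set.mem_compl_iff, isClosedEmbedding_base.injective.mem_set_image, Set.mem_compl_iff, not_not]

theorem le_ext {U : X.Opens} {V : ((FSch.completionAlong X 𝓘).X 0).Opens} (h : tr X 𝓘 U ≤ V) :
    U ≤ ext V := by
  rintro x hx ⟨y, hy, rfl⟩
  exact hy (h hx)

theorem ext_mono {V V' : ((FSch.completionAlong X 𝓘).X 0).Opens} (h : V' ≤ V) : ext V' ≤ ext V :=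
  le_ext ((tr_ext V').le.trans h)

/-- Off the subscheme the ideal is the unit ideal. -/
theorem ideal_eq_top_of_disjoint {W : X.affineOpens} (h : tr X 𝓘 W = ⊥) : 𝓘.ideal W = ⊤ := by
  have e : RingHom.ker ((𝓘 ^ 1).subschemeι.app W).hom = ⊤ := by
    have : (𝓘 ^ 1).subschemeι ⁻¹ᵁ W.1 = ⊥ := h
    haveI : Subsingleton Γ((𝓘 ^ 1).subscheme, (𝓘 ^ 1).subschemeι ⁻¹ᵁ W.1) := by
      rw [this]
      infer_instance
    exact eq_top_iff.2 fun a _ => Subsingleton.elim _ _
  rw [(𝓘 ^ 1).ker_subschemeι_app W, pow_one] at e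
  exact e

theorem one_mem_pow_of_disjoint (n : ℕ) {U : X.Opens} (h : tr X 𝓘 U = ⊥) :
    (1 : Ring X.sheaf U) ∈ (FTors.powIdealFam X 𝓘).ideal n U :=
  (FTors.mem_powIdealFam_iff X 𝓘 n U 1).2 fun W hW => by
    rw [ideal_eq_top_of_disjoint (le_bot_iff.1 ((tr_mono hW).trans h.le)), Ideal.top_pow]
    exact Submodule.mem_top

/-- Sections of the scheme approximate sections of the completion. -/
theorem exists_approx {V : ((FSch.completionAlong X 𝓘).X 0).Opens}
    (b : Ring ((FSch.completionAlong X 𝓘).Osh hX) V) (n : ℕ) {x : (FSch.completionAlong X 𝓘).X 0}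
    (hx : x ∈ V) {U : X.Opens} (hxU : (FSch.completionToX X 𝓘 0).base x ∈ U) :
    ∃ (W : X.affineOpens) (hW : tr X 𝓘 W ≤ V), (W : X.Opens) ≤ U ∧
      (FSch.completionToX X 𝓘 0).base x ∈ W.1 ∧ ∃ a : Ring X.sheaf W.1,
        pr hX (tr X 𝓘 W) n (sh X 𝓘 hX W a - rres _ hW b) = 0 := by
  have hxV : (FSch.completionToX X 𝓘 0).base x ∈ ext V :=
    (show x ∈ tr X 𝓘 (ext V) from (tr_ext V).symm ▸ hx)
  obtain ⟨W, hW, hxW, hWU⟩ := Opens.isBasis_iff_nbhd.1 X.isBasis_affineOpens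
    (show (FSch.completionToX X 𝓘 0).base x ∈ ext V ⊓ U from ⟨hxV, hxU⟩)
  have hWV : tr X 𝓘 W ≤ V := (tr_mono (hWU.trans inf_le_left)).trans (tr_ext V).le
  refine ⟨⟨W, hW⟩, hWV, hWU.trans inf_le_right, hxW, ?_⟩
  have hU := FSch.lvU_p _ hX (FSch.completionToX X 𝓘) (FSch.completionToX_comm X 𝓘) n W
  have hsurj := (appLE_eq_app (FSch.completionToX X 𝓘 n) W _ hU).2
    ((𝓘 ^ (n + 1)).subschemeι_app_surjective ⟨W, hW⟩)
  obtain ⟨a, ha⟩ := hsurj (pr hX _ n (rres _ hWV b))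
  refine ⟨a, ?_⟩
  rw [map_sub, pr_sh, sub_eq_zero]
  exact ha

end Groth.Agent.FTors52
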