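import Groth.Agent.FTors52.KappaGen
import Groth.Agent.FTors52.Derived

/-!
# Data on a scheme and on its completion

Generators of the ideal on an affine open give a datum for the powers of the ideal, and their images give
a datum for the open ideals of the completion.
-/

set_option autoImplicit false

universe u

open CategoryTheory CategoryTheory.Limits AlgebraicGeometry Opposite TopologicalSpace

namespace Groth.Agent.FTors52

open FMod90

variable {X : Scheme.{u}} [IsLocallyNoetherian X] {𝓘 : X.IdealSheafData}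

theorem exists_basicOpen {W : X.affineOpens} {V : X.Opens} {x : X} (hxW : x ∈ W.1) (hxV : x ∈ V) :
    ∃ f : Ring X.sheaf W.1, X.basicOpen f ≤ V ∧ x ∈ X.basicOpen f :=
  W.2.exists_basicOpen_le ⟨x, hxV⟩ hxW

theorem exists_gens (W : X.affineOpens) :
    ∃ (r : ℕ) (g : Fin r → Ring X.sheaf W.1), Ideal.span (Set.range g) = 𝓘.ideal W := by
  haveI : IsNoetherianRing (Ring X.sheaf W.1) := IsLocallyNoetherian.component_noetherian W
  exact Submodule.fg_iff_exists_fin_generating_family.1 (IsNoetherian.noetherian _)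

/-- The number of chosen generators. -/
noncomputable def numGen (W : X.affineOpens) : ℕ := (exists_gens (𝓘 := 𝓘) W).choose

/-- The chosen generators. -/
noncomputable def gen (W : X.affineOpens) : Fin (numGen (𝓘 := 𝓘) W) → Ring X.sheaf W.1 :=
  (exists_gens (𝓘 := 𝓘) W).choose_spec.choose

theorem span_gen (W : X.affineOpens) : Ideal.span (Set.range (gen (𝓘 := 𝓘) W)) = 𝓘.ideal W :=
  (exists_gens (𝓘 := 𝓘) W).choose_spec.choose_spec

variable (X 𝓘) in
/-- The datum of an affine open of the scheme. -/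
noncomputable def schDatum (W : X.affineOpens) : Datum (FTors.powIdealFam X 𝓘) where
  U := W.1
  r := numGen (𝓘 := 𝓘) W
  t := gen (𝓘 := 𝓘) W
  pow_mem n := ⟨n, fun i V hV => (FTors.mem_powIdealFam_iff X 𝓘 n V _).2 fun W' hW' => by
    change rres X.sheaf hW' (rres X.sheaf hV (gen W i) ^ n) ∈ _
    rw [map_pow, rres_rres]
    refine Ideal.pow_mem_pow ?_ n
    rw [← 𝓘.map_ideal (hW'.trans hV)]
    exact Ideal.mem_map_of_mem _ (span_gen W ▸ Ideal.subset_span ⟨i, rfl⟩)⟩
  le_span k := by
    have hfg : (Ideal.span (Set.range (gen (𝓘 := 𝓘) W))).FG := Submodule.fg_span (Set.finite_range _)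
    obtain ⟨c, hc⟩ := Ideal.exists_pow_le_of_le_radical_of_fg
      (J := Ideal.span (Set.range fun i => gen (𝓘 := 𝓘) W i ^ k))
      (I := Ideal.span (Set.range (gen (𝓘 := 𝓘) W))) (Ideal.span_le.2 (by
        rintro _ ⟨i, rfl⟩
        exact ⟨k, Ideal.subset_span ⟨i, rfl⟩⟩)) hfg
    refine ⟨c, fun V hV a ha x hx => ?_⟩
    obtain ⟨f, hfV, hxf⟩ := exists_basicOpen (hV hx) hx
    refine ⟨X.basicOpen f, hfV, hxf, ?_⟩
    let B : X.affineOpens := ⟨X.basicOpen f, W.2.basicOpen f⟩
    have h1 : rres X.sheaf hfV a ∈ 𝓘.ideal B ^ c :=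
      (FTors.mem_powIdealFam_iff X 𝓘 c V a).1 ha B hfV
    rw [← 𝓘.map_ideal (U := B) (V := W) (X.basicOpen_le f), ← Ideal.map_pow, ← span_gen W] at h1
    have h3 := Ideal.map_mono hc h1
    rw [Ideal.map_span, ← Set.range_comp] at h3
    refine Ideal.span_mono ?_ h3
    rintro _ ⟨i, rfl⟩
    exact ⟨i, (map_pow (rres X.sheaf (hfV.trans hV)) (gen W i) k).symm⟩

theorem isSat_schDatum (W : X.affineOpens) : (schDatum X 𝓘 W).IsSat :=
  haveI : IsNoetherianRing (Ring X.sheaf (schDatum X 𝓘 W).U) :=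
    IsLocallyNoetherian.component_noetherian W
  isSat_of_flat _ fun V hV x hx => by
    obtain ⟨f, hfV, hxf⟩ := exists_basicOpen (W := W) (hV hx) hx
    refine ⟨X.basicOpen f, X.basicOpen_le f, hfV, hxf, ?_⟩
    letI : Algebra (Ring X.sheaf W.1) (Ring X.sheaf (X.basicOpen f)) :=
      (rres X.sheaf (X.basicOpen_le f : X.basicOpen f ≤ W.1)).toAlgebra
    haveI : IsLocalization.Away f (Ring X.sheaf (X.basicOpen f)) :=
      W.2.isLocalization_of_eq_basicOpen f (homOfLE (X.basicOpen_le f)) rfl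
    change Module.Flat (Ring X.sheaf W.1) (Ring X.sheaf (X.basicOpen f))
    exact IsLocalization.flat (Ring X.sheaf (X.basicOpen f)) (Submonoid.powers f)

variable (X 𝓘) in
/-- The atlas of a scheme. -/
noncomputable def schAtlas : Atlas (FTors.powIdealFam X 𝓘) where
  data := Set.range (schDatum X 𝓘)
  covers x := by
    obtain ⟨W, hW, hx, -⟩ := Opens.isBasis_iff_nbhd.1 X.isBasis_affineOpens
      (show x ∈ (⊤ : X.Opens) from trivial)
    exact ⟨_, ⟨⟨W, hW⟩, rfl⟩, hx⟩
  isSat := by
    rintro _ ⟨W, rfl⟩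
    exact isSat_schDatum W

variable (hX : (FSch.completionAlong X 𝓘).IsFormal)

/-- The datum of the trace of an affine open. -/
noncomputable def cplDatum (W : X.affineOpens) :
    Datum (FTors.openIdealFam (FSch.completionAlong X 𝓘) hX) :=
  datumFormal (isLocNoethFormal_completion hX) (isAdicRing_tr hX W)
    (fun i => sh X 𝓘 hX W (gen (𝓘 := 𝓘) W i))
    (by
      rw [← span_gen (𝓘 := 𝓘) W]
      refine Eq.trans ?_ (Ideal.map_span _ _).symm
      exact congrArg Ideal.span (Set.range_comp _ _))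

theorem isSat_cplDatum (W : X.affineOpens) : (cplDatum hX W).IsSat :=
  isSat_datumFormal _ _ _ _

/-- The atlas of the completion induced by the scheme. -/
noncomputable def cplAtlas : Atlas (FTors.openIdealFam (FSch.completionAlong X 𝓘) hX) where
  data := Set.range (cplDatum hX)
  covers x := by
    obtain ⟨W, hW, hx, -⟩ := Opens.isBasis_iff_nbhd.1 X.isBasis_affineOpens
      (show (FSch.completionToX X 𝓘 0).base x ∈ (⊤ : X.Opens) from trivial)
    exact ⟨_, ⟨⟨W, hW⟩, rfl⟩, hx⟩
  isSat := by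
    rintro _ ⟨W, rfl⟩
    exact isSat_cplDatum hX W

end Groth.Agent.FTors52
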