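import Groth.Agent.FTors52.KappaGood
import Groth.Agent.SiteBase.HDURestr
import Groth.Agent.DSites.TExact

/-!
# The derived direct and inverse image along a completion

The direct image is exact, the derived functors commute with the derived torsion functors, and they are
fully faithful on objects with torsion cohomology.
-/

set_option autoImplicit false

universe u

open CategoryTheory CategoryTheory.Limits AlgebraicGeometry Opposite TopologicalSpace

attribute [local instance] HasDerivedCategory.standard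

namespace Groth.Agent.FTors52

open FMod90

section General

/-- The counit of the localisation of an abelian category of complexes at quasi-isomorphisms by
K-injective complexes is an isomorphism. -/
theorem isIso_kinjAdj_counit {C : Type u} [SmallCategory C] {J : GrothendieckTopology C}
    (O : Sheaf J CommRingCat.{u}) : IsIso (DSites.kinjAdj O).counit := by
  let adjQ := DSites.kinjAdj O
  haveI : ∀ X, IsIso (adjQ.counit.app X) := fun X => by
    obtain ⟨L, u, hL, hu, -⟩ :=
      TriCat.exists_kInjective_resolution' ((DerivedCategory.Q).objPreimage X)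
    let e : X ≅ DerivedCategory.Qh.obj ((HomotopyCategory.quotient _ _).obj L) :=
      ((DerivedCategory.Q).objObjPreimageIso X).symm ≪≫
        (@asIso _ _ _ _ _ ((DerivedCategory.isIso_Q_map_iff_quasiIso _ u).2 hu)) ≪≫
        ((DerivedCategory.quotientCompQhIso _).app L).symm
    rw [NatTrans.isIso_app_iff_of_iso _ e]
    haveI := TriCat.isIso_unit_of_isKInjective adjQ L
    haveI : IsIso (DerivedCategory.Qh.map
        (adjQ.unit.app ((HomotopyCategory.quotient _ _).obj L))) := Functor.map_isIso _ _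
    have h := adjQ.left_triangle_components ((HomotopyCategory.quotient _ _).obj L)
    have : IsIso (DerivedCategory.Qh.map (adjQ.unit.app ((HomotopyCategory.quotient _ _).obj L)) ≫
        adjQ.counit.app (DerivedCategory.Qh.obj ((HomotopyCategory.quotient _ _).obj L))) :=
      h.symm ▸ IsIso.id _
    exact IsIso.of_isIso_comp_left
      (DerivedCategory.Qh.map (adjQ.unit.app ((HomotopyCategory.quotient _ _).obj L))) _
  exact NatIso.isIso_of_isIso_app _

/-- For an exact direct image the derived direct image is computed termwise. -/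
noncomputable def rpushIso {C : Type u} [SmallCategory C] {J : GrothendieckTopology C}
    {O_C : Sheaf J CommRingCat.{u}} {D : Type u} [SmallCategory D] {K : GrothendieckTopology D}
    {O_D : Sheaf K CommRingCat.{u}} (f : ModSite.RMor O_C O_D) [SiteCmp.HasRpushD f]
    [PreservesFiniteLimits f.push] [PreservesFiniteColimits f.push] :
    SiteCmp.RpushD f ≅ f.push.mapDerivedCategory :=
  haveI := isIso_kinjAdj_counit O_C
  (DSites.rpushModelIso f).symm ≪≫
    Functor.isoWhiskerLeft (DSites.kinjRes O_C) f.push.mapDerivedCategoryFactorsh.symm ≪≫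
    (Functor.associator _ _ _).symm ≪≫
    Functor.isoWhiskerRight (asIso (DSites.kinjAdj O_C).counit) f.push.mapDerivedCategory ≪≫
    Functor.leftUnitor _

variable {T : TopCat.{u}} {O : Sheaf (Opens.grothendieckTopology T) CommRingCat.{u}}
variable {I : FTors.IdealFam O}

/-- A morphism which is bijective on torsion sections induces an isomorphism of torsion parts. -/
theorem isIso_gamma_map {M N : ModSite.Mod O} (φ : M ⟶ N)
    (hinj : ∀ (U : Opens T) (s : Sec M U), FTors.IsTorsSect I M s → appL φ U s = 0 → s = 0)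
    (hsurj : ∀ (U : Opens T) (y : Sec N U), FTors.IsTorsSect I N y →
      ∃ s, FTors.IsTorsSect I M s ∧ appL φ U s = y) :
    IsIso ((FTors.gamma O I).map φ) := by
  have : Mono ((FTors.gamma O I).map φ) := mono_of_injective _ fun U =>
    (injective_iff_map_eq_zero _).2 fun s hs =>
      Subtype.ext (hinj U s.1 s.2 (congrArg Subtype.val hs))
  have : Epi ((FTors.gamma O I).map φ) := epi_of_locLift _ fun U y => locLift_of_mem (by
    obtain ⟨s, hs, he⟩ := hsurj U y.1 y.2
    exact ⟨⟨s, hs⟩, Subtype.ext he⟩)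
  exact isIso_of_mono_of_epi _

variable [FTors.HasRgamma I]

/-- A map of good complexes which is an isomorphism on torsion parts is inverted by the derived torsion
functor. -/
theorem isIso_Rgamma_map (𝒜 : Atlas I) {K L : CochainComplex (ModSite.Mod O) ℤ} (φ : K ⟶ L)
    (hK : ∀ p, GoodOn 𝒜.data (K.X p)) (hL : ∀ p, GoodOn 𝒜.data (L.X p))
    (hφ : ∀ p, IsIso ((FTors.gamma O I).map (φ.f p))) :
    IsIso ((FTors.Rgamma I).map (DerivedCategory.Qh.map ((HomotopyCategory.quotient _ _).map φ))) := by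
  haveI := isIso_gammaUnit 𝒜 K hK
  haveI := isIso_gammaUnit 𝒜 L hL
  haveI : ∀ p, IsIso ((((FTors.gamma O I).mapHomologicalComplex (ComplexShape.up ℤ)).map φ).f p) := hφ
  haveI := HomologicalComplex.Hom.isIso_of_components
    (((FTors.gamma O I).mapHomologicalComplex (ComplexShape.up ℤ)).map φ)
  haveI : IsIso ((FTors.gammaKh I).map ((HomotopyCategory.quotient _ _).map φ)) :=
    (NatIso.isIso_map_iff (DerivedCategory.quotientCompQhIso _)
      (((FTors.gamma O I).mapHomologicalComplex _).map φ)).2 inferInstance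
  have hn := (gammaUnit I).naturality ((HomotopyCategory.quotient _ _).map φ)
  haveI : IsIso ((gammaUnit I).app ((HomotopyCategory.quotient _ _).obj K) ≫
      (DerivedCategory.Qh ⋙ FTors.Rgamma I).map ((HomotopyCategory.quotient _ _).map φ)) := by
    rw [← hn]
    exact IsIso.comp_isIso
  exact IsIso.of_isIso_comp_left ((gammaUnit I).app ((HomotopyCategory.quotient _ _).obj K))
    ((DerivedCategory.Qh ⋙ FTors.Rgamma I).map ((HomotopyCategory.quotient _ _).map φ))

theorem goodOn_gammaC (𝒜 : Atlas I) (L : CochainComplex (ModSite.Mod O) ℤ) (p : ℤ) :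
    GoodOn 𝒜.data ((((FTors.gamma O I).mapHomologicalComplex (ComplexShape.up ℤ)).obj L).X p) :=
  goodOn_of_isTors _ (isTors_gammaObj _)

/-- The torsion complex represents an object with torsion cohomology. -/
theorem exists_torsion_rep (𝒜 : Atlas I) {X : DerivedCategory (ModSite.Mod O)}
    (hX : FTors.IsDTors I X) :
    ∃ L : CochainComplex (ModSite.Mod O) ℤ, (∀ p, FTors.IsTors I (L.X p)) ∧
      Nonempty (X ≅ DerivedCategory.Qh.obj ((HomotopyCategory.quotient _ _).obj L)) := by
  obtain ⟨L, hL, hLg, ⟨e⟩⟩ := exists_good_rep 𝒜 X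
  haveI := isIso_gammaUnit 𝒜 L hLg
  haveI := isIso_ε_of_isDTors 𝒜 hX
  exact ⟨((FTors.gamma O I).mapHomologicalComplex _).obj L, fun p => isTors_gammaObj _,
    ⟨(asIso ((FTors.Rgammaε I).app X)).symm ≪≫ (FTors.Rgamma I).mapIso e ≪≫
      (asIso ((gammaUnit I).app ((HomotopyCategory.quotient _ _).obj L))).symm⟩⟩

/-- Given a morphism from an object with torsion cohomology which is inverted by the derived torsion
functor, there is a unique compatible isomorphism with the torsion part of the target. -/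
theorem existsUnique_iso (𝒜 : Atlas I) {S F : DerivedCategory (ModSite.Mod O)}
    (hS : FTors.IsDTors I S) (φ : S ⟶ F) (hφ : IsIso ((FTors.Rgamma I).map φ)) :
    ∃! e : S ≅ (FTors.Rgamma I).obj F, e.hom ≫ (FTors.Rgammaε I).app F = φ := by
  haveI := isIso_ε_of_isDTors 𝒜 hS
  refine ⟨(asIso ((FTors.Rgammaε I).app S)).symm ≪≫ asIso ((FTors.Rgamma I).map φ), ?_,
    fun e he => Iso.ext ((bijective_comp_ε 𝒜 hS F).1 ?_)⟩
  · simp only [Iso.trans_hom, Iso.symm_hom, asIso_hom, Category.assoc]
    exact (congrArg (inv ((FTors.Rgammaε I).app S) ≫ ·) ((FTors.Rgammaε I).naturality φ)).trans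
      (IsIso.inv_hom_id_assoc _ _)
  · refine he.trans ?_
    simp only [Iso.trans_hom, Iso.symm_hom, asIso_hom, Category.assoc]
    exact ((congrArg (inv ((FTors.Rgammaε I).app S) ≫ ·) ((FTors.Rgammaε I).naturality φ)).trans
      (IsIso.inv_hom_id_assoc _ _)).symm

end General

section Adj

variable {A B : Type*} [Category A] [Abelian A] [HasDerivedCategory A] [Category B] [Abelian B]
  [HasDerivedCategory B] {L : A ⥤ B} {R : B ⥤ A} (adj : L ⊣ R) [L.Additive] [R.Additive]
  [PreservesFiniteLimits L] [PreservesFiniteColimits L]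
  [PreservesFiniteLimits R] [PreservesFiniteColimits R]

/-- The unit of the adjunction of derived categories is induced termwise. -/
theorem exists_unit_eq (K : HomotopyCategory A (ComplexShape.up ℤ)) :
    ∃ c : DerivedCategory.Qh.obj ((R.mapHomotopyCategory (ComplexShape.up ℤ)).obj
        ((L.mapHomotopyCategory (ComplexShape.up ℤ)).obj K)) ≅
        R.mapDerivedCategory.obj (L.mapDerivedCategory.obj (DerivedCategory.Qh.obj K)),
      (HDURestr.derivedAdj adj).unit.app (DerivedCategory.Qh.obj K) =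
        DerivedCategory.Qh.map ((H9Misc.SerreDerived.adjHtpy (ComplexShape.up ℤ) adj).unit.app K) ≫
          c.hom := by
  letI : CatCommSq (L.mapHomotopyCategory (ComplexShape.up ℤ)) DerivedCategory.Qh DerivedCategory.Qh
      L.mapDerivedCategory := ⟨L.mapDerivedCategoryFactorsh.symm⟩
  letI : CatCommSq (R.mapHomotopyCategory (ComplexShape.up ℤ)) DerivedCategory.Qh DerivedCategory.Qh
      R.mapDerivedCategory := ⟨R.mapDerivedCategoryFactorsh.symm⟩
  exact ⟨(CatCommSq.iso (R.mapHomotopyCategory (ComplexShape.up ℤ)) DerivedCategory.Qh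
      DerivedCategory.Qh R.mapDerivedCategory).app _ ≪≫ R.mapDerivedCategory.mapIso
        ((CatCommSq.iso (L.mapHomotopyCategory (ComplexShape.up ℤ)) DerivedCategory.Qh
          DerivedCategory.Qh L.mapDerivedCategory).app K),
    (H9Misc.SerreDerived.adjHtpy (ComplexShape.up ℤ) adj).localization_unit_app DerivedCategory.Qh
      (HomotopyCategory.quasiIso A (ComplexShape.up ℤ)) DerivedCategory.Qh
      (HomotopyCategory.quasiIso B (ComplexShape.up ℤ)) L.mapDerivedCategory R.mapDerivedCategory K⟩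

/-- The counit of the adjunction of derived categories is induced termwise. -/
theorem isIso_counit_Qh (K : CochainComplex B ℤ) (h : ∀ p, IsIso (adj.counit.app (K.X p))) :
    IsIso ((HDURestr.derivedAdj adj).counit.app
      (DerivedCategory.Qh.obj ((HomotopyCategory.quotient _ _).obj K))) := by
  letI : CatCommSq (L.mapHomotopyCategory (ComplexShape.up ℤ)) DerivedCategory.Qh DerivedCategory.Qh
      L.mapDerivedCategory := ⟨L.mapDerivedCategoryFactorsh.symm⟩
  letI : CatCommSq (R.mapHomotopyCategory (ComplexShape.up ℤ)) DerivedCategory.Qh DerivedCategory.Qh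
      R.mapDerivedCategory := ⟨R.mapDerivedCategoryFactorsh.symm⟩
  have hc : IsIso ((H9Misc.SerreDerived.adjHtpy (ComplexShape.up ℤ) adj).counit.app
      ((HomotopyCategory.quotient _ _).obj K)) := by
    let s : (L.mapHomologicalComplex _).obj ((R.mapHomologicalComplex _).obj K) ⟶ K :=
      { f := fun i => adj.counit.app (K.X i)
        comm' := fun i j _ => (adj.counit.naturality (K.d i j)).symm }
    have : ∀ i, IsIso (s.f i) := h
    have hs : IsIso s := HomologicalComplex.Hom.isIso_of_components _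
    exact ((HomotopyCategory.quotient B _).mapIso (@asIso _ _ _ _ _ hs)).isIso_hom
  have e := (H9Misc.SerreDerived.adjHtpy (ComplexShape.up ℤ) adj).localization_counit_app
    DerivedCategory.Qh (HomotopyCategory.quasiIso A (ComplexShape.up ℤ)) DerivedCategory.Qh
    (HomotopyCategory.quasiIso B (ComplexShape.up ℤ)) L.mapDerivedCategory R.mapDerivedCategory
    ((HomotopyCategory.quotient _ _).obj K)
  exact e.symm ▸ IsIso.comp_isIso' (Functor.map_isIso _ _) (IsIso.comp_isIso'
    (NatIso.inv_app_isIso _ _) (Functor.map_isIso _ _))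

end Adj

variable {X : Scheme.{u}} [IsLocallyNoetherian X] {𝓘 : X.IdealSheafData}
  {hX : (FSch.completionAlong X 𝓘).IsFormal}

omit [IsLocallyNoetherian X] in
/-- The direct image along the completion preserves epimorphisms. -/
theorem epi_push_map {M M' : FSch.ModF (FSch.completionAlong X 𝓘) hX} (φ : M ⟶ M') [Epi φ] :
    Epi ((κ X 𝓘 hX).push.map φ) :=
  epi_of_locLift _ fun U y z hz => by
  by_cases hzZ : z ∈ Set.range (FSch.completionToX X 𝓘 0).base
  · obtain ⟨x, rfl⟩ := hzZ
    obtain ⟨V, hV, s, hxV, hs⟩ := locLift_of_epi φ (show Sec M' (tr X 𝓘 U) from y) x hz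
    have hle : tr X 𝓘 (ext V ⊓ U) ≤ V := (tr_mono inf_le_left).trans (tr_ext V).le
    refine ⟨ext V ⊓ U, inf_le_right, (show Sec ((κ X 𝓘 hX).push.obj M) (ext V ⊓ U) from res M hle s),
      ⟨(mem_ext_iff V x).2 hxV, hz⟩, ?_⟩
    refine (res_appL φ hle s).symm.trans ?_
    rw [hs]
    exact res_res _ _ _
  · let U' : X.Opens := U ⊓ ⟨(Set.range (FSch.completionToX X 𝓘 0).base)ᶜ,
      isClosedEmbedding_base.isClosed_range.isOpen_compl⟩
    have hb : tr X 𝓘 U' = ⊥ := le_bot_iff.1 fun w hw => hw.2 ⟨w, rfl⟩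
    have h0 : ∀ t : Sec M' (tr X 𝓘 U'), t = 0 := fun t =>
      eq_zero_of_locally fun w hw => absurd hw (hb ▸ id)
    exact ⟨U', inf_le_left, 0, ⟨hz, hzZ⟩, (h0 _).trans (h0 _).symm⟩

omit [IsLocallyNoetherian X] in
variable (hX) in
theorem preservesFiniteColimits_push : PreservesFiniteColimits (κ X 𝓘 hX).push := by
  haveI : (κ X 𝓘 hX).push.PreservesEpimorphisms := ⟨fun φ _ => epi_push_map φ⟩
  haveI : PreservesFiniteLimits (κ X 𝓘 hX).push :=
    (κ X 𝓘 hX).adj.rightAdjoint_preservesLimits.preservesFiniteLimits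
  haveI := Functor.preservesHomology_of_preservesEpis_and_kernels (κ X 𝓘 hX).push
  exact Functor.preservesFiniteColimits_of_preservesHomology _

instance : PreservesFiniteColimits (κ X 𝓘 hX).push := preservesFiniteColimits_push hX

instance : PreservesFiniteLimits (κ X 𝓘 hX).push :=
  haveI : PreservesLimitsOfSize.{0, 0} (κ X 𝓘 hX).push := (κ X 𝓘 hX).adj.rightAdjoint_preservesLimits
  inferInstance

instance : PreservesFiniteColimits (κ X 𝓘 hX).pull :=
  haveI : PreservesColimitsOfSize.{0, 0} (κ X 𝓘 hX).pull :=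
    (κ X 𝓘 hX).adj.leftAdjoint_preservesColimits
  inferInstance

instance : (κ X 𝓘 hX).pull.Additive := (κ X 𝓘 hX).adj.left_adjoint_additive

omit [IsLocallyNoetherian X] in
theorem isDTors_push_obj {G : DerivedCategory (FSch.ModF (FSch.completionAlong X 𝓘) hX)}
    (hG : FTors.IsDTorsF (FSch.completionAlong X 𝓘) hX G) :
    FTors.IsDTorsZp X 𝓘 ((κ X 𝓘 hX).push.mapDerivedCategory.obj G) := fun p =>
  isTors_of_epi ((KFlatLib.mapDCHomologyIso (κ X 𝓘 hX).push p).inv.app G) (isTors_push (hG p))

theorem isDTors_pull_obj [PreservesFiniteLimits (κ X 𝓘 hX).pull]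
    {F : DerivedCategory (ModSite.Mod X.sheaf)} (hF : FTors.IsDTorsZp X 𝓘 F) :
    FTors.IsDTorsF (FSch.completionAlong X 𝓘) hX ((κ X 𝓘 hX).pull.mapDerivedCategory.obj F) :=
  fun p => isTors_of_epi ((KFlatLib.mapDCHomologyIso (κ X 𝓘 hX).pull p).inv.app F)
    (isTors_pull_and_isIso_unit (hF p)).1

theorem goodOn_push {M : FSch.ModF (FSch.completionAlong X 𝓘) hX}
    (hM : GoodOn (cplAtlas hX).data M) : GoodOn (schAtlas X 𝓘).data ((κ X 𝓘 hX).push.obj M) := by
  rintro _ ⟨W, rfl⟩
  exact good_push (hM _ ⟨W, rfl⟩)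

theorem goodOn_pull [PreservesFiniteLimits (κ X 𝓘 hX).pull] {M : ModSite.Mod X.sheaf}
    (hM : GoodOn (schAtlas X 𝓘).data M) : GoodOn (cplAtlas hX).data ((κ X 𝓘 hX).pull.obj M) := by
  rintro _ ⟨W, rfl⟩
  exact good_pull (hM _ ⟨W, rfl⟩)

/-- The derived direct image commutes with the derived torsion functors. -/
theorem isIso_Rgamma_push_ε [FTors.HasRgammaT (FSch.completionAlong X 𝓘) hX]
    [FTors.HasRgammaZp X 𝓘] (E : DerivedCategory (FSch.ModF (FSch.completionAlong X 𝓘) hX)) :
    IsIso ((FTors.RgammaZp X 𝓘).map ((κ X 𝓘 hX).push.mapDerivedCategory.map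
      ((FTors.RgammaTε (FSch.completionAlong X 𝓘) hX).app E))) := by
  obtain ⟨L, hL, hLg, ⟨e⟩⟩ := exists_good_rep (cplAtlas hX) E
  haveI := isIso_gammaUnit (cplAtlas hX) L hLg
  let F := (κ X 𝓘 hX).push.mapDerivedCategory
  refine (NatTrans.isIso_app_iff_of_iso (Functor.whiskerRight
    (FTors.RgammaTε (FSch.completionAlong X 𝓘) hX) (F ⋙ FTors.RgammaZp X 𝓘)) e).2 ?_
  change IsIso ((FTors.RgammaZp X 𝓘).map (F.map ((FTors.RgammaTε (FSch.completionAlong X 𝓘) hX).app _)))
  have h : IsIso ((FTors.RgammaZp X 𝓘).map (F.map (DerivedCategory.Qh.map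
      ((HomotopyCategory.quotient _ _).map
        (gammaC (FTors.openIdealFam (FSch.completionAlong X 𝓘) hX) L))))) := by
    refine (NatIso.isIso_map_iff (Functor.isoWhiskerRight
      (κ X 𝓘 hX).push.mapDerivedCategoryFactorsh (FTors.RgammaZp X 𝓘))
      ((HomotopyCategory.quotient _ _).map (gammaC _ L))).2 ?_
    refine isIso_Rgamma_map (schAtlas X 𝓘)
      (((κ X 𝓘 hX).push.mapHomologicalComplex _).map (gammaC _ L))
      (fun p => goodOn_push (goodOn_gammaC (cplAtlas hX) L p)) (fun p => goodOn_push (hLg p))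
      fun p => ?_
    refine isIso_gamma_map _ (fun U s _ h0 => ?_) (fun U y hy => ?_)
    · change appL ((gammaC _ L).f p) (tr X 𝓘 U) (show Sec _ (tr X 𝓘 U) from s) = 0 at h0
      rw [gammaC_f] at h0
      exact injective_of_mono ((FTors.gammaι _).app (L.X p)) _ (h0.trans (map_zero _).symm)
    · obtain ⟨s, hs⟩ := exists_gamma_lift
        ((isTorsSect_push_iff (show Sec (L.X p) (tr X 𝓘 U) from y)).1 hy)
      refine ⟨s, isTors_push (isTors_gammaObj _) U s, ?_⟩
      change appL ((gammaC _ L).f p) (tr X 𝓘 U) (show Sec _ (tr X 𝓘 U) from s) = _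
      rw [gammaC_f]
      exact hs
  rw [← gammaτ_app, ← gammaUnit_ε] at h
  erw [Functor.map_comp, Functor.map_comp] at h
  exact @IsIso.of_isIso_comp_left _ _ _ _ _ _ _
    (Functor.map_isIso (F ⋙ FTors.RgammaZp X 𝓘)
      ((gammaUnit (FTors.openIdealFam (FSch.completionAlong X 𝓘) hX)).app
        ((HomotopyCategory.quotient _ _).obj L))) h

section Exact

variable [PreservesFiniteLimits (κ X 𝓘 hX).pull]

/-- The derived inverse image commutes with the derived torsion functors. -/
theorem isIso_Rgamma_pull_ε [FTors.HasRgammaT (FSch.completionAlong X 𝓘) hX]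
    [FTors.HasRgammaZp X 𝓘] (E : DerivedCategory (ModSite.Mod X.sheaf)) :
    IsIso ((FTors.RgammaT (FSch.completionAlong X 𝓘) hX).map
      ((κ X 𝓘 hX).pull.mapDerivedCategory.map ((FTors.RgammaZpε X 𝓘).app E))) := by
  obtain ⟨L, hL, hLg, ⟨e⟩⟩ := exists_good_rep (schAtlas X 𝓘) E
  haveI := isIso_gammaUnit (schAtlas X 𝓘) L hLg
  let F := (κ X 𝓘 hX).pull.mapDerivedCategory
  refine (NatTrans.isIso_app_iff_of_iso (Functor.whiskerRight
    (FTors.RgammaZpε X 𝓘) (F ⋙ FTors.RgammaT (FSch.completionAlong X 𝓘) hX)) e).2 ?_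
  change IsIso ((FTors.RgammaT (FSch.completionAlong X 𝓘) hX).map
    (F.map ((FTors.RgammaZpε X 𝓘).app _)))
  have h : IsIso ((FTors.RgammaT (FSch.completionAlong X 𝓘) hX).map (F.map (DerivedCategory.Qh.map
      ((HomotopyCategory.quotient _ _).map (gammaC (FTors.powIdealFam X 𝓘) L))))) := by
    refine (NatIso.isIso_map_iff (Functor.isoWhiskerRight
      (κ X 𝓘 hX).pull.mapDerivedCategoryFactorsh (FTors.RgammaT (FSch.completionAlong X 𝓘) hX))
      ((HomotopyCategory.quotient _ _).map (gammaC _ L))).2 ?_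
    refine isIso_Rgamma_map (cplAtlas hX)
      (((κ X 𝓘 hX).pull.mapHomologicalComplex _).map (gammaC _ L))
      (fun p => goodOn_pull (goodOn_gammaC (schAtlas X 𝓘) L p)) (fun p => goodOn_pull (hLg p))
      fun p => ?_
    refine isIso_gamma_map _ (fun U s _ h0 => ?_) (fun U y hy => ?_)
    · change appL ((κ X 𝓘 hX).pull.map ((gammaC _ L).f p)) U s = 0 at h0
      rw [gammaC_f] at h0
      exact injective_of_mono ((κ X 𝓘 hX).pull.map ((FTors.gammaι _).app (L.X p))) _
        (h0.trans (map_zero _).symm)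
    · obtain ⟨s, hs⟩ := (pull_gamma_range (L.X p) U y).2 hy
      refine ⟨s, (isTors_pull_and_isIso_unit (isTors_gammaObj (L.X p))).1 U s, ?_⟩
      change appL ((κ X 𝓘 hX).pull.map ((gammaC _ L).f p)) U s = _
      rw [gammaC_f]
      exact hs
  rw [← gammaτ_app, ← gammaUnit_ε] at h
  erw [Functor.map_comp, Functor.map_comp] at h
  exact @IsIso.of_isIso_comp_left _ _ _ _ _ _ _
    (Functor.map_isIso (F ⋙ FTors.RgammaT (FSch.completionAlong X 𝓘) hX)
      ((gammaUnit (FTors.powIdealFam X 𝓘)).app ((HomotopyCategory.quotient _ _).obj L))) h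

variable (hX) in
/-- The adjunction of the derived inverse and direct images. -/
noncomputable def kAdj : (κ X 𝓘 hX).pull.mapDerivedCategory ⊣ (κ X 𝓘 hX).push.mapDerivedCategory :=
  HDURestr.derivedAdj (κ X 𝓘 hX).adj

/-- The counit is an isomorphism at objects with torsion cohomology. -/
theorem isIso_kAdj_counit {G : DerivedCategory (FSch.ModF (FSch.completionAlong X 𝓘) hX)}
    (hG : FTors.IsDTorsF (FSch.completionAlong X 𝓘) hX G) : IsIso ((kAdj hX).counit.app G) := by
  haveI : FTors.HasRgamma (FTors.openIdealFam (FSch.completionAlong X 𝓘) hX) := hasRgamma _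
  obtain ⟨L, hL, ⟨e⟩⟩ := exists_torsion_rep (cplAtlas hX) hG
  exact (NatTrans.isIso_app_iff_of_iso _ e).2
    (isIso_counit_Qh _ L fun p => isIso_counit_of_isTors (hL p))

theorem bijective_push_map (G H : DerivedCategory (FSch.ModF (FSch.completionAlong X 𝓘) hX))
    (hG : FTors.IsDTorsF (FSch.completionAlong X 𝓘) hX G) :
    Function.Bijective (fun φ : G ⟶ H => (κ X 𝓘 hX).push.mapDerivedCategory.map φ) := by
  haveI := isIso_kAdj_counit hG
  have e : (fun φ : G ⟶ H => (κ X 𝓘 hX).push.mapDerivedCategory.map φ) =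
      ((kAdj hX).homEquiv _ H) ∘ fun φ => (kAdj hX).counit.app G ≫ φ := by
    funext φ
    rw [Function.comp_apply, Adjunction.homEquiv_unit, Functor.map_comp,
      Adjunction.right_triangle_components_assoc]
  rw [e]
  exact ((kAdj hX).homEquiv _ H).bijective.comp
    ((asIso ((kAdj hX).counit.app G)).homFromEquiv.symm.bijective)

/-- The unit becomes an isomorphism after taking derived torsion. -/
theorem isIso_Rgamma_unit [FTors.HasRgammaZp X 𝓘] (F : DerivedCategory (ModSite.Mod X.sheaf)) :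
    IsIso ((FTors.RgammaZp X 𝓘).map ((kAdj hX).unit.app F)) := by
  obtain ⟨L, hL, hLg, ⟨e⟩⟩ := exists_good_rep (schAtlas X 𝓘) F
  refine (NatTrans.isIso_app_iff_of_iso
    (Functor.whiskerRight (kAdj hX).unit (FTors.RgammaZp X 𝓘)) e).2 ?_
  obtain ⟨c, hc⟩ := exists_unit_eq (κ X 𝓘 hX).adj ((HomotopyCategory.quotient _ _).obj L)
  change IsIso ((FTors.RgammaZp X 𝓘).map ((HDURestr.derivedAdj (κ X 𝓘 hX).adj).unit.app _))
  rw [hc]
  let u : L ⟶ ((κ X 𝓘 hX).push.mapHomologicalComplex _).obj
      (((κ X 𝓘 hX).pull.mapHomologicalComplex _).obj L) :=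
    { f := fun i => (κ X 𝓘 hX).adj.unit.app (L.X i)
      comm' := fun i j _ => ((κ X 𝓘 hX).adj.unit.naturality (L.d i j)).symm }
  haveI h : IsIso ((FTors.RgammaZp X 𝓘).map
      (DerivedCategory.Qh.map ((HomotopyCategory.quotient _ _).map u))) := by
    refine isIso_Rgamma_map (schAtlas X 𝓘) u hLg (fun p => goodOn_push (goodOn_pull (hLg p)))
      fun p => isIso_gamma_map _ (fun U s hs h0 => ?_) fun U y hy => ?_
    · obtain ⟨n, rfl⟩ := exists_gamma_lift hs
      haveI : IsIso ((κ X 𝓘 hX).adj.unit.app ((FTors.gamma X.sheaf (FTors.powIdealFam X 𝓘)).obj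
          (L.X p))) := (isTors_pull_and_isIso_unit (isTors_gammaObj _)).2
      have h1 : appL ((κ X 𝓘 hX).pull.map ((FTors.gammaι _).app (L.X p))) (tr X 𝓘 U)
          (ηs _ U n) = 0 := (appL_pull_ηs _ U n).trans h0
      have h2 := injective_of_mono _ _ (h1.trans (map_zero _).symm)
      have h3 : n = 0 := (bijective_of_isIso ((κ X 𝓘 hX).adj.unit.app
        ((FTors.gamma X.sheaf (FTors.powIdealFam X 𝓘)).obj (L.X p))) U).1
        (h2.trans (map_zero _).symm)
      rw [h3]
      exact map_zero _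
    · have hy' := (isTorsSect_push_iff
        (show Sec ((κ X 𝓘 hX).pull.obj (L.X p)) (tr X 𝓘 U) from y)).1 hy
      obtain ⟨t, ht⟩ := (pull_gamma_range (L.X p) (tr X 𝓘 U) _).2 hy'
      haveI : IsIso ((κ X 𝓘 hX).adj.unit.app ((FTors.gamma X.sheaf (FTors.powIdealFam X 𝓘)).obj
          (L.X p))) := (isTors_pull_and_isIso_unit (isTors_gammaObj _)).2
      obtain ⟨n, hn⟩ := (bijective_of_isIso ((κ X 𝓘 hX).adj.unit.app
        ((FTors.gamma X.sheaf (FTors.powIdealFam X 𝓘)).obj (L.X p))) U).2 t
      refine ⟨appL ((FTors.gammaι _).app (L.X p)) U n,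
        FTors.IsTorsSect.hom ((FTors.gammaι _).app (L.X p)) (isTors_gammaObj (L.X p) U n), ?_⟩
      refine (appL_pull_ηs ((FTors.gammaι (FTors.powIdealFam X 𝓘)).app (L.X p)) U n).symm.trans ?_
      exact (congrArg _ hn).trans ht
  rw [Functor.map_comp]
  exact IsIso.comp_isIso' h (Functor.map_isIso _ c.hom)

/-- The inverse image is fully faithful when one of the objects has torsion cohomology. -/
theorem bijective_pull_map (E F : DerivedCategory (ModSite.Mod X.sheaf))
    (hEF : FTors.IsDTorsZp X 𝓘 E ∨ FTors.IsDTorsZp X 𝓘 F) :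
    Function.Bijective (fun φ : E ⟶ F => (κ X 𝓘 hX).pull.mapDerivedCategory.map φ) := by
  haveI : FTors.HasRgamma (FTors.powIdealFam X 𝓘) := hasRgamma _
  have e : (fun φ : E ⟶ F => (κ X 𝓘 hX).pull.mapDerivedCategory.map φ) =
      ((kAdj hX).homEquiv E _).symm ∘ fun φ => φ ≫ (kAdj hX).unit.app F := by
    funext φ
    rw [Function.comp_apply, Adjunction.homEquiv_counit, Functor.map_comp, Category.assoc]
    exact (Category.comp_id _).symm.trans
      (congrArg (_ ≫ ·) ((kAdj hX).left_triangle_components F).symm)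
  rw [e]
  refine ((kAdj hX).homEquiv E _).symm.bijective.comp ?_
  haveI := isIso_Rgamma_unit (hX := hX) F
  rcases hEF with hE | hF
  · let G := (κ X 𝓘 hX).push.mapDerivedCategory.obj ((κ X 𝓘 hX).pull.mapDerivedCategory.obj F)
    have hb := bijective_comp_ε (schAtlas X 𝓘) hE
    refine (Function.Bijective.of_comp_iff _ (hb F)).1 ?_
    have hsq : ((fun φ : E ⟶ F => φ ≫ (kAdj hX).unit.app F) ∘
        fun φ : E ⟶ (FTors.RgammaZp X 𝓘).obj F => φ ≫ (FTors.RgammaZpε X 𝓘).app F) =
        (fun φ : E ⟶ (FTors.RgammaZp X 𝓘).obj G => φ ≫ (FTors.RgammaZpε X 𝓘).app G) ∘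
          fun φ => φ ≫ (FTors.RgammaZp X 𝓘).map ((kAdj hX).unit.app F) := by
      funext φ
      simp only [Function.comp_apply, Category.assoc]
      exact congrArg (φ ≫ ·) ((FTors.RgammaZpε X 𝓘).naturality ((kAdj hX).unit.app F)).symm
    refine (congrArg Function.Bijective hsq).mpr ?_
    exact (hb G).comp ((asIso ((FTors.RgammaZp X 𝓘).map ((kAdj hX).unit.app F))).homToEquiv.bijective)
  · haveI : IsIso ((kAdj hX).unit.app F) := by
      haveI h1 := isIso_ε_of_isDTors (schAtlas X 𝓘) hF
      haveI h2 := isIso_ε_of_isDTors (schAtlas X 𝓘)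
        (isDTors_push_obj (isDTors_pull_obj (hX := hX) hF))
      have hn := (FTors.RgammaZpε X 𝓘).naturality ((kAdj hX).unit.app F)
      exact @IsIso.of_isIso_comp_left _ _ _ _ _ ((FTors.RgammaZpε X 𝓘).app F) _ h1
        ((congrArg IsIso hn).mp (IsIso.comp_isIso' inferInstance h2))
    exact (asIso ((kAdj hX).unit.app F)).homToEquiv.bijective

end Exact

end Groth.Agent.FTors52
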