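import Groth.Agent.FTors52.Datum
import Mathlib.Algebra.Homology.HomotopyCategory.MappingCone

/-!
# The key lemma: complexes with good terms and torsion cohomology

For such a complex the inclusion of the torsion subcomplex is a quasi-isomorphism.
-/

set_option autoImplicit false

universe u

open CategoryTheory CategoryTheory.Limits Opposite TopologicalSpace

namespace Groth.Agent.FTors52

open FMod90

variable {T : TopCat.{u}} {O : Sheaf (Opens.grothendieckTopology T) CommRingCat.{u}}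
variable {M N : ModSite.Mod O} {U V W : Opens T} {I : FTors.IdealFam O}

theorem isTors_of_mono (φ : M ⟶ N) [Mono φ] (hN : FTors.IsTors I N) : FTors.IsTors I M :=
  fun U s => (isTorsSect_iff_exists s).2 fun x hx => by
    obtain ⟨W, hW, hxW, n, hn⟩ := (isTorsSect_iff_exists _).1 (hN U (appL φ U s)) x hx
    refine ⟨W, hW, hxW, n, fun W' g a ha => injective_of_mono φ W' ?_⟩
    have := hn g a ha
    rw [res_appL, ftors_res_eq, res_appL] at this
    rw [map_zero, map_smul]
    exact this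

theorem isTors_of_epi (φ : M ⟶ N) [Epi φ] (hM : FTors.IsTors I M) : FTors.IsTors I N :=
  fun U s => (isTorsSect_iff_exists s).2 fun x hx => by
    obtain ⟨W, hW, a, hxW, ha⟩ := locLift_of_epi φ s x hx
    obtain ⟨W', hW', hx', n, hn⟩ := (isTorsSect_iff_exists a).1 (hM W a) x hxW
    refine ⟨W', hW'.trans hW, hx', n, ?_⟩
    have := hn.hom φ
    rw [show φ.val.app (op W') (FMod90.res M hW' a) = appL φ W' (FMod90.res M hW' a) from rfl,
      ← res_appL, ha, res_res] at this
    exact this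

theorem isTors_homology (K : CochainComplex (ModSite.Mod O) ℤ) (p : ℤ)
    (h : FTors.IsTors I (K.X p)) : FTors.IsTors I (K.homology p) :=
  isTors_of_epi (K.homologyπ p) (isTors_of_mono (K.iCycles p) h)

theorem isTors_gammaObj (M : ModSite.Mod O) : FTors.IsTors I ((FTors.gamma O I).obj M) :=
  fun U s => (isTorsSect_iff_exists s).2 fun x hx => by
    obtain ⟨W, hW, hxW, n, hn⟩ := (isTorsSect_iff_exists s.1).1 s.2 x hx
    exact ⟨W, hW, hxW, n, fun W' g a ha => Subtype.ext (hn g a ha)⟩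

instance mono_gammaι_app (M : ModSite.Mod O) : Mono ((FTors.gammaι I).app M) :=
  mono_of_injective _ fun _ _ _ h => Subtype.ext h

theorem exists_gamma_lift {s : Sec M V} (hs : FTors.IsTorsSect I M s) :
    ∃ s' : Sec ((FTors.gamma O I).obj M) V, appL ((FTors.gammaι I).app M) V s' = s :=
  ⟨⟨s, hs⟩, rfl⟩

theorem isIso_gammaι_of_isTors (hM : FTors.IsTors I M) : IsIso ((FTors.gammaι I).app M) :=
  have : Epi ((FTors.gammaι I).app M) := epi_of_locLift _ fun V s =>
    locLift_of_mem (exists_gamma_lift (hM V s))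
  isIso_of_mono_of_epi _

variable (K : CochainComplex (ModSite.Mod O) ℤ)

/-- Cohomology classes are locally killed by powers of each section of a datum. -/
def ClassTors (D : Datum I) : Prop :=
  ∀ (p : ℤ) (V : Opens T) (h : V ≤ D.U) (z : Sec (K.X p) V), IsCyc K p z → ∀ (j : Fin D.r), ∀ x ∈ V,
    ∃ (W : Opens T) (hW : W ≤ V), x ∈ W ∧
      ∃ k, IsBdy K p (rres O (hW.trans h) (D.t j) ^ k • FMod90.res (K.X p) hW z)

variable {K}

theorem classTors_of_isTors (h : ∀ p, FTors.IsTors I (K.homology p)) (D : Datum I) : ClassTors K D :=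
  fun p V hV z hz j x hx => by
  obtain ⟨c, rfl⟩ := hz.exists_cycle
  obtain ⟨W, hW, hxW, k, hk⟩ :=
    upto_of_isTorsSect (h p V (appL (K.homologyπ p) V c)) hV D.r x hx
  refine ⟨W, hW, hxW, k, ?_⟩
  have := hk j j.isLt
  rw [res_appL, ← map_smul, homologyπ_eq_zero_iff, map_smul, ← res_appL] at this
  exact this

/-- The step of the induction: every cocycle is locally cohomologous to one killed by powers of the first
`j` sections, and a coboundary so killed is locally the coboundary of a section so killed. -/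
theorem upto_induction (D : Datum I) (hK : ∀ p, Good D (K.X p)) (hH : ClassTors K D) :
    ∀ j : ℕ, j ≤ D.r →
      (∀ (p : ℤ) (V : Opens T) (h : V ≤ D.U) (z : Sec (K.X p) V), IsCyc K p z → ∀ x ∈ V,
        ∃ (W : Opens T) (hW : W ≤ V), x ∈ W ∧ ∃ (z' : Sec (K.X p) W) (y : Sec (K.X (p - 1)) W),
          Upto D j (hW.trans h) z' ∧ FMod90.res (K.X p) hW z - z' = appL (K.d (p - 1) p) W y) ∧
      (∀ (p q : ℤ) (_ : q = p + 1) (V : Opens T) (h : V ≤ D.U) (y : Sec (K.X p) V),
        Upto D j h (appL (K.d p q) V y) → ∀ x ∈ V,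
        ∃ (W : Opens T) (hW : W ≤ V), x ∈ W ∧ ∃ y' : Sec (K.X p) W,
          Upto D j (hW.trans h) y' ∧
            FMod90.res (K.X q) hW (appL (K.d p q) V y) = appL (K.d p q) W y') := by
  intro j
  induction j with
  | zero =>
    intro _
    refine ⟨fun p V h z _ x hx => ⟨V, le_rfl, hx, z, 0, .zero_left _ _, ?_⟩,
      fun p q _ V h y _ x hx => ⟨V, le_rfl, hx, y, .zero_left _ _, res_refl _ _⟩⟩
    rw [res_refl, sub_self, map_zero]
  | succ j ih =>
    intro hj
    obtain ⟨hS, hI⟩ := ih (Nat.le_of_succ_le hj)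
    let J : Fin D.r := ⟨j, hj⟩
    constructor
    · intro p V h z hz x hx
      obtain ⟨W₁, h₁, hx₁, z₁, y₁, hu₁, he₁⟩ := hS p V h z hz x hx
      have hz₁ : IsCyc K p z₁ := by
        have e : z₁ = FMod90.res (K.X p) h₁ z - appL (K.d (p - 1) p) W₁ y₁ := by
          rw [← he₁, sub_sub_cancel]
        rw [e, IsCyc, map_sub, (hz.res h₁ :), appL_d_d, sub_zero]
      obtain ⟨W₂, h₂, hx₂, n, hb⟩ := hH p W₁ (h₁.trans h) z₁ hz₁ J x hx₁
      obtain ⟨W₃, h₃, w, hx₃, hw⟩ := hb x hx₂
      obtain ⟨W₄, h₄, hx₄, k₁, hk₁⟩ := hu₁ x hx₁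
      -- restrict everything to a common open
      let W₅ := W₃ ⊓ W₄
      have g₃ : W₅ ≤ W₃ := inf_le_left
      have g₄ : W₅ ≤ W₄ := inf_le_right
      have g₁ : W₅ ≤ W₁ := g₄.trans h₄
      have gU : W₅ ≤ D.U := g₁.trans (h₁.trans h)
      have hk₅ : Kill D j k₁ gU (FMod90.res (K.X p) g₁ z₁) := by
        have := hk₁.res g₄
        rwa [res_res] at this
      have hw₅ : appL (K.d (p - 1) p) W₅ (FMod90.res _ g₃ w) =
          rres O gU (D.t J) ^ n • FMod90.res (K.X p) g₁ z₁ := by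
        rw [← res_appL, hw, res_res, res_smul', map_pow, rres_rres, res_res]
      obtain ⟨W₆, h₆, hx₆, w', hu', hw'⟩ := hI (p - 1) p (by omega) W₅ gU (FMod90.res _ g₃ w)
        (by rw [hw₅]; exact .of_kill (hk₅.smul _)) x ⟨hx₃, hx₄⟩
      obtain ⟨W₇, h₇, hx₇, k', hk'⟩ := hu' x hx₆
      obtain ⟨W₈, h₈, hx₈, f, m, huf, hf⟩ := hK (p - 1) J W₇ _ _ k' n hk' x hx₇
      have g₈ : W₈ ≤ W₅ := h₈.trans (h₇.trans h₆)
      refine ⟨W₈, g₈.trans (g₁.trans h₁), hx₈,
        FMod90.res (K.X p) (g₈.trans g₁) z₁ - appL (K.d (p - 1) p) W₈ f,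
        FMod90.res _ (g₈.trans g₁) y₁ + f, ?_, ?_⟩
      · refine fun y hy => ?_
        obtain ⟨W₉, h₉, hy₉, k₂, hk₂⟩ := huf y hy
        refine ⟨W₉, h₉, hy₉, max (max k₁ k₂) (m + n), fun i hi => ?_⟩
        rcases Nat.lt_succ_iff_lt_or_eq.1 hi with hi' | hi'
        · have a := ((hk₅.res (h₉.trans g₈)).mono (le_max_left k₁ k₂)).mono (le_max_left _ (m + n))
          have b := ((hk₂.map (K.d (p - 1) p)).mono (le_max_right k₁ k₂)).mono (le_max_left _ (m + n))
          rw [res_res] at a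
          rw [← res_appL] at b
          rw [map_sub, res_res]
          exact a.sub b i hi'
        · obtain rfl : i = J := Fin.ext hi'
          rw [← Nat.sub_add_cancel (le_max_right (max k₁ k₂) (m + n)), pow_add, mul_smul]
          rw [show rres O (h₉.trans (h₈.trans ((h₇.trans h₆).trans gU))) (D.t J) ^ (m + n) •
              FMod90.res (K.X p) h₉ (FMod90.res (K.X p) (g₈.trans g₁) z₁ -
                appL (K.d (p - 1) p) W₈ f) = 0 from ?_, smul_zero]
          rw [← rres_rres (h₈.trans ((h₇.trans h₆).trans gU)) h₉, ← map_pow, ← res_smul', smul_sub,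
            ← (appL (K.d (p - 1) p) W₈).map_smul, hf, (appL (K.d (p - 1) p) W₈).map_smul, ← res_appL, ← res_appL, ← hw', hw₅]
          rw [res_res, res_res, res_smul', map_pow, rres_rres, res_res, ← mul_smul, ← pow_add,
            sub_self, res_zero]
      · have := congrArg (FMod90.res (K.X p) (g₈.trans g₁)) he₁
        rw [map_sub, res_res, res_appL] at this
        rw [map_add, ← this]
        abel
    · intro p q hq V h y hy x hx
      obtain ⟨W₀, h₀, hx₀, k, hk⟩ := hy x hx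
      have hkj : Kill D j k (h₀.trans h) (FMod90.res (K.X q) h₀ (appL (K.d p q) V y)) :=
        fun i hi => hk i (Nat.lt_succ_of_lt hi)
      obtain ⟨W₁, h₁, hx₁, y₁, hu₁, he₁⟩ := hI p q hq W₀ (h₀.trans h) (FMod90.res _ h₀ y)
        (by rw [← res_appL]; exact .of_kill hkj) x hx₀
      rw [← res_appL, res_res] at he₁
      have gU : W₁ ≤ D.U := h₁.trans (h₀.trans h)
      have hcyc : IsCyc K p (rres O gU (D.t J) ^ k • y₁) := by
        subst hq
        rw [IsCyc, map_smul, ← he₁, ← res_res h₀ h₁, ← rres_rres (h₀.trans h) h₁, ← map_pow,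
          ← res_smul', hk J (Nat.lt_succ_self j), res_zero]
      obtain ⟨W₂, h₂, hx₂, l, hb⟩ := hH p W₁ gU _ hcyc J x hx₁
      obtain ⟨W₃, h₃, v, hx₃, hv⟩ := hb x hx₂
      have hv₃ : appL (K.d (p - 1) p) W₃ v =
          rres O ((h₃.trans h₂).trans gU) (D.t J) ^ (l + k) • FMod90.res (K.X p) (h₃.trans h₂) y₁ := by
        rw [hv, res_smul', map_pow, rres_rres, res_res, res_smul', map_pow, rres_rres, ← mul_smul,
          ← pow_add]
      obtain ⟨W₄, h₄, hx₄, v', huv, hv'⟩ := hI (p - 1) p (by omega) W₃ ((h₃.trans h₂).trans gU) v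
        (by rw [hv₃]
            exact fun z hz => by
              obtain ⟨W', hW', hzW, k', hk'⟩ := (hu₁.res (h₃.trans h₂)) z hz
              exact ⟨W', hW', hzW, k', by rw [res_smul']; exact hk'.smul _⟩) x hx₃
      obtain ⟨W₅, h₅, hx₅, k₂, hk₂⟩ := huv x hx₄
      obtain ⟨W₆, h₆, hx₆, f, m, huf, hf⟩ := hK (p - 1) J W₅ _ _ k₂ (l + k) hk₂ x hx₅
      have g₆ : W₆ ≤ W₃ := h₆.trans (h₅.trans h₄)
      have g₁ : W₆ ≤ W₁ := g₆.trans (h₃.trans h₂)
      refine ⟨W₆, g₁.trans (h₁.trans h₀), hx₆,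
        FMod90.res (K.X p) g₁ y₁ - appL (K.d (p - 1) p) W₆ f, ?_, ?_⟩
      · refine fun z hz => ?_
        obtain ⟨W₇, h₇, hz₇, k₃, hk₃⟩ := ((hu₁.res g₁).sub (huf.map (K.d (p - 1) p))) z hz
        refine ⟨W₇, h₇, hz₇, max k₃ (m + (l + k)), fun i hi => ?_⟩
        rcases Nat.lt_succ_iff_lt_or_eq.1 hi with hi' | hi'
        · exact (hk₃.mono (le_max_left _ _)) i hi'
        · obtain rfl : i = J := Fin.ext hi'
          rw [← Nat.sub_add_cancel (le_max_right k₃ (m + (l + k))), pow_add, mul_smul]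
          rw [show rres O (h₇.trans (g₁.trans gU)) (D.t J) ^ (m + (l + k)) •
              FMod90.res (K.X p) h₇ (FMod90.res (K.X p) g₁ y₁ - appL (K.d (p - 1) p) W₆ f) = 0
              from ?_, smul_zero]
          rw [← rres_rres (g₁.trans gU) h₇, ← map_pow, ← res_smul', smul_sub,
            ← (appL (K.d (p - 1) p) W₆).map_smul, hf, (appL (K.d (p - 1) p) W₆).map_smul, ← res_appL, ← res_appL, ← hv', hv₃]
          rw [res_res, res_res, res_smul', map_pow, rres_rres, res_res, ← mul_smul, ← pow_add,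
            sub_self, res_zero]
      · rw [map_sub, appL_d_d, sub_zero, ← res_appL (K.d p q) g₁, ← he₁, res_res]

/-- The inclusion of the torsion subcomplex. -/
noncomputable abbrev gammaC (I : FTors.IdealFam O) (K : CochainComplex (ModSite.Mod O) ℤ) :
    ((FTors.gamma O I).mapHomologicalComplex (ComplexShape.up ℤ)).obj K ⟶ K :=
  (NatTrans.mapHomologicalComplex (FTors.gammaι I) (ComplexShape.up ℤ)).app K ≫
    (Functor.mapHomologicalComplexIdIso (ModSite.Mod O) (ComplexShape.up ℤ)).hom.app K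

theorem gammaC_f (p : ℤ) : (gammaC I K).f p = (FTors.gammaι I).app (K.X p) := Category.comp_id _

/-- A complex with good terms and torsion cohomology is quasi-isomorphic to any subcomplex formed by
its torsion sections. -/
theorem quasiIso_of_torsion_range {L : CochainComplex (ModSite.Mod O) ℤ} (g : L ⟶ K)
    [∀ p, Mono (g.f p)]
    (hg : ∀ p V (s : Sec (K.X p) V), (∃ s', appL (g.f p) V s' = s) ↔ FTors.IsTorsSect I (K.X p) s)
    {𝒜 : Set (Datum I)} (h𝒜 : Covers 𝒜) (hK : ∀ p, GoodOn 𝒜 (K.X p))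
    (hH : ∀ p, FTors.IsTors I (K.homology p)) : QuasiIso g := by
  refine quasiIso_of_elem _ (fun p V z hz x hx => ?_) (fun p V z hz hb x hx => ?_)
  · obtain ⟨D, hD, hxU⟩ := h𝒜 x
    obtain ⟨W, hW, hxW, z', y, hu, he⟩ :=
      (upto_induction D (fun q => hK q D hD) (classTors_of_isTors hH D) D.r le_rfl).1 p (V ⊓ D.U)
        inf_le_right _ (hz.res inf_le_left) x ⟨hx, hxU⟩
    obtain ⟨z'', rfl⟩ := (hg p W z').2 (isTorsSect_of_upto hu)
    rw [res_res] at he
    refine ⟨W, hW.trans inf_le_left, z'', hxW, ?_, ?_⟩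
    · refine injective_of_mono (g.f (p + 1)) W ?_
      have e := congrArg (appL (K.d p (p + 1)) W) he
      rw [map_sub, appL_d_d, (hz.res _ :), zero_sub, neg_eq_zero] at e
      rw [map_zero, ← appL_comp, ← g.comm, appL_comp, e]
    · rw [he]
      exact locLift_of_mem ⟨y, rfl⟩
  · obtain ⟨D, hD, hxU⟩ := h𝒜 x
    obtain ⟨W₀, h₀, y, hx₀, hy⟩ := hb x hx
    let W₁ := W₀ ⊓ D.U
    have hu : Upto D D.r (inf_le_right : W₁ ≤ D.U)
        (appL (K.d (p - 1) p) W₁ (FMod90.res _ inf_le_left y)) := by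
      rw [← res_appL, hy, res_res, res_appL]
      exact upto_of_isTorsSect ((hg p W₁ _).1 ⟨_, rfl⟩) _ _
    obtain ⟨W, hW, hxW, y', hu', he⟩ :=
      (upto_induction D (fun q => hK q D hD) (classTors_of_isTors hH D) D.r le_rfl).2 (p - 1) p
        (by omega) W₁ inf_le_right _ hu x ⟨hx₀, hxU⟩
    obtain ⟨y'', rfl⟩ := (hg (p - 1) W y').2 (isTorsSect_of_upto hu')
    refine ⟨W, hW.trans (inf_le_left.trans h₀), y'', hxW, ?_⟩
    refine injective_of_mono (g.f p) W ?_
    rw [← appL_comp, ← g.comm, appL_comp, ← he, ← res_appL (K.d (p - 1) p), hy, res_res, res_res,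
      ← res_appL (g.f p)]

/-- A complex with good terms and torsion cohomology is quasi-isomorphic to its torsion subcomplex. -/
theorem quasiIso_gammaC {𝒜 : Set (Datum I)} (h𝒜 : Covers 𝒜) (hK : ∀ p, GoodOn 𝒜 (K.X p))
    (hH : ∀ p, FTors.IsTors I (K.homology p)) : QuasiIso (gammaC I K) := by
  have : ∀ p, Mono ((gammaC I K).f p) := fun p => by
    rw [gammaC_f]
    exact mono_gammaι_app _
  refine quasiIso_of_torsion_range (gammaC I K) (fun p V s => ?_) h𝒜 hK hH
  rw [gammaC_f]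
  exact ⟨by rintro ⟨s', rfl⟩; exact s'.2, fun h => ⟨⟨s, h⟩, rfl⟩⟩

end Groth.Agent.FTors52
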