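import Groth.Agent.FTors52.KappaGen
import Groth.Agent.FTors52.Key

/-!
# Torsion modules on a scheme and on its completion

The direct and inverse image along the completion morphism are inverse equivalences between the modules
killed locally by powers of the ideal and the torsion modules on the completion.
-/

set_option autoImplicit false

universe u

open CategoryTheory CategoryTheory.Limits AlgebraicGeometry Opposite TopologicalSpace

namespace Groth.Agent.FTors52

open FMod90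

variable {X : Scheme.{u}} {𝓘 : X.IdealSheafData} {hX : (FSch.completionAlong X 𝓘).IsFormal}

/-- A section is killed on an affine open by a power of the ideal. -/
def Kd (N : ModSite.Mod X.sheaf) (k : ℕ) {U : X.Opens} (n : Sec N U) (W : X.affineOpens)
    (hW : (W : X.Opens) ≤ U) : Prop :=
  ∀ g : Ring X.sheaf W.1, g ∈ 𝓘.ideal W ^ (k + 1) → g • res N hW n = 0

theorem Kd.res {N : ModSite.Mod X.sheaf} {k : ℕ} {U : X.Opens} {n : Sec N U} {W W' : X.affineOpens}
    {hW : (W : X.Opens) ≤ U} (h : Kd (𝓘 := 𝓘) N k n W hW) (hWW : (W' : X.Opens) ≤ W) :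
    Kd (𝓘 := 𝓘) N k n W' (hWW.trans hW) := fun g hg => by
  rw [← 𝓘.map_ideal hWW, ← Ideal.map_pow] at hg
  rw [← res_res hW hWW]
  induction hg using Submodule.span_induction with
  | mem g hg =>
    obtain ⟨g', hg', rfl⟩ := hg
    change rres X.sheaf hWW g' • FMod90.res N hWW (FMod90.res N hW n) = 0
    rw [← res_smul', h g' hg', res_zero]
  | zero => exact zero_smul _ _
  | add a b _ _ ha hb => exact (add_smul _ _ _).trans ((congrArg₂ (· + ·) ha hb).trans (add_zero _))
  | smul c a _ ha =>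
    exact (mul_smul (show Ring X.sheaf W'.1 from c) a _).trans
      ((congrArg ((show Ring X.sheaf W'.1 from c) • ·) ha).trans (smul_zero _))

theorem Kd.smul {N : ModSite.Mod X.sheaf} {k : ℕ} {U : X.Opens} {n : Sec N U} {W : X.affineOpens}
    {hW : (W : X.Opens) ≤ U} (h : Kd (𝓘 := 𝓘) N k n W hW) {m : Sec N U} (a : Ring X.sheaf W.1)
    (hm : FMod90.res N hW m = a • FMod90.res N hW n) : Kd (𝓘 := 𝓘) N k m W hW := fun g hg => by
  rw [hm, smul_comm, h g hg, smul_zero]

theorem mem_powIdealFam_affine {n : ℕ} {W : X.affineOpens} {g : Ring X.sheaf W.1}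
    (hg : g ∈ 𝓘.ideal W ^ n) : g ∈ (FTors.powIdealFam X 𝓘).ideal n W :=
  (FTors.mem_powIdealFam_iff X 𝓘 n W g).2 fun W' hW' => by
    rw [← 𝓘.map_ideal hW', ← Ideal.map_pow]
    exact Ideal.mem_map_of_mem _ hg

theorem exists_kd {N : ModSite.Mod X.sheaf} (hN : FTors.IsTorsZp X 𝓘 N) {U : X.Opens} (n : Sec N U)
    {y : X} (hy : y ∈ U) : ∃ (W : X.affineOpens) (hW : (W : X.Opens) ≤ U), y ∈ W.1 ∧
      ∃ k, Kd (𝓘 := 𝓘) N k n W hW := by
  obtain ⟨V, hV, hyV, k, hk⟩ := (isTorsSect_iff_exists n).1 (hN U n) y hy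
  obtain ⟨W, hW, hyW, hWV⟩ := Opens.isBasis_iff_nbhd.1 X.isBasis_affineOpens hyV
  refine ⟨⟨W, hW⟩, hWV.trans hV, hyW, k, fun g hg => ?_⟩
  have := (hk.mono (Nat.le_succ k)) (homOfLE hWV) g (mem_powIdealFam_affine (W := ⟨W, hW⟩) hg)
  rw [ftors_res_eq, res_res] at this
  exact this

theorem eq_zero_of_disjoint {N : ModSite.Mod X.sheaf} (hN : FTors.IsTorsZp X 𝓘 N) {U : X.Opens}
    (h : tr X 𝓘 U = ⊥) (n : Sec N U) : n = 0 :=
  eq_zero_of_locally fun y hy => by
    obtain ⟨V, hV, hyV, k, hk⟩ := (isTorsSect_iff_exists n).1 (hN U n) y hy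
    refine ⟨V, hV, hyV, ?_⟩
    have := hk (𝟙 V) 1 (one_mem_pow_of_disjoint k (le_bot_iff.1 ((tr_mono hV).trans h.le)))
    rwa [one_smul, FTors.res_id] at this

theorem pr_sub_le {V : ((FSch.completionAlong X 𝓘).X 0).Opens} {k k' : ℕ} (hk : k ≤ k')
    {b : Ring ((FSch.completionAlong X 𝓘).Osh hX) V} (hb : pr hX V k' b = 0) : pr hX V k b = 0 := by
  induction k', hk using Nat.le_induction with
  | base => exact hb
  | succ m _ ih => exact ih (by rw [← ρ_pr hX V m, hb, map_zero])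

variable [IsLocallyNoetherian X]

/-- Over the trace of an affine open, sections annihilated by the powers of the ideal are killed by the
open ideal. -/
theorem smul_eq_zero_of_pow {M : FSch.ModF (FSch.completionAlong X 𝓘) hX} {n : ℕ} {W : X.affineOpens}
    {s : Sec M (tr X 𝓘 W)} (h : ∀ g ∈ 𝓘.ideal W ^ (n + 1), sh X 𝓘 hX W g • s = 0)
    {b : Ring ((FSch.completionAlong X 𝓘).Osh hX) (tr X 𝓘 W)} (hb : pr hX (tr X 𝓘 W) n b = 0) :
    b • s = 0 := by
  have hb' := mem_map_of_pr_eq_zero hX hb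
  clear hb
  induction hb' using Submodule.span_induction with
  | mem b hb =>
    obtain ⟨g, hg, rfl⟩ := hb
    exact h g hg
  | zero => exact zero_smul _ _
  | add a b _ _ ha hb => rw [add_smul, ha, hb, add_zero]
  | smul c a _ ha => rw [smul_eq_mul, mul_smul, ha, smul_zero]

omit [IsLocallyNoetherian X] in
theorem push_smul (M : FSch.ModF (FSch.completionAlong X 𝓘) hX) {U : X.Opens} (a : Ring X.sheaf U)
    (s : Sec ((κ X 𝓘 hX).push.obj M) U) :
    (a • s : Sec ((κ X 𝓘 hX).push.obj M) U) =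
      (sh X 𝓘 hX U a • (show Sec M (tr X 𝓘 U) from s) : Sec M (tr X 𝓘 U)) := rfl

omit [IsLocallyNoetherian X] in
/-- The direct image of a torsion module is torsion. -/
theorem isTors_push {M : FSch.ModF (FSch.completionAlong X 𝓘) hX}
    (hM : FTors.IsTorsF (FSch.completionAlong X 𝓘) hX M) :
    FTors.IsTorsZp X 𝓘 ((κ X 𝓘 hX).push.obj M) := fun U s =>
  (isTorsSect_iff_exists (O := X.sheaf) s).2 fun y hy => by
  by_cases hyZ : y ∈ Set.range (FSch.completionToX X 𝓘 0).base
  · obtain ⟨x, rfl⟩ := hyZ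
    obtain ⟨V, hV, hxV, k, hk⟩ :=
      (isTorsSect_iff_exists (show Sec M (tr X 𝓘 U) from s)).1 (hM _ s) x hy
    refine ⟨ext V ⊓ U, inf_le_right, ⟨(show x ∈ tr X 𝓘 (ext V) from (tr_ext V).symm ▸ hxV), hy⟩,
      k + 1, fun W g a ha => ?_⟩
    rw [ftors_res_eq, res_res]
    have hWV : tr X 𝓘 W ≤ V :=
      (tr_mono ((leOfHom g).trans inf_le_left)).trans (tr_ext V).le
    have := hk (homOfLE hWV) (sh X 𝓘 hX W a) (sh_mem_open hX ha)
    rw [ftors_res_eq, res_res] at this
    exact this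
  · refine ⟨⟨(Set.range (FSch.completionToX X 𝓘 0).base)ᶜ,
      isClosedEmbedding_base.isClosed_range.isOpen_compl⟩ ⊓ U, inf_le_right, ⟨hyZ, hy⟩, 0,
      fun W g a _ => ?_⟩
    have hbot : tr X 𝓘 W = ⊥ := le_bot_iff.1 fun x hx => ((leOfHom g) hx).1 ⟨x, rfl⟩
    have h0 : ∀ t : Sec M (tr X 𝓘 W), t = 0 := fun t =>
      eq_zero_of_locally fun z hz => absurd hz (hbot ▸ id)
    exact h0 _

/-- Sections of a module over the two ways of writing an open. -/
noncomputable abbrev resExt {M : FSch.ModF (FSch.completionAlong X 𝓘) hX}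
    (V : ((FSch.completionAlong X 𝓘).X 0).Opens) (s : Sec M V) : Sec M (tr X 𝓘 (ext V)) :=
  res M (tr_ext V).le s

omit [IsLocallyNoetherian X] in
theorem push_map_injective {M M' : FSch.ModF (FSch.completionAlong X 𝓘) hX} (φ φ' : M ⟶ M')
    (h : (κ X 𝓘 hX).push.map φ = (κ X 𝓘 hX).push.map φ') : φ = φ' :=
  hom_ext fun V s => by
    have h1 : appL φ (tr X 𝓘 (ext V)) (resExt V s) = appL φ' (tr X 𝓘 (ext V)) (resExt V s) :=
      congrArg (fun ψ => appL ψ (ext V) (resExt V s : Sec ((κ X 𝓘 hX).push.obj M) (ext V))) h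
    have h2 := congrArg (res M' (tr_ext V).ge) h1
    simp only [resExt, res_appL, res_res, res_refl] at h2
    exact h2

/-- The direct image is full on torsion modules. -/
theorem exists_push_map_eq {M M' : FSch.ModF (FSch.completionAlong X 𝓘) hX}
    (hM : FTors.IsTorsF (FSch.completionAlong X 𝓘) hX M)
    (ψ : (κ X 𝓘 hX).push.obj M ⟶ (κ X 𝓘 hX).push.obj M') :
    ∃ φ : M ⟶ M', (κ X 𝓘 hX).push.map φ = ψ := by
  let f : ∀ V, Sec M V → Sec M' V := fun V s =>
    res M' (tr_ext V).ge (appL ψ (ext V) (resExt V s : Sec ((κ X 𝓘 hX).push.obj M) (ext V)))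
  have hψ : ∀ (U : X.Opens) (V : ((FSch.completionAlong X 𝓘).X 0).Opens) (hU : U ≤ ext V)
      (hUV : tr X 𝓘 U ≤ V) (s : Sec M V),
      res M' hUV (f V s) = appL ψ U (res M hUV s : Sec ((κ X 𝓘 hX).push.obj M) U) := by
    intro U V hU hUV s
    have h1 := res_appL ψ hU (resExt V s : Sec ((κ X 𝓘 hX).push.obj M) (ext V))
    refine Eq.trans (res_res _ _ _) ?_
    refine Eq.trans h1 ?_
    exact congrArg (appL ψ U) (res_res (tr_ext V).le (tr_mono hU) s)
  have hadd : ∀ V (s t : Sec M V), f V (s + t) = f V s + f V t := fun V s t => by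
    simp only [f, resExt, map_add]
    erw [map_add, map_add]
  have hsmul : ∀ V (b : Ring ((FSch.completionAlong X 𝓘).Osh hX) V) (s : Sec M V),
      f V (b • s) = b • f V s := fun V b s => eq_of_locally fun x hx => by
    obtain ⟨V₁, hV₁, hx₁, n, hn⟩ := (isTorsSect_iff_exists s).1 (hM V s) x hx
    have hx₂ : (FSch.completionToX X 𝓘 0).base x ∈ ext V₁ :=
      (show x ∈ tr X 𝓘 (ext V₁) from (tr_ext V₁).symm ▸ hx₁)
    obtain ⟨W, hW, hWU, hxW, a, ha⟩ := exists_approx hX b n hx hx₂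
    refine ⟨tr X 𝓘 W, hW, hxW, ?_⟩
    have hWext : (W : X.Opens) ≤ ext V := le_ext hW
    have hW₁ : tr X 𝓘 W ≤ V₁ := (tr_mono hWU).trans (tr_ext V₁).le
    have hkill : ∀ c, pr hX (tr X 𝓘 W) n c = 0 → c • res M hW s = 0 := fun c hc => by
      have := hn (homOfLE hW₁) c hc
      rw [ftors_res_eq, res_res] at this
      exact this
    have hg : ∀ g ∈ 𝓘.ideal W ^ (n + 1),
        sh X 𝓘 hX W g • res M' hW (f V s) = 0 := fun g hg => by
      rw [hψ W V hWext hW s]
      have h1 := (appL ψ W).map_smul g (res M hW s : Sec ((κ X 𝓘 hX).push.obj M) W.1)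
      refine Eq.trans h1.symm ?_
      rw [push_smul, hkill _ ((pr_sh_eq_zero_iff hX n W g).2 hg)]
      exact map_zero _
    have hc := smul_eq_zero_of_pow hg ha
    rw [hψ W V hWext hW, res_smul']
    conv_rhs => rw [res_smul', show rres _ hW b = sh X 𝓘 hX W a - (sh X 𝓘 hX W a - rres _ hW b) from
      (sub_sub_cancel _ _).symm, sub_smul, hc, sub_zero]
    rw [show rres _ hW b = sh X 𝓘 hX W a - (sh X 𝓘 hX W a - rres _ hW b) from
      (sub_sub_cancel _ _).symm, sub_smul, hkill _ ha, sub_zero, hψ W V hWext hW s]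
    exact (appL ψ W).map_smul a (res M hW s : Sec ((κ X 𝓘 hX).push.obj M) W.1)
  let φ : M ⟶ M' := mkHom
    (fun V => { toFun := f V, map_add' := hadd V, map_smul' := hsmul V })
    (fun V V' h s => eq_of_locally fun x hx => by
      refine ⟨tr X 𝓘 (ext V'), (tr_ext V').le, (tr_ext V').symm ▸ hx, ?_⟩
      change res M' (tr_ext V').le (res M' h (f V s)) =
        res M' (tr_ext V').le (f V' (res M h s))
      rw [hψ (ext V') V' le_rfl, res_res h, hψ (ext V') V (ext_mono h), res_res])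
  refine ⟨φ, hom_ext fun U s => ?_⟩
  have h1 := hψ U (tr X 𝓘 U) (le_ext le_rfl) le_rfl (s : Sec M (tr X 𝓘 U))
  rw [res_refl, res_refl] at h1
  exact h1

/-- The counit is an isomorphism at torsion modules. -/
theorem isIso_counit_of_isTors {M : FSch.ModF (FSch.completionAlong X 𝓘) hX}
    (hM : FTors.IsTorsF (FSch.completionAlong X 𝓘) hX M) :
    IsIso ((κ X 𝓘 hX).adj.counit.app M) := by
  refine isIso_of_coyoneda_map_bijective _ fun M' => ?_
  have e : (fun φ : M ⟶ M' => (κ X 𝓘 hX).adj.counit.app M ≫ φ) =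
      ((κ X 𝓘 hX).adj.homEquiv _ _).symm ∘ (κ X 𝓘 hX).push.map := by
    funext φ
    rw [Function.comp_apply, Adjunction.homEquiv_counit]
    exact ((κ X 𝓘 hX).adj.counit.naturality φ).symm
  exact e ▸ ((κ X 𝓘 hX).adj.homEquiv _ _).symm.bijective.comp
    ⟨fun φ φ' h => push_map_injective φ φ' h, exists_push_map_eq hM⟩

section Construction

variable {N : ModSite.Mod X.sheaf} (hN : FTors.IsTorsZp X 𝓘 N)

/-- A section of the scheme approximates a section of the completion for the action on `n`. -/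
def Approx {V : ((FSch.completionAlong X 𝓘).X 0).Opens}
    (b : Ring ((FSch.completionAlong X 𝓘).Osh hX) V) (n : Sec N (ext V)) (W : X.affineOpens)
    (hW : (W : X.Opens) ≤ ext V) (a : Ring X.sheaf W.1) : Prop :=
  ∃ k, Kd (𝓘 := 𝓘) N k n W hW ∧
    pr hX (tr X 𝓘 W) k (sh X 𝓘 hX W a - rres _ ((tr_mono hW).trans (tr_ext V).le) b) = 0

/-- The relation defining the action. -/
def Act {V : ((FSch.completionAlong X 𝓘).X 0).Opens}
    (b : Ring ((FSch.completionAlong X 𝓘).Osh hX) V) (n m : Sec N (ext V)) : Prop :=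
  ∀ (W : X.affineOpens) (hW : (W : X.Opens) ≤ ext V) (a : Ring X.sheaf W.1),
    Approx b n W hW a → res N hW m = a • res N hW n

omit [IsLocallyNoetherian X] in
theorem Approx.res {V : ((FSch.completionAlong X 𝓘).X 0).Opens}
    {b : Ring ((FSch.completionAlong X 𝓘).Osh hX) V} {n : Sec N (ext V)} {W W' : X.affineOpens}
    {hW : (W : X.Opens) ≤ ext V} {a : Ring X.sheaf W.1} (h : Approx b n W hW a)
    (hWW : (W' : X.Opens) ≤ W) :
    Approx b n W' (hWW.trans hW) (rres X.sheaf hWW a) := by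
  obtain ⟨k, hk, hp⟩ := h
  refine ⟨k, hk.res hWW, ?_⟩
  have := pr_rres_eq_zero hX k hp (tr_mono hWW)
  rwa [map_sub, sh_rres, rres_rres] at this

include hN

omit [IsLocallyNoetherian X] in
theorem approx_compat {V : ((FSch.completionAlong X 𝓘).X 0).Opens}
    {b : Ring ((FSch.completionAlong X 𝓘).Osh hX) V} {n : Sec N (ext V)} {W : X.affineOpens}
    {hW : (W : X.Opens) ≤ ext V} {a a' : Ring X.sheaf W.1} (h : Approx b n W hW a)
    (h' : Approx b n W hW a') : a • res N hW n = a' • res N hW n := by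
  obtain ⟨k, hk, hp⟩ := h
  obtain ⟨k', hk', hp'⟩ := h'
  rw [← sub_eq_zero, ← sub_smul]
  rcases le_total k k' with hle | hle
  · refine hk _ ((pr_sh_eq_zero_iff hX k W _).1 ?_)
    have h2 := pr_sub_le hle hp'
    rw [map_sub, map_sub, ← sub_sub_sub_cancel_right _ _
      (pr hX (tr X 𝓘 W) k (rres _ ((tr_mono hW).trans (tr_ext V).le) b))]
    rw [map_sub] at hp h2
    rw [hp, h2, sub_zero]
  · refine hk' _ ((pr_sh_eq_zero_iff hX k' W _).1 ?_)
    have h2 := pr_sub_le hle hp
    rw [map_sub, map_sub, ← sub_sub_sub_cancel_right _ _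
      (pr hX (tr X 𝓘 W) k' (rres _ ((tr_mono hW).trans (tr_ext V).le) b))]
    rw [map_sub] at hp' h2
    rw [hp', h2, sub_zero]

/-- Near every point there are approximations of two sections, compatible with finitely many elements. -/
theorem exists_approx₂ {V : ((FSch.completionAlong X 𝓘).X 0).Opens}
    (b b' : Ring ((FSch.completionAlong X 𝓘).Osh hX) V) (n n' : Sec N (ext V)) {y : X}
    (hy : y ∈ ext V) {U : X.Opens} (hyU : y ∈ U) :
    ∃ (W : X.affineOpens) (hW : (W : X.Opens) ≤ ext V), (W : X.Opens) ≤ U ∧ y ∈ W.1 ∧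
      ∃ (k : ℕ) (a a' : Ring X.sheaf W.1), Kd (𝓘 := 𝓘) N k n W hW ∧ Kd (𝓘 := 𝓘) N k n' W hW ∧
        pr hX (tr X 𝓘 W) k (sh X 𝓘 hX W a - rres _ ((tr_mono hW).trans (tr_ext V).le) b) = 0 ∧
        pr hX (tr X 𝓘 W) k (sh X 𝓘 hX W a' - rres _ ((tr_mono hW).trans (tr_ext V).le) b') = 0 := by
  by_cases hyZ : y ∈ Set.range (FSch.completionToX X 𝓘 0).base
  · obtain ⟨x, rfl⟩ := hyZ
    have hxV : x ∈ V := (tr_ext V) ▸ (show x ∈ tr X 𝓘 (ext V) from hy)
    obtain ⟨W₁, hW₁, hy₁, k₁, hk₁⟩ := exists_kd hN n hy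
    obtain ⟨W₂, hW₂, hy₂, k₂, hk₂⟩ := exists_kd hN n' hy
    obtain ⟨W₃, hW₃V, hW₃, hy₃, a, ha⟩ :=
      exists_approx hX b (max k₁ k₂) hxV (U := W₁.1 ⊓ W₂.1 ⊓ U) ⟨⟨hy₁, hy₂⟩, hyU⟩
    obtain ⟨W, hWV, hW₄, hyW, a', ha'⟩ := exists_approx hX b' (max k₁ k₂) hxV (U := W₃.1) hy₃
    have h₁ : (W : X.Opens) ≤ W₁.1 := hW₄.trans (hW₃.trans (inf_le_left.trans inf_le_left))
    have h₂ : (W : X.Opens) ≤ W₂.1 := hW₄.trans (hW₃.trans (inf_le_left.trans inf_le_right))
    refine ⟨W, h₁.trans hW₁, hW₄.trans (hW₃.trans inf_le_right), hyW, max k₁ k₂,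
      rres X.sheaf hW₄ a, a', fun g hg => (hk₁.res h₁) g (Ideal.pow_le_pow_right
        (Nat.succ_le_succ (le_max_left _ _)) hg), fun g hg => (hk₂.res h₂) g (Ideal.pow_le_pow_right
        (Nat.succ_le_succ (le_max_right _ _)) hg), ?_, ha'⟩
    have := pr_rres_eq_zero hX _ ha (tr_mono hW₄)
    rwa [map_sub, sh_rres, rres_rres] at this
  · let off : X.Opens := ⟨(Set.range (FSch.completionToX X 𝓘 0).base)ᶜ,
      isClosedEmbedding_base.isClosed_range.isOpen_compl⟩
    obtain ⟨W, hW, hyW, hWle⟩ := Opens.isBasis_iff_nbhd.1 X.isBasis_affineOpens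
      (show y ∈ (off ⊓ ext V) ⊓ U from ⟨⟨hyZ, hy⟩, hyU⟩)
    have hbot : tr X 𝓘 W = ⊥ := le_bot_iff.1 fun x hx => ((hWle hx).1).1 ⟨x, rfl⟩
    refine ⟨⟨W, hW⟩, hWle.trans (inf_le_left.trans inf_le_right), hWle.trans inf_le_right, hyW, 0, 0,
      0, fun g _ => ?_, fun g _ => ?_, ?_, ?_⟩
    · rw [eq_zero_of_disjoint hN hbot (res N _ n), smul_zero]
    · rw [eq_zero_of_disjoint hN hbot (res N _ n'), smul_zero]
    all_goals exact pr_eq_zero_of_locally hX 0 _ fun x hx => absurd hx (hbot ▸ id)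

theorem exists_act {V : ((FSch.completionAlong X 𝓘).X 0).Opens}
    (b : Ring ((FSch.completionAlong X 𝓘).Osh hX) V) (n : Sec N (ext V)) :
    ∃ m, Act b n m := by
  have hcov : ∀ y : (ext V : X.Opens), ∃ (W : X.affineOpens) (hW : (W : X.Opens) ≤ ext V),
      y.1 ∈ W.1 ∧ ∃ a, Approx b n W hW a := fun y => by
    obtain ⟨W, hW, -, hy, k, a, -, hk, -, ha, -⟩ := exists_approx₂ hN b b n n y.2 y.2
    exact ⟨W, hW, hy, a, k, hk, ha⟩
  choose W hW hy a ha using hcov
  have hcompat : ∀ {W₁ W₂ : X.affineOpens} (h₁ : (W₁ : X.Opens) ≤ ext V)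
      (h₂ : (W₂ : X.Opens) ≤ ext V) (a₁ : Ring X.sheaf W₁.1) (a₂ : Ring X.sheaf W₂.1),
      Approx b n W₁ h₁ a₁ → Approx b n W₂ h₂ a₂ →
        res N inf_le_left (a₁ • res N h₁ n) =
          res N (inf_le_right : W₁.1 ⊓ W₂.1 ≤ W₂.1) (a₂ • res N h₂ n) := by
    intro W₁ W₂ h₁ h₂ a₁ a₂ ha₁ ha₂
    refine eq_of_locally fun y hy => ?_
    obtain ⟨W, hW, hyW, hWle⟩ := Opens.isBasis_iff_nbhd.1 X.isBasis_affineOpens hy
    refine ⟨W, hWle, hyW, ?_⟩
    rw [res_res, res_res, res_smul', res_smul', res_res, res_res]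
    exact approx_compat hN (ha₁.res (W' := ⟨W, hW⟩) (hWle.trans inf_le_left))
      (ha₂.res (W' := ⟨W, hW⟩) (hWle.trans inf_le_right))
  obtain ⟨m, hm⟩ := exists_glue (M := N) (fun y => (W y).1) hW
    (fun y hyV => Opens.mem_iSup.2 ⟨⟨y, hyV⟩, hy _⟩) (fun y => a y • res N (hW y) n)
    (fun y y' => hcompat _ _ _ _ (ha y) (ha y'))
  refine ⟨m, fun W₀ hW₀ a₀ ha₀ => eq_of_locally fun y hy₀ => ?_⟩
  let y' : (ext V : X.Opens) := ⟨y, hW₀ hy₀⟩
  refine ⟨W₀.1 ⊓ (W y').1, inf_le_left, ⟨hy₀, hy y'⟩, ?_⟩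
  rw [res_res, hcompat hW₀ (hW y') a₀ _ ha₀ (ha y'), ← hm y', res_res]

theorem act_unique {V : ((FSch.completionAlong X 𝓘).X 0).Opens}
    {b : Ring ((FSch.completionAlong X 𝓘).Osh hX) V} {n m m' : Sec N (ext V)} (hm : Act b n m)
    (hm' : Act b n m') : m = m' := eq_of_locally fun y hy => by
  obtain ⟨W, hW, -, hyW, k, a, -, hk, -, ha, -⟩ := exists_approx₂ hN b b n n hy hy
  exact ⟨W.1, hW, hyW, (hm W hW a ⟨k, hk, ha⟩).trans (hm' W hW a ⟨k, hk, ha⟩).symm⟩

/-- The action of a section of the completion. -/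
noncomputable def actFun {V : ((FSch.completionAlong X 𝓘).X 0).Opens}
    (b : Ring ((FSch.completionAlong X 𝓘).Osh hX) V) (n : Sec N (ext V)) : Sec N (ext V) :=
  (exists_act hN b n).choose

theorem act_actFun {V : ((FSch.completionAlong X 𝓘).X 0).Opens}
    (b : Ring ((FSch.completionAlong X 𝓘).Osh hX) V) (n : Sec N (ext V)) :
    Act b n (actFun hN b n) :=
  (exists_act hN b n).choose_spec

theorem res_actFun {V : ((FSch.completionAlong X 𝓘).X 0).Opens}
    {b : Ring ((FSch.completionAlong X 𝓘).Osh hX) V} {n : Sec N (ext V)} {W : X.affineOpens}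
    {hW : (W : X.Opens) ≤ ext V} {a : Ring X.sheaf W.1} {k : ℕ} (hk : Kd (𝓘 := 𝓘) N k n W hW)
    (ha : pr hX (tr X 𝓘 W) k (sh X 𝓘 hX W a - rres _ ((tr_mono hW).trans (tr_ext V).le) b) = 0) :
    res N hW (actFun hN b n) = a • res N hW n :=
  act_actFun hN b n W hW a ⟨k, hk, ha⟩

/-- Sections over the largest opens form a module over the completion. -/
noncomputable def instModule (V : ((FSch.completionAlong X 𝓘).X 0).Opens) :
    Module (Ring ((FSch.completionAlong X 𝓘).Osh hX) V) (Sec N (ext V)) where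
  smul := actFun hN
  one_smul n := eq_of_locally fun y hy => by
    obtain ⟨W, hW, -, hyW, k, -, -, hk, -, -, -⟩ := exists_approx₂ (hX := hX) hN 1 1 n n hy hy
    refine ⟨W.1, hW, hyW, (res_actFun hN hk (a := 1) ?_).trans (one_smul _ _)⟩
    rw [map_one, map_one, sub_self, map_zero]
  mul_smul b b' n := eq_of_locally fun y hy => by
    obtain ⟨W, hW, -, hyW, k, a, a', hk, -, ha, ha'⟩ := exists_approx₂ hN b b' n n hy hy
    have h1 := res_actFun hN hk ha'
    refine ⟨W.1, hW, hyW, (res_actFun hN hk (a := a * a') ?_).trans ?_⟩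
    · rw [map_sub, sub_eq_zero] at ha ha' ⊢
      rw [map_mul, map_mul, map_mul, map_mul, ha, ha']
    · rw [mul_smul, ← h1]
      exact (res_actFun hN (hk.smul a' h1) ha).symm
  smul_zero b := eq_of_locally fun y hy => by
    obtain ⟨W, hW, -, hyW, k, a, -, hk, -, ha, -⟩ := exists_approx₂ hN b b (0 : Sec N (ext V)) 0 hy hy
    refine ⟨W.1, hW, hyW, (res_actFun hN hk ha).trans ?_⟩
    rw [res_zero, smul_zero]
  smul_add b n n' := eq_of_locally fun y hy => by
    obtain ⟨W, hW, -, hyW, k, a, -, hk, hk', ha, -⟩ := exists_approx₂ hN b b n n' hy hy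
    refine ⟨W.1, hW, hyW, (res_actFun hN (n := n + n') (k := k) (fun g hg => ?_) ha).trans ?_⟩
    · rw [map_add, smul_add, hk g hg, hk' g hg, add_zero]
    · rw [map_add, smul_add, ← res_actFun hN hk ha, ← res_actFun hN hk' ha, ← map_add]
      rfl
  add_smul b b' n := eq_of_locally fun y hy => by
    obtain ⟨W, hW, -, hyW, k, a, a', hk, -, ha, ha'⟩ := exists_approx₂ hN b b' n n hy hy
    refine ⟨W.1, hW, hyW, (res_actFun hN hk (a := a + a') ?_).trans ?_⟩
    · rw [map_sub, sub_eq_zero] at ha ha' ⊢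
      rw [map_add, map_add, map_add, map_add, ha, ha']
    · rw [add_smul, ← res_actFun hN hk ha, ← res_actFun hN hk ha', ← map_add]
      rfl
  zero_smul n := eq_of_locally fun y hy => by
    obtain ⟨W, hW, -, hyW, k, -, -, hk, -, -, -⟩ := exists_approx₂ (hX := hX) hN 0 0 n n hy hy
    refine ⟨W.1, hW, hyW, (res_actFun hN hk (a := 0) ?_).trans ((zero_smul _ _).trans (res_zero _).symm)⟩
    rw [map_zero, map_zero, sub_self, map_zero]

variable (hX)

/-- The presheaf of sections over the largest opens. -/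
noncomputable def trPre (_hX : (FSch.completionAlong X 𝓘).IsFormal)
    (_hN : FTors.IsTorsZp X 𝓘 N) : ((FSch.completionAlong X 𝓘).X 0).Opensᵒᵖ ⥤ Ab.{u} where
  obj V := AddCommGrpCat.of (Sec N (ext V.unop))
  map f := AddCommGrpCat.ofHom (res N (ext_mono (leOfHom f.unop)))
  map_id V := by
    ext s
    exact res_refl _ s
  map_comp f g := by
    ext s
    exact (res_res _ _ s).symm

noncomputable instance trPre_module (V : ((FSch.completionAlong X 𝓘).X 0).Opensᵒᵖ) :
    Module ((ModSite.ringSh ((FSch.completionAlong X 𝓘).Osh hX)).obj.obj V) ((trPre hX hN).obj V) :=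
  instModule hN V.unop

theorem trPre_map_smul ⦃V V' : ((FSch.completionAlong X 𝓘).X 0).Opensᵒᵖ⦄ (f : V ⟶ V')
    (b : (ModSite.ringSh ((FSch.completionAlong X 𝓘).Osh hX)).obj.obj V)
    (n : (trPre hX hN).obj V) :
    (trPre hX hN).map f (b • n) =
      (ModSite.ringSh ((FSch.completionAlong X 𝓘).Osh hX)).obj.map f b • (trPre hX hN).map f n := by
  have hle := leOfHom f.unop
  change res N (ext_mono hle) (actFun hN b n) = actFun hN (rres _ hle b) (res N (ext_mono hle) n)
  refine eq_of_locally fun y hy => ?_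
  obtain ⟨W, hW, -, hyW, k, a, -, hk, -, ha, -⟩ := exists_approx₂ hN (rres _ hle b) (rres _ hle b)
    (res N (ext_mono hle) n) (res N (ext_mono hle) n) hy hy
  refine ⟨W.1, hW, hyW, ?_⟩
  rw [res_res, res_actFun hN hk ha, res_res]
  refine res_actFun hN (k := k) (fun g hg => ?_) ?_
  · have := hk g hg
    rwa [res_res] at this
  · rwa [rres_rres] at ha

/-- The torsion module on the completion with the given direct image. -/
noncomputable def trMod : FSch.ModF (FSch.completionAlong X 𝓘) hX where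
  val := PresheafOfModules.ofPresheaf (trPre hX hN) (trPre_map_smul hX hN)
  isSheaf := by
    refine (TopCat.Presheaf.isSheaf_iff_isSheafUniqueGluing
      (X := ((FSch.completionAlong X 𝓘).X 0).toPresheafedSpace.carrier) (trPre hX hN)).2
      fun ι V sf hsf => ?_
    let off : X.Opens := ⟨(Set.range (FSch.completionToX X 𝓘 0).base)ᶜ,
      isClosedEmbedding_base.isClosed_range.isOpen_compl⟩
    have hcov : ∀ y ∈ ext (iSup V), (∃ i, y ∈ ext (V i)) ∨ y ∈ off := by
      intro y hy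
      by_cases hyZ : y ∈ Set.range (FSch.completionToX X 𝓘 0).base
      · obtain ⟨x, rfl⟩ := hyZ
        obtain ⟨i, hi⟩ := Opens.mem_iSup.1
          ((tr_ext (iSup V)) ▸ (show x ∈ tr X 𝓘 (ext (iSup V)) from hy))
        exact Or.inl ⟨i, (show x ∈ tr X 𝓘 (ext (V i)) from (tr_ext (V i)).symm ▸ hi)⟩
      · exact Or.inr hyZ
    have hoff : ∀ (U : X.Opens), U ≤ off → tr X 𝓘 U = ⊥ :=
      fun U hU => le_bot_iff.1 fun x hx => hU hx ⟨x, rfl⟩
    obtain ⟨t, ht⟩ := exists_glue (M := N) (U := ext (iSup V))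
      (fun o : Option ι => o.elim (off ⊓ ext (iSup V)) fun i => ext (V i))
      (fun o => by cases o with
        | none => exact inf_le_right
        | some i => exact ext_mono (le_iSup V i))
      (fun y hy => Opens.mem_iSup.2 (by
        rcases hcov y hy with ⟨i, hi⟩ | hy'
        · exact ⟨some i, hi⟩
        · exact ⟨none, hy', hy⟩))
      (fun o => by cases o with
        | none => exact 0
        | some i => exact sf i)
      (fun o o' => by
        rcases o with _ | i
        · exact (eq_zero_of_disjoint hN (hoff _ (inf_le_left.trans inf_le_left)) _).trans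
            (eq_zero_of_disjoint hN (hoff _ (inf_le_left.trans inf_le_left)) _).symm
        · rcases o' with _ | i'
          · exact (eq_zero_of_disjoint hN (hoff _ (inf_le_right.trans inf_le_left)) _).trans
              (eq_zero_of_disjoint hN (hoff _ (inf_le_right.trans inf_le_left)) _).symm
          · refine eq_of_locally fun y hy => ⟨ext (V i ⊓ V i') ⊓ (ext (V i) ⊓ ext (V i')),
              inf_le_right, ⟨?_, hy⟩, ?_⟩
            · rintro ⟨x, hx, rfl⟩
              exact hx ⟨(tr_ext (V i)) ▸ (show x ∈ tr X 𝓘 (ext (V i)) from hy.1),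
                (tr_ext (V i')) ▸ (show x ∈ tr X 𝓘 (ext (V i')) from hy.2)⟩
            · have h1 : res N (ext_mono inf_le_left) (sf i) =
                  res N (ext_mono (inf_le_right : V i ⊓ V i' ≤ V i')) (sf i') := hsf i i'
              have h2 := congrArg (res N (inf_le_left : ext (V i ⊓ V i') ⊓ (ext (V i) ⊓ ext (V i')) ≤ _)) h1
              rw [res_res, res_res] at h2
              rw [res_res, res_res]
              exact h2)
    refine ⟨t, fun i => ht (some i), fun t' ht' => eq_of_locally fun y hy => ?_⟩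
    rcases hcov y hy with ⟨i, hi⟩ | hy'
    · exact ⟨ext (V i), ext_mono (le_iSup V i), hi, (ht' i).trans (ht (some i)).symm⟩
    · exact ⟨off ⊓ ext (iSup V), inf_le_right, ⟨hy', hy⟩,
        (eq_zero_of_disjoint hN (hoff _ inf_le_left) _).trans
          (eq_zero_of_disjoint hN (hoff _ inf_le_left) _).symm⟩

theorem isTors_trMod : FTors.IsTorsF (FSch.completionAlong X 𝓘) hX (trMod hX hN) := fun V n =>
  (isTorsSect_iff_exists n).2 fun x hx => by
    obtain ⟨W, hW, hxW, k, hk⟩ := exists_kd hN (n : Sec N (ext V))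
      (show (FSch.completionToX X 𝓘 0).base x ∈ ext V from
        (show x ∈ tr X 𝓘 (ext V) from (tr_ext V).symm ▸ hx))
    refine ⟨tr X 𝓘 W, (tr_mono hW).trans (tr_ext V).le, hxW, k, fun V' g c hc => ?_⟩
    change actFun hN c (res N (ext_mono (leOfHom g))
      (res N (ext_mono ((tr_mono hW).trans (tr_ext V).le)) (n : Sec N (ext V)))) = 0
    refine eq_of_locally fun y hy => ?_
    obtain ⟨W', hW', hW'le, hyW, l, a, -, hl, -, ha, -⟩ := exists_approx₂ hN c c
      (res N (ext_mono (leOfHom g))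
        (res N (ext_mono ((tr_mono hW).trans (tr_ext V).le)) (n : Sec N (ext V))))
      (res N (ext_mono (leOfHom g))
        (res N (ext_mono ((tr_mono hW).trans (tr_ext V).le)) (n : Sec N (ext V)))) hy hy
    by_cases hyZ : y ∈ Set.range (FSch.completionToX X 𝓘 0).base
    · obtain ⟨z, rfl⟩ := hyZ
      have hz : (FSch.completionToX X 𝓘 0).base z ∈ W.1 :=
        (leOfHom g) ((tr_ext V') ▸ (show z ∈ tr X 𝓘 (ext V') from hy))
      obtain ⟨W'', hW'', hzW, hle⟩ := Opens.isBasis_iff_nbhd.1 X.isBasis_affineOpens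
        (show (FSch.completionToX X 𝓘 0).base z ∈ W.1 ⊓ ext V' from ⟨hz, hy⟩)
      refine ⟨W'', hle.trans inf_le_right, hzW, ?_⟩
      refine ((res_actFun hN (W := ⟨W'', hW''⟩) (hW := hle.trans inf_le_right) (a := 0) (k := k)
        ?_ ?_).trans (zero_smul _ _)).trans (res_zero _).symm
      · intro g' hg'
        rw [res_res, res_res]
        exact hk.res (hle.trans inf_le_left) g' hg'
      · rw [map_zero, zero_sub, map_neg, neg_eq_zero]
        exact pr_rres_eq_zero hX k hc _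
    · refine ⟨ext V' ⊓ ⟨(Set.range (FSch.completionToX X 𝓘 0).base)ᶜ,
        isClosedEmbedding_base.isClosed_range.isOpen_compl⟩, inf_le_left, ⟨hy, hyZ⟩, ?_⟩
      have hb : tr X 𝓘 (ext V' ⊓ ⟨(Set.range (FSch.completionToX X 𝓘 0).base)ᶜ,
          isClosedEmbedding_base.isClosed_range.isOpen_compl⟩) = ⊥ :=
        le_bot_iff.1 fun z hz => hz.2 ⟨z, rfl⟩
      exact (eq_zero_of_disjoint hN hb _).trans (eq_zero_of_disjoint hN hb _).symm

/-- The direct image of the constructed module is the given module. -/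
theorem nonempty_push_trMod_iso : Nonempty ((κ X 𝓘 hX).push.obj (trMod hX hN) ≅ N) := by
  let φ : (κ X 𝓘 hX).push.obj (trMod hX hN) ⟶ N := mkHom
    (fun U =>
      { toFun := fun s => res N (le_ext le_rfl) (s : Sec N (ext (tr X 𝓘 U)))
        map_add' := fun s t => map_add (res N (le_ext (le_rfl : tr X 𝓘 U ≤ tr X 𝓘 U)))
          (s : Sec N (ext (tr X 𝓘 U))) t
        map_smul' := fun a s => by
          change res N (le_ext le_rfl) (actFun hN (sh X 𝓘 hX U a) (s : Sec N (ext (tr X 𝓘 U)))) =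
            a • res N (le_ext le_rfl) (s : Sec N (ext (tr X 𝓘 U)))
          refine eq_of_locally fun y hy => ?_
          obtain ⟨W, hW, hWU, hyW, k, -, -, hk, -, -, -⟩ := exists_approx₂ (hX := hX) hN 0 0
            (s : Sec N (ext (tr X 𝓘 U))) s (le_ext le_rfl hy) hy
          refine ⟨W.1, hWU, hyW, ?_⟩
          rw [res_res, res_smul', res_res]
          refine res_actFun hN hk ?_
          rw [sh_rres hX hWU, sub_self, map_zero] })
    (fun U U' h s => by
      change res N h (res N (le_ext le_rfl) (show Sec N (ext (tr X 𝓘 U)) from s)) =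
        res N (le_ext le_rfl) (res N (ext_mono (tr_mono h)) (show Sec N (ext (tr X 𝓘 U)) from s))
      rw [res_res, res_res])
  have : IsIso φ := by
    refine isIso_of_isBasis φ X.isBasis_affineOpens fun U _ => ⟨fun s t hst => ?_, fun n => ?_⟩
    · have key : ∀ s t : Sec N (ext (tr X 𝓘 U)),
          res N (le_ext le_rfl) s = res N (le_ext (le_rfl : tr X 𝓘 U ≤ tr X 𝓘 U)) t → s = t := by
        intro s t hst
        refine eq_of_locally fun y hy => ?_
        by_cases hyZ : y ∈ Set.range (FSch.completionToX X 𝓘 0).base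
        · obtain ⟨x, rfl⟩ := hyZ
          have h : x ∈ tr X 𝓘 (ext (tr X 𝓘 U)) := hy
          rw [tr_ext] at h
          exact ⟨U, le_ext le_rfl, h, hst⟩
        · let W : X.Opens := ext (tr X 𝓘 U) ⊓ ⟨(Set.range (FSch.completionToX X 𝓘 0).base)ᶜ,
            isClosedEmbedding_base.isClosed_range.isOpen_compl⟩
          have hb : tr X 𝓘 W = ⊥ := le_bot_iff.1 fun z hz => hz.2 ⟨z, rfl⟩
          exact ⟨W, inf_le_left, ⟨hy, hyZ⟩,
            (eq_zero_of_disjoint hN hb _).trans (eq_zero_of_disjoint hN hb _).symm⟩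
      exact key s t hst
    · let off : X.Opens := ext (tr X 𝓘 U) ⊓ ⟨(Set.range (FSch.completionToX X 𝓘 0).base)ᶜ,
        isClosedEmbedding_base.isClosed_range.isOpen_compl⟩
      have hoff : tr X 𝓘 off = ⊥ := le_bot_iff.1 fun z hz => hz.2 ⟨z, rfl⟩
      obtain ⟨t, ht⟩ := exists_glue (M := N) (U := ext (tr X 𝓘 U))
        (fun o : ULift.{u} Bool => cond o.down U off)
        (fun o => by rcases o with ⟨_ | _⟩; exacts [inf_le_left, le_ext le_rfl])
        (fun y hy => Opens.mem_iSup.2 (by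
          by_cases hyZ : y ∈ Set.range (FSch.completionToX X 𝓘 0).base
          · obtain ⟨x, rfl⟩ := hyZ
            have h : x ∈ tr X 𝓘 (ext (tr X 𝓘 U)) := hy
            rw [tr_ext] at h
            exact ⟨⟨true⟩, h⟩
          · exact ⟨⟨false⟩, hy, hyZ⟩))
        (fun o => by rcases o with ⟨_ | _⟩; exacts [0, n])
        (fun o o' => by
          rcases o with ⟨_ | _⟩ <;> rcases o' with ⟨_ | _⟩
          all_goals first
            | rfl
            | exact (eq_zero_of_disjoint hN (le_bot_iff.1 ((tr_mono inf_le_left).trans hoff.le)) _).trans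
                (eq_zero_of_disjoint hN (le_bot_iff.1 ((tr_mono inf_le_left).trans hoff.le)) _).symm
            | exact (eq_zero_of_disjoint hN (le_bot_iff.1 ((tr_mono inf_le_right).trans hoff.le)) _).trans
                (eq_zero_of_disjoint hN (le_bot_iff.1 ((tr_mono inf_le_right).trans hoff.le)) _).symm)
      exact ⟨t, ht ⟨true⟩⟩
  exact ⟨asIso φ⟩

end Construction

/-- The inverse image of a module killed locally by powers of the ideal is torsion, and the unit there is an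
isomorphism. -/
theorem isTors_pull_and_isIso_unit {N : ModSite.Mod X.sheaf} (hN : FTors.IsTorsZp X 𝓘 N) :
    FTors.IsTorsF (FSch.completionAlong X 𝓘) hX ((κ X 𝓘 hX).pull.obj N) ∧
      IsIso ((κ X 𝓘 hX).adj.unit.app N) := by
  obtain ⟨e⟩ := nonempty_push_trMod_iso hX hN
  have hM := isTors_trMod hX hN
  have hc := isIso_counit_of_isTors hM
  constructor
  · exact isTors_of_epi ((asIso ((κ X 𝓘 hX).adj.counit.app (trMod hX hN))).symm ≪≫
      (κ X 𝓘 hX).pull.mapIso e).hom hM
  · rw [← NatTrans.isIso_app_iff_of_iso (κ X 𝓘 hX).adj.unit e]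
    have : IsIso ((κ X 𝓘 hX).adj.unit.app ((κ X 𝓘 hX).push.obj (trMod hX hN)) ≫
        (κ X 𝓘 hX).push.map ((κ X 𝓘 hX).adj.counit.app (trMod hX hN))) := by
      rw [(κ X 𝓘 hX).adj.right_triangle_components]
      exact IsIso.id _
    exact IsIso.of_isIso_comp_right _ ((κ X 𝓘 hX).push.map ((κ X 𝓘 hX).adj.counit.app (trMod hX hN)))

end Groth.Agent.FTors52
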