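import Groth.Agent.FTors52.Elem
import Mathlib.Algebra.Category.ModuleCat.Presheaf.Submodule

/-!
# Submodules given by sections, and restriction to an open

Two constructions of sheaves of modules on a ringed space.
-/

set_option autoImplicit false

universe u

open CategoryTheory CategoryTheory.Limits Opposite TopologicalSpace

namespace Groth.Agent.FTors52

open FMod90

variable {T : TopCat.{u}} {O : Sheaf (Opens.grothendieckTopology T) CommRingCat.{u}}

/-- A family of submodules of sections, stable under restriction and of local nature. -/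
structure SubMod (M : ModSite.Mod O) where
  /-- the sections of the submodule -/
  mem : ∀ U : Opens T, Submodule (Ring O U) (Sec M U)
  map_mem : ∀ {U V : Opens T} (h : V ≤ U) {s : Sec M U}, s ∈ mem U → res M h s ∈ mem V
  of_locally : ∀ (U : Opens T) (s : Sec M U),
    (∀ x ∈ U, ∃ (V : Opens T) (h : V ≤ U), x ∈ V ∧ res M h s ∈ mem V) → s ∈ mem U

variable {M : ModSite.Mod O} (N : SubMod M)

/-- The family as a submodule of the presheaf of modules. -/
noncomputable def SubMod.sub : M.val.Submodule where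
  obj U :=
    { carrier := {s | (show Sec M U.unop from s) ∈ N.mem U.unop}
      zero_mem' := (N.mem U.unop).zero_mem
      add_mem' := fun ha hb => (N.mem U.unop).add_mem ha hb
      smul_mem' := fun c _ ha => (N.mem U.unop).smul_mem (show Ring O U.unop from c) ha }
  map {U V} f := fun s hs => N.map_mem (leOfHom f.unop) hs

theorem SubMod.isSheaf :
    Presheaf.IsSheaf (Opens.grothendieckTopology T) N.sub.toPresheafOfModules.presheaf := by
  refine (TopCat.Presheaf.isSheaf_iff_isSheafUniqueGluing (X := T)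
    (N.sub.toPresheafOfModules.presheaf)).2 fun ι U sf hsf => ?_
  obtain ⟨s, hs⟩ := exists_glue (M := M) U (le_iSup U) le_rfl (fun i => (sf i).1)
    (fun i j => congrArg Subtype.val (hsf i j))
  have hmem : s ∈ N.mem (iSup U) := N.of_locally _ s fun x hx => by
    obtain ⟨i, hi⟩ := Opens.mem_iSup.1 hx
    exact ⟨U i, le_iSup U i, hi, by rw [hs i]; exact (sf i).2⟩
  exact ⟨⟨s, hmem⟩, fun i => Subtype.ext (hs i), fun t ht => Subtype.ext (eq_of_locally fun x hx => by
    obtain ⟨i, hi⟩ := Opens.mem_iSup.1 hx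
    exact ⟨U i, le_iSup U i, hi, (congrArg Subtype.val (ht i)).trans (hs i).symm⟩)⟩

/-- The submodule as a sheaf of modules. -/
noncomputable def SubMod.toMod : ModSite.Mod O :=
  ⟨N.sub.toPresheafOfModules, N.isSheaf⟩

/-- The inclusion. -/
noncomputable def SubMod.ι : N.toMod ⟶ M :=
  ⟨N.sub.ι⟩

instance SubMod.mono_ι : Mono N.ι := mono_of_injective _ fun _ _ _ h => Subtype.ext h

theorem SubMod.exists_lift_iff {U : Opens T} (s : Sec M U) :
    (∃ t, appL N.ι U t = s) ↔ s ∈ N.mem U :=
  ⟨fun ⟨t, ht⟩ => ht ▸ t.2, fun hs => ⟨⟨s, hs⟩, rfl⟩⟩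

variable (M) (W : Opens T)

/-- The sections over the trace on `W`. -/
noncomputable def resPre : (Opens T)ᵒᵖ ⥤ Ab.{u} where
  obj U := AddCommGrpCat.of (Sec M (U.unop ⊓ W))
  map f := AddCommGrpCat.ofHom (res M (inf_le_inf_right W (leOfHom f.unop)))
  map_id U := by
    ext s
    exact res_refl _ s
  map_comp f g := by
    ext s
    exact (res_res _ _ s).symm

noncomputable instance resPre_module (U : (Opens T)ᵒᵖ) :
    Module ((ModSite.ringSh O).obj.obj U) ((resPre M W).obj U) :=
  Module.compHom (Sec M (U.unop ⊓ W)) (rres O (inf_le_left : U.unop ⊓ W ≤ U.unop))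

theorem resPre_map_smul ⦃U V : (Opens T)ᵒᵖ⦄ (f : U ⟶ V) (a : (ModSite.ringSh O).obj.obj U)
    (s : (resPre M W).obj U) :
    (resPre M W).map f (a • s) = (ModSite.ringSh O).obj.map f a • (resPre M W).map f s := by
  change res M (inf_le_inf_right W (leOfHom f.unop))
      (rres O (inf_le_left : U.unop ⊓ W ≤ U.unop) (show Ring O U.unop from a) •
        (show Sec M (U.unop ⊓ W) from s)) =
    rres O (inf_le_left : V.unop ⊓ W ≤ V.unop) (rres O (leOfHom f.unop) (show Ring O U.unop from a)) •
      res M (inf_le_inf_right W (leOfHom f.unop)) (show Sec M (U.unop ⊓ W) from s)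
  rw [FMod90.res_smul, rres_rres, rres_rres]

/-- The restriction of a module to an open, pushed forward. -/
noncomputable def resMod : ModSite.Mod O where
  val := PresheafOfModules.ofPresheaf (resPre M W) (resPre_map_smul M W)
  isSheaf := by
    refine (TopCat.Presheaf.isSheaf_iff_isSheafUniqueGluing (X := T) (resPre M W)).2
      fun ι U sf hsf => ?_
    obtain ⟨t, ht⟩ := exists_glue (M := M) (U := iSup U ⊓ W) (fun i => U i ⊓ W)
      (fun i => inf_le_inf_right W (le_iSup U i))
      (fun x hx => by
        obtain ⟨i, hi⟩ := Opens.mem_iSup.1 hx.1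
        exact Opens.mem_iSup.2 ⟨i, hi, hx.2⟩)
      sf (fun i j => eq_of_locally fun x hx => ⟨(U i ⊓ U j) ⊓ W,
        le_inf (inf_le_inf_right W inf_le_left) (inf_le_inf_right W inf_le_right),
        ⟨⟨hx.1.1, hx.2.1⟩, hx.1.2⟩, by
          rw [res_res, res_res]
          exact hsf i j⟩)
    exact ⟨t, ht, fun t' ht' => eq_of_locally fun x hx => by
      obtain ⟨i, hi⟩ := Opens.mem_iSup.1 hx.1
      exact ⟨U i ⊓ W, inf_le_inf_right W (le_iSup U i), ⟨hi, hx.2⟩, (ht' i).trans (ht i).symm⟩⟩

variable {W}

/-- Multiplication by a power of a section over `W` after restriction to `W`. -/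
noncomputable def mulRes (τ : Ring O W) : M ⟶ resMod M W :=
  mkHom (fun U =>
    { toFun := fun s => ((rres O (inf_le_right : U ⊓ W ≤ W) τ • res M (inf_le_left : U ⊓ W ≤ U) s :
        Sec M (U ⊓ W)) : Sec (resMod M W) U)
      map_add' := fun s t => by
        rw [map_add, smul_add]
        rfl
      map_smul' := fun a s => by
        change rres O (inf_le_right : U ⊓ W ≤ W) τ • res M (inf_le_left : U ⊓ W ≤ U) (a • s) =
          rres O (inf_le_left : U ⊓ W ≤ U) a •
            (rres O (inf_le_right : U ⊓ W ≤ W) τ • res M (inf_le_left : U ⊓ W ≤ U) s)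
        rw [FMod90.res_smul, smul_comm] })
    (fun U V h s => by
      change res M (inf_le_inf_right W h)
          (rres O (inf_le_right : U ⊓ W ≤ W) τ • res M (inf_le_left : U ⊓ W ≤ U) s) =
        rres O (inf_le_right : V ⊓ W ≤ W) τ • res M inf_le_left (res M h s)
      rw [FMod90.res_smul, rres_rres, res_res, res_res])

theorem appL_mulRes (τ : Ring O W) {U : Opens T} (s : Sec M U) :
    (appL (mulRes M τ) U s : Sec M (U ⊓ W)) =
      rres O (inf_le_right : U ⊓ W ≤ W) τ • res M inf_le_left s := rfl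

theorem appL_mulRes_mul (τ : Ring O W) {U : Opens T} (hU : U ≤ W) (s : Sec M U) :
    appL (mulRes M τ) U s = rres O hU τ • appL (mulRes M (1 : Ring O W)) U s := by
  change rres O (inf_le_right : U ⊓ W ≤ W) τ • res M inf_le_left s =
    rres O (inf_le_left : U ⊓ W ≤ U) (rres O hU τ) •
      (rres O (inf_le_right : U ⊓ W ≤ W) 1 • res M (inf_le_left : U ⊓ W ≤ U) s)
  rw [rres_rres, map_one, one_smul]

theorem appL_mulRes_eq_zero_iff (τ : Ring O W) {U : Opens T} (hU : U ≤ W) (s : Sec M U) :
    appL (mulRes M τ) U s = 0 ↔ rres O hU τ • s = 0 := by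
  change rres O (inf_le_right : U ⊓ W ≤ W) τ • res M inf_le_left s = (0 : Sec M (U ⊓ W)) ↔ _
  constructor
  · intro h
    refine eq_zero_of_locally fun x hx => ⟨U ⊓ W, inf_le_left, ⟨hx, hU hx⟩, ?_⟩
    rw [FMod90.res_smul, rres_rres]
    exact h
  · intro h
    rw [← rres_rres hU (inf_le_left : U ⊓ W ≤ U), ← FMod90.res_smul, h, res_zero]

end Groth.Agent.FTors52
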