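import Groth.Agent.FTors52.KappaData
import Groth.Agent.FTors52.KappaTors
import Groth.Agent.FTors52.SubMod

/-!
# Direct and inverse image along the completion and the acyclicity condition

Both functors preserve good modules, and, when the inverse image is exact, they commute with the
formation of torsion sections.
-/

set_option autoImplicit false

universe u

open CategoryTheory CategoryTheory.Limits AlgebraicGeometry Opposite TopologicalSpace

namespace Groth.Agent.FTors52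

open FMod90

variable {X : Scheme.{u}} [IsLocallyNoetherian X] {𝓘 : X.IdealSheafData}
  {hX : (FSch.completionAlong X 𝓘).IsFormal}

/-- The unit on sections. -/
noncomputable def ηs (M : ModSite.Mod X.sheaf) (U : X.Opens) (m : Sec M U) :
    Sec ((κ X 𝓘 hX).pull.obj M) (tr X 𝓘 U) :=
  appL ((κ X 𝓘 hX).adj.unit.app M) U m

omit [IsLocallyNoetherian X] in
theorem ηs_res (M : ModSite.Mod X.sheaf) {U U' : X.Opens} (h : U' ≤ U) (m : Sec M U) :
    res _ (tr_mono h) (ηs (hX := hX) M U m) = ηs M U' (res M h m) :=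
  res_appL ((κ X 𝓘 hX).adj.unit.app M) h m

omit [IsLocallyNoetherian X] in
theorem ηs_smul (M : ModSite.Mod X.sheaf) {U : X.Opens} (a : Ring X.sheaf U) (m : Sec M U) :
    ηs (hX := hX) M U (a • m) = sh X 𝓘 hX U a • ηs M U m :=
  (appL ((κ X 𝓘 hX).adj.unit.app M) U).map_smul a m

omit [IsLocallyNoetherian X] in
theorem appL_pull_ηs {M M' : ModSite.Mod X.sheaf} (φ : M ⟶ M') (U : X.Opens) (m : Sec M U) :
    appL ((κ X 𝓘 hX).pull.map φ) (tr X 𝓘 U) (ηs M U m) = ηs M' U (appL φ U m) :=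
  (congrArg (fun ψ => appL ψ U m) ((κ X 𝓘 hX).adj.unit.naturality φ)).symm

omit [IsLocallyNoetherian X] in
theorem mem_ext_iff (V : ((FSch.completionAlong X 𝓘).X 0).Opens) (x : (FSch.completionAlong X 𝓘).X 0) :
    (FSch.completionToX X 𝓘 0).base x ∈ ext V ↔ x ∈ V := by
  conv_rhs => rw [← tr_ext V]
  exact Iff.rfl

/-- A section is, near every point, a combination of images of sections of the scheme. -/
def GenAt {M : ModSite.Mod X.sheaf} {V : ((FSch.completionAlong X 𝓘).X 0).Opens}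
    (s : Sec ((κ X 𝓘 hX).pull.obj M) V) : Prop :=
  ∀ x ∈ V, ∀ U : X.Opens, (FSch.completionToX X 𝓘 0).base x ∈ U →
    ∃ (W : X.affineOpens) (hW : tr X 𝓘 W ≤ V), (W : X.Opens) ≤ U ∧
      (FSch.completionToX X 𝓘 0).base x ∈ W.1 ∧
      res _ hW s ∈ Submodule.span (Ring ((FSch.completionAlong X 𝓘).Osh hX) (tr X 𝓘 W))
        (Set.range (ηs (hX := hX) M W.1))

omit [IsLocallyNoetherian X] in
theorem mem_span_res {M : ModSite.Mod X.sheaf} {W W' : X.Opens} (h : W' ≤ W)
    {s : Sec ((κ X 𝓘 hX).pull.obj M) (tr X 𝓘 W)}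
    (hs : s ∈ Submodule.span (Ring ((FSch.completionAlong X 𝓘).Osh hX) (tr X 𝓘 W))
      (Set.range (ηs (hX := hX) M W))) :
    res _ (tr_mono h) s ∈ Submodule.span (Ring ((FSch.completionAlong X 𝓘).Osh hX) (tr X 𝓘 W'))
      (Set.range (ηs (hX := hX) M W')) := by
  induction hs using Submodule.span_induction with
  | mem s hs =>
    obtain ⟨m, rfl⟩ := hs
    exact Submodule.subset_span ⟨res M h m, (ηs_res M h m).symm⟩
  | zero => rw [FTors52.res_zero]; exact Submodule.zero_mem _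
  | add a b _ _ ha hb => rw [map_add]; exact Submodule.add_mem _ ha hb
  | smul c a _ ha => rw [FMod90.res_smul]; exact Submodule.smul_mem _ _ ha

omit [IsLocallyNoetherian X] in
theorem exists_affine_at {U : X.Opens} {y : X} (hy : y ∈ U) :
    ∃ W : X.affineOpens, (W : X.Opens) ≤ U ∧ y ∈ W.1 := by
  obtain ⟨W, hW, hyW, hWU⟩ := Opens.isBasis_iff_nbhd.1 X.isBasis_affineOpens hy
  exact ⟨⟨W, hW⟩, hWU, hyW⟩

variable (hX) in
/-- The submodule of the sections which are locally combinations of images. -/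
noncomputable def genSub (M : ModSite.Mod X.sheaf) : SubMod ((κ X 𝓘 hX).pull.obj M) where
  mem V :=
    { carrier := {s | GenAt s}
      zero_mem' := fun x hx U hU => by
        obtain ⟨W, hW, hy⟩ := exists_affine_at
          (show (FSch.completionToX X 𝓘 0).base x ∈ ext V ⊓ U from ⟨(mem_ext_iff V x).2 hx, hU⟩)
        exact ⟨W, (tr_mono (hW.trans inf_le_left)).trans (tr_ext V).le, hW.trans inf_le_right, hy,
          by rw [FTors52.res_zero]; exact Submodule.zero_mem _⟩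
      add_mem' := fun {s t} hs ht x hx U hU => by
        obtain ⟨W₁, h₁, hU₁, hx₁, hm₁⟩ := hs x hx U hU
        obtain ⟨W, h₂, hW, hx₂, hm₂⟩ := ht x hx W₁.1 hx₁
        refine ⟨W, h₂, hW.trans hU₁, hx₂, ?_⟩
        rw [map_add]
        refine Submodule.add_mem _ ?_ hm₂
        have := mem_span_res hW hm₁
        rwa [res_res] at this
      smul_mem' := fun a s hs x hx U hU => by
        obtain ⟨W, hW, hU', hxW, hm⟩ := hs x hx U hU
        exact ⟨W, hW, hU', hxW, by rw [FMod90.res_smul]; exact Submodule.smul_mem _ _ hm⟩ }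
  map_mem {V V'} h {s} hs x hx U hU := by
    obtain ⟨W, hW, hU', hxW, hm⟩ := hs x (h hx) (ext V' ⊓ U) ⟨(mem_ext_iff V' x).2 hx, hU⟩
    refine ⟨W, (tr_mono (hU'.trans inf_le_left)).trans (tr_ext V').le, hU'.trans inf_le_right,
      hxW, ?_⟩
    rw [res_res]
    exact hm
  of_locally V s hs x hx U hU := by
    obtain ⟨V', h, hxV, hg⟩ := hs x hx
    obtain ⟨W, hW, hU', hxW, hm⟩ := hg x hxV U hU
    rw [res_res] at hm
    exact ⟨W, hW.trans h, hU', hxW, hm⟩

omit [IsLocallyNoetherian X] in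
/-- Sections of an inverse image are locally combinations of images. -/
theorem genAt_all {M : ModSite.Mod X.sheaf} {V : ((FSch.completionAlong X 𝓘).X 0).Opens}
    (s : Sec ((κ X 𝓘 hX).pull.obj M) V) : GenAt s := by
  let S := genSub hX M
  have hq : cokernel.π S.ι = 0 := by
    refine ((κ X 𝓘 hX).adj.homEquiv M _).injective (hom_ext fun U m => ?_)
    rw [Adjunction.homEquiv_unit, Adjunction.homEquiv_unit, appL_comp, Functor.map_zero]
    have hmem : ηs (hX := hX) M U m ∈ S.mem (tr X 𝓘 U) := fun x hx U' hU' => by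
      obtain ⟨W, hW, hy⟩ := exists_affine_at
        (show (FSch.completionToX X 𝓘 0).base x ∈ U ⊓ U' from ⟨hx, hU'⟩)
      exact ⟨W, tr_mono (hW.trans inf_le_left), hW.trans inf_le_right, hy,
        Submodule.subset_span ⟨res M (hW.trans inf_le_left) m,
          (ηs_res M (hW.trans inf_le_left) m).symm⟩⟩
    obtain ⟨t, ht⟩ := (S.exists_lift_iff _).2 hmem
    change appL (cokernel.π S.ι) (tr X 𝓘 U) (ηs M U m) = 0
    rw [← ht, ← appL_comp, cokernel.condition, appL_zero]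
  haveI : Epi S.ι := Abelian.epi_of_cokernel_π_eq_zero _ hq
  exact (S.exists_lift_iff s).1 (exists_lift_of_mono S.ι (locLift_of_epi S.ι s))

omit [IsLocallyNoetherian X] in
/-- Multiplication after restriction, on an inverse image. -/
theorem appL_pull_mulRes {M : ModSite.Mod X.sheaf} {W : X.affineOpens} (τ : Ring X.sheaf W.1)
    {V : ((FSch.completionAlong X 𝓘).X 0).Opens} (hV : V ≤ tr X 𝓘 W)
    (y : Sec ((κ X 𝓘 hX).pull.obj M) V) :
    appL ((κ X 𝓘 hX).pull.map (mulRes M τ)) V y =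
      rres _ hV (sh X 𝓘 hX W τ) • appL ((κ X 𝓘 hX).pull.map (mulRes M (1 : Ring X.sheaf W.1))) V y := by
  refine eq_of_locally fun x hx => ?_
  obtain ⟨W', hW', hWW, hxW, hm⟩ := genAt_all y x hx W.1 (hV hx)
  refine ⟨tr X 𝓘 W', hW', hxW, ?_⟩
  rw [res_appL, FMod90.res_smul, res_appL, rres_rres]
  generalize res ((κ X 𝓘 hX).pull.obj M) hW' y = z at hm ⊢
  induction hm using Submodule.span_induction with
  | mem s hs =>
    obtain ⟨m, rfl⟩ := hs
    rw [appL_pull_ηs, appL_pull_ηs, appL_mulRes_mul M τ hWW, ηs_smul, ← sh_rres hX hWW]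
  | zero => rw [map_zero, map_zero, smul_zero]
  | add a b _ _ ha hb => rw [map_add, map_add, smul_add, ha, hb]
  | smul c a _ ha => rw [map_smul, map_smul, ha, smul_comm]

section Exact

variable [PreservesFiniteLimits (κ X 𝓘 hX).pull]

omit [IsLocallyNoetherian X] in
theorem mono_pull_map {M M' : ModSite.Mod X.sheaf} (φ : M ⟶ M') [Mono φ] :
    Mono ((κ X 𝓘 hX).pull.map φ) := inferInstance

/-- Killed sections of an inverse image come from killed sections. -/
theorem exists_killed_lift (M : ModSite.Mod X.sheaf) (W : X.affineOpens) (k : ℕ)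
    {V : ((FSch.completionAlong X 𝓘).X 0).Opens} (hV : V ≤ tr X 𝓘 W)
    (s : Sec ((κ X 𝓘 hX).pull.obj M) V) :
    ∀ j, Kill (cplDatum hX W) j k hV s → ∃ (K : ModSite.Mod X.sheaf) (i : K ⟶ M) (_ : Mono i),
      (∀ (U : X.Opens) (hU : U ≤ W.1) (y : Sec K U), Kill (schDatum X 𝓘 W) j k hU (appL i U y)) ∧
      ∃ s', appL ((κ X 𝓘 hX).pull.map i) V s' = s := by
  intro j
  induction j with
  | zero =>
    exact fun _ => ⟨M, 𝟙 M, inferInstance, fun U hU y i hi => absurd hi (Nat.not_lt_zero _), s,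
      by rw [CategoryTheory.Functor.map_id, appL_id]⟩
  | succ j ih =>
    intro hs
    obtain ⟨K, i, hi, hK, s', rfl⟩ := ih fun l hl => hs l (Nat.lt_succ_of_lt hl)
    by_cases hj : j < numGen (𝓘 := 𝓘) W
    · let φ : K ⟶ resMod M W.1 := i ≫ mulRes M (gen (𝓘 := 𝓘) W ⟨j, hj⟩ ^ k)
      refine ⟨kernel φ, kernel.ι φ ≫ i, inferInstance, fun U hU y l hl => ?_, ?_⟩
      · rw [appL_comp]
        rcases Nat.lt_succ_iff_lt_or_eq.1 hl with hl' | hl'
        · exact hK U hU _ l hl'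
        · obtain rfl : l = ⟨j, hj⟩ := Fin.ext hl'
          have h0 : appL φ U (appL (kernel.ι φ) U y) = 0 := appL_kernel_condition φ y
          rw [show appL φ U (appL (kernel.ι φ) U y) =
            appL (mulRes M _) U (appL i U (appL (kernel.ι φ) U y)) from appL_comp _ _ _ _,
            appL_mulRes_eq_zero_iff M _ hU, map_pow] at h0
          exact h0
      · have h0 : appL ((κ X 𝓘 hX).pull.map φ) V s' = 0 := by
          rw [Functor.map_comp, appL_comp, appL_pull_mulRes _ hV, ← (appL ((κ X 𝓘 hX).pull.map _) V).map_smul,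
            map_pow, map_pow]
          have h1 := hs ⟨j, hj⟩ (Nat.lt_succ_self j)
          exact (congrArg (appL _ V) h1).trans (map_zero _)
        have hex : (ShortComplex.mk ((κ X 𝓘 hX).pull.map (kernel.ι φ)) ((κ X 𝓘 hX).pull.map φ)
            (by rw [← Functor.map_comp, kernel.condition, Functor.map_zero])).Exact :=
          ShortComplex.exact_of_f_is_kernel _
            (KernelFork.mapIsLimit _ (kernelIsKernel φ) (κ X 𝓘 hX).pull)
        obtain ⟨t, ht⟩ := exists_lift_of_mono ((κ X 𝓘 hX).pull.map (kernel.ι φ))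
          (locLift_of_exact hex h0)
        exact ⟨t, by rw [Functor.map_comp, appL_comp, ht]⟩
    · exact ⟨K, i, hi, fun U hU y l _ => hK U hU y l (lt_of_lt_of_le l.isLt (le_of_not_gt hj)),
        s', rfl⟩

/-- A killed section of an inverse image is locally a combination of images of killed sections. -/
theorem exists_killed_gen {M : ModSite.Mod X.sheaf} {W : X.affineOpens} {j k : ℕ}
    {V : ((FSch.completionAlong X 𝓘).X 0).Opens} {hV : V ≤ tr X 𝓘 W}
    {s : Sec ((κ X 𝓘 hX).pull.obj M) V} (hs : Kill (cplDatum hX W) j k hV s)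
    {x : (FSch.completionAlong X 𝓘).X 0} (hx : x ∈ V) :
    ∃ (W' : X.affineOpens) (hW' : tr X 𝓘 W' ≤ V) (hWW : (W' : X.Opens) ≤ W.1),
      (FSch.completionToX X 𝓘 0).base x ∈ W'.1 ∧
      res _ hW' s ∈ Submodule.span (Ring ((FSch.completionAlong X 𝓘).Osh hX) (tr X 𝓘 W'))
        (ηs (hX := hX) M W'.1 '' {m | Kill (schDatum X 𝓘 W) j k hWW m}) := by
  obtain ⟨K, i, _, hK, s', rfl⟩ := exists_killed_lift M W k hV s j hs
  obtain ⟨W', hW', hWW, hxW, hm⟩ := genAt_all s' x hx W.1 (hV hx)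
  refine ⟨W', hW', hWW, hxW, ?_⟩
  rw [res_appL]
  have := Submodule.mem_map_of_mem (f := appL ((κ X 𝓘 hX).pull.map i) (tr X 𝓘 W')) hm
  rw [Submodule.map_span, ← Set.range_comp] at this
  refine Submodule.span_mono ?_ this
  rintro _ ⟨m, rfl⟩
  exact ⟨appL i W'.1 m, hK _ hWW m, (appL_pull_ηs i W'.1 m).symm⟩

omit [PreservesFiniteLimits (κ X 𝓘 hX).pull] in
theorem kill_ηs {M : ModSite.Mod X.sheaf} {W : X.affineOpens} {j k : ℕ} {U : X.Opens} {hU : U ≤ W.1}
    {m : Sec M U} (hm : Kill (schDatum X 𝓘 W) j k hU m) :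
    Kill (cplDatum hX W) j k (tr_mono hU) (ηs (hX := hX) M U m) := fun i hi => by
  change rres _ (tr_mono hU) (sh X 𝓘 hX W (gen W i)) ^ k • ηs M U m = 0
  rw [sh_rres, ← map_pow, ← ηs_smul]
  exact (congrArg (ηs M U) (hm i hi)).trans (map_zero _)

omit [PreservesFiniteLimits (κ X 𝓘 hX).pull] in
theorem upto_ηs {M : ModSite.Mod X.sheaf} {W : X.affineOpens} {j : ℕ} {U : X.Opens} {hU : U ≤ W.1}
    {m : Sec M U} (hm : Upto (schDatum X 𝓘 W) j hU m) :
    Upto (cplDatum hX W) j (tr_mono hU) (ηs (hX := hX) M U m) := fun x hx => by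
  obtain ⟨U', hU', hxU, k, hk⟩ := hm _ hx
  exact ⟨tr X 𝓘 U', tr_mono hU', hxU, k, by rw [ηs_res M hU']; exact kill_ηs hk⟩

theorem upto_add {T : TopCat.{u}} {O : Sheaf (Opens.grothendieckTopology T) CommRingCat.{u}}
    {I : FTors.IdealFam O} {D : Datum I} {M : ModSite.Mod O} {j : ℕ} {V : Opens T} {h : V ≤ D.U}
    {s t : Sec M V} (hs : Upto D j h s) (ht : Upto D j h t) : Upto D j h (s + t) := fun x hx => by
  obtain ⟨W₁, h₁, hx₁, k, hk⟩ := hs x hx
  obtain ⟨W₂, h₂, hx₂, l, hl⟩ := ht x hx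
  have a := (hk.res (inf_le_left : W₁ ⊓ W₂ ≤ W₁)).mono (le_max_left k l)
  have b := (hl.res (inf_le_right : W₁ ⊓ W₂ ≤ W₂)).mono (le_max_right k l)
  rw [res_res] at a b
  exact ⟨W₁ ⊓ W₂, inf_le_left.trans h₁, ⟨hx₁, hx₂⟩, max k l, fun i hi => by
    rw [map_add, smul_add, a i hi, b i hi, add_zero]⟩

theorem upto_smul {T : TopCat.{u}} {O : Sheaf (Opens.grothendieckTopology T) CommRingCat.{u}}
    {I : FTors.IdealFam O} {D : Datum I} {M : ModSite.Mod O} {j : ℕ} {V : Opens T} {h : V ≤ D.U}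
    {s : Sec M V} (hs : Upto D j h s) (a : Ring O V) : Upto D j h (a • s) := fun x hx => by
  obtain ⟨W, hW, hxW, k, hk⟩ := hs x hx
  exact ⟨W, hW, hxW, k, by rw [FMod90.res_smul]; exact hk.smul _⟩

/-- The inverse image of a good module is good. -/
theorem good_pull {M : ModSite.Mod X.sheaf} {W : X.affineOpens} (hM : Good (schDatum X 𝓘 W) M) :
    Good (cplDatum hX W) ((κ X 𝓘 hX).pull.obj M) := fun j V hV s k n hs x hx => by
  obtain ⟨W', hW', hWW, hxW, hmem⟩ := exists_killed_gen hs hx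
  suffices key : ∀ z, z ∈ Submodule.span (Ring ((FSch.completionAlong X 𝓘).Osh hX) (tr X 𝓘 W'))
      (ηs (hX := hX) M W'.1 '' {m | Kill (schDatum X 𝓘 W) j k hWW m}) →
      ∃ (U : X.Opens) (hU : U ≤ W'.1), (FSch.completionToX X 𝓘 0).base x ∈ U ∧
        ∃ (f : Sec ((κ X 𝓘 hX).pull.obj M) (tr X 𝓘 U)) (m : ℕ),
          Upto (cplDatum hX W) j (tr_mono (hU.trans hWW)) f ∧
          sh X 𝓘 hX U (rres _ (hU.trans hWW) (gen (𝓘 := 𝓘) W j)) ^ (m + n) • f =
            sh X 𝓘 hX U (rres _ (hU.trans hWW) (gen (𝓘 := 𝓘) W j)) ^ m • res _ (tr_mono hU) z by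
    obtain ⟨U, hU, hxU, f, m, hf, he⟩ := key _ hmem
    refine ⟨tr X 𝓘 U, (tr_mono hU).trans hW', hxU, f, m, hf, ?_⟩
    rw [res_res] at he
    change rres _ _ (sh X 𝓘 hX W (gen W j)) ^ (m + n) • f =
      rres _ _ (sh X 𝓘 hX W (gen W j)) ^ m • _
    rw [sh_rres]
    exact he
  intro z hz
  induction hz using Submodule.span_induction with
  | mem z hz =>
    obtain ⟨y, hy, rfl⟩ := hz
    obtain ⟨U, hU, hxU, f, m, hf, he⟩ := hM j W'.1 hWW y k n hy _ hxW
    refine ⟨U, hU, hxU, ηs M U f, m, upto_ηs hf, ?_⟩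
    rw [ηs_res M hU, ← map_pow (sh X 𝓘 hX U), ← map_pow (sh X 𝓘 hX U), ← ηs_smul, ← ηs_smul]
    exact congrArg (ηs M U) he
  | zero =>
    exact ⟨W'.1, le_rfl, hxW, 0, 0, .of_kill (k := 0) fun i _ => smul_zero _,
      by rw [smul_zero, FTors52.res_zero, smul_zero]⟩
  | add a b _ _ ha hb =>
    obtain ⟨U₁, h₁, hx₁, f₁, m₁, hf₁, he₁⟩ := ha
    obtain ⟨U₂, h₂, hx₂, f₂, m₂, hf₂, he₂⟩ := hb
    refine ⟨U₁ ⊓ U₂, inf_le_left.trans h₁, ⟨hx₁, hx₂⟩,
      res _ (tr_mono inf_le_left) f₁ + res _ (tr_mono inf_le_right) f₂, m₁ + m₂,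
      upto_add (hf₁.res (tr_mono inf_le_left)) (hf₂.res (tr_mono inf_le_right)), ?_⟩
    have e₁ := congrArg (res _ (tr_mono (inf_le_left : U₁ ⊓ U₂ ≤ U₁))) he₁
    have e₂ := congrArg (res _ (tr_mono (inf_le_right : U₁ ⊓ U₂ ≤ U₂))) he₂
    rw [FMod90.res_smul, FMod90.res_smul, map_pow, map_pow, sh_rres hX inf_le_left, rres_rres, res_res] at e₁
    rw [FMod90.res_smul, FMod90.res_smul, map_pow, map_pow, sh_rres hX inf_le_right, rres_rres, res_res] at e₂
    generalize sh X 𝓘 hX (U₁ ⊓ U₂) (rres _ _ (gen W j)) = τ at e₁ e₂ ⊢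
    rw [map_add, smul_add, smul_add]
    congr 1
    · rw [show m₁ + m₂ + n = m₂ + (m₁ + n) by omega, pow_add, mul_smul, e₁, ← mul_smul, ← pow_add,
        Nat.add_comm m₂]
    · rw [show m₁ + m₂ + n = m₁ + (m₂ + n) by omega, pow_add, mul_smul, e₂, ← mul_smul, ← pow_add]
  | smul c a _ ha =>
    obtain ⟨U, hU, hxU, f, m, hf, he⟩ := ha
    refine ⟨U, hU, hxU, rres _ (tr_mono hU) c • f, m, upto_smul hf _, ?_⟩
    rw [smul_comm, he, FMod90.res_smul, smul_comm]

/-- The torsion sections of an inverse image are those coming from torsion sections. -/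
theorem pull_gamma_range (M : ModSite.Mod X.sheaf) (V : ((FSch.completionAlong X 𝓘).X 0).Opens)
    (s : Sec ((κ X 𝓘 hX).pull.obj M) V) :
    (∃ t, appL ((κ X 𝓘 hX).pull.map ((FTors.gammaι (FTors.powIdealFam X 𝓘)).app M)) V t = s) ↔
      FTors.IsTorsSect (FTors.openIdealFam (FSch.completionAlong X 𝓘) hX) _ s := by
  constructor
  · rintro ⟨t, rfl⟩
    exact FTors.IsTorsSect.hom ((κ X 𝓘 hX).pull.map ((FTors.gammaι (FTors.powIdealFam X 𝓘)).app M))
      ((isTors_pull_and_isIso_unit (isTors_gammaObj M)).1 V t)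
  · intro hs
    refine exists_lift_of_mono _ fun x hx => ?_
    obtain ⟨W, -, hxW⟩ := exists_affine_at
      (show (FSch.completionToX X 𝓘 0).base x ∈ (⊤ : X.Opens) from trivial)
    obtain ⟨V₁, hV₁, hx₁, k, hk⟩ := upto_of_isTorsSect (D := cplDatum hX W)
      (FTors.IsTorsSect.res (homOfLE (inf_le_left : V ⊓ tr X 𝓘 W ≤ V)) hs) inf_le_right
      (cplDatum hX W).r x ⟨hx, hxW⟩
    obtain ⟨W', hW', hWW, hxW', hmem⟩ := exists_killed_gen hk hx₁
    rw [ftors_res_eq, res_res, res_res] at hmem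
    have hmem' := Submodule.span_mono (t := Set.range (appL ((κ X 𝓘 hX).pull.map
        ((FTors.gammaι (FTors.powIdealFam X 𝓘)).app M)) (tr X 𝓘 W'))) (by
      rintro _ ⟨y, hy, rfl⟩
      obtain ⟨y', rfl⟩ := exists_gamma_lift (isTorsSect_of_upto (.of_kill hy))
      exact ⟨ηs _ _ y', appL_pull_ηs _ _ y'⟩) hmem
    rw [← LinearMap.coe_range, Submodule.span_eq] at hmem'
    obtain ⟨t, ht⟩ := hmem'
    exact ⟨tr X 𝓘 W', _, t, hxW', ht⟩

end Exact

/-- The direct image of a good module is good. -/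
theorem good_push {M : FSch.ModF (FSch.completionAlong X 𝓘) hX} {W : X.affineOpens}
    (hM : Good (cplDatum hX W) M) : Good (schDatum X 𝓘 W) ((κ X 𝓘 hX).push.obj M) :=
  fun j U hU s k n hs y hy => by
  by_cases hyZ : y ∈ Set.range (FSch.completionToX X 𝓘 0).base
  · obtain ⟨x, rfl⟩ := hyZ
    obtain ⟨V, hV, hxV, f, m, hf, he⟩ := hM j (tr X 𝓘 U) (tr_mono hU) (show Sec M (tr X 𝓘 U) from s) k n
      (fun i hi => by
        have h := hs i hi
        rw [push_smul, map_pow, ← sh_rres hX hU] at h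
        exact h) x hy
    let U' := ext V ⊓ U
    have hUV : tr X 𝓘 U' ≤ V := (tr_mono inf_le_left).trans (tr_ext V).le
    refine ⟨U', inf_le_right, ⟨(mem_ext_iff V x).2 hxV, hy⟩,
      (show Sec ((κ X 𝓘 hX).push.obj M) U' from res M hUV f), m, fun z hz => ?_, ?_⟩
    · by_cases hzZ : z ∈ Set.range (FSch.completionToX X 𝓘 0).base
      · obtain ⟨x', rfl⟩ := hzZ
        obtain ⟨V', hV', hxV', k', hk'⟩ := hf x' ((mem_ext_iff V x').1 hz.1)
        refine ⟨ext V' ⊓ U', inf_le_right, ⟨(mem_ext_iff V' x').2 hxV', hz⟩, k', fun i hi => ?_⟩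
        have hle : tr X 𝓘 (ext V' ⊓ U') ≤ V' := (tr_mono inf_le_left).trans (tr_ext V').le
        have h := (hk'.res hle) i hi
        rw [res_res] at h
        rw [push_smul, map_pow, ← sh_rres hX ((inf_le_right.trans inf_le_right).trans hU)]
        refine Eq.trans ?_ h
        exact congrArg (_ • ·) (res_res _ _ _)
      · refine ⟨U' ⊓ ⟨(Set.range (FSch.completionToX X 𝓘 0).base)ᶜ,
          isClosedEmbedding_base.isClosed_range.isOpen_compl⟩, inf_le_left, ⟨hz, hzZ⟩, 0,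
          fun i _ => ?_⟩
        have hb : tr X 𝓘 (U' ⊓ ⟨(Set.range (FSch.completionToX X 𝓘 0).base)ᶜ,
            isClosedEmbedding_base.isClosed_range.isOpen_compl⟩) = ⊥ :=
          le_bot_iff.1 fun w hw => hw.2 ⟨w, rfl⟩
        have h0 : ∀ t : Sec M (tr X 𝓘 (U' ⊓ ⟨(Set.range (FSch.completionToX X 𝓘 0).base)ᶜ,
            isClosedEmbedding_base.isClosed_range.isOpen_compl⟩)), t = 0 := fun t =>
          eq_zero_of_locally fun w hw => absurd hw (hb ▸ id)
        exact h0 _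
    · rw [push_smul, push_smul, map_pow, map_pow, ← sh_rres hX (inf_le_right.trans hU)]
      have := congrArg (res M hUV) he
      rw [FMod90.res_smul, FMod90.res_smul, map_pow, map_pow, rres_rres, res_res] at this
      exact this
  · let U' : X.Opens := U ⊓ ⟨(Set.range (FSch.completionToX X 𝓘 0).base)ᶜ,
      isClosedEmbedding_base.isClosed_range.isOpen_compl⟩
    have hb : tr X 𝓘 U' = ⊥ := le_bot_iff.1 fun w hw => hw.2 ⟨w, rfl⟩
    have h0 : ∀ t : Sec M (tr X 𝓘 U'), t = 0 := fun t =>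
      eq_zero_of_locally fun w hw => absurd hw (hb ▸ id)
    exact ⟨U', inf_le_left, ⟨hy, hyZ⟩, 0, 0, .of_kill (k := 0) fun i _ => smul_zero _,
      (h0 _).trans (h0 _).symm⟩

theorem isTorsSect_push_iff {M : FSch.ModF (FSch.completionAlong X 𝓘) hX} {U : X.Opens}
    (s : Sec M (tr X 𝓘 U)) :
    FTors.IsTorsSect (FTors.powIdealFam X 𝓘) ((κ X 𝓘 hX).push.obj M)
        (show Sec ((κ X 𝓘 hX).push.obj M) U from s) ↔
      FTors.IsTorsSect (FTors.openIdealFam (FSch.completionAlong X 𝓘) hX) M s := by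
  constructor
  · intro h
    refine (isTorsSect_iff_exists s).2 fun x hx => ?_
    obtain ⟨U', hU', hxU, n, hn⟩ := (isTorsSect_iff_exists _).1 h _ hx
    obtain ⟨W, hWU, hxW⟩ := exists_affine_at hxU
    refine ⟨tr X 𝓘 W, tr_mono (hWU.trans hU'), hxW, n, fun V g b hb => ?_⟩
    refine eq_zero_of_locally fun z hz => ?_
    obtain ⟨W', hW', hzW⟩ := exists_affine_at (show (FSch.completionToX X 𝓘 0).base z ∈ W.1 ⊓ ext V from
      ⟨(leOfHom g) hz, (mem_ext_iff V z).2 hz⟩)
    have hWV : tr X 𝓘 W' ≤ V := (tr_mono (hW'.trans inf_le_right)).trans (tr_ext V).le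
    refine ⟨tr X 𝓘 W', hWV, hzW, ?_⟩
    rw [ftors_res_eq, res_res, FMod90.res_smul, res_res]
    refine smul_eq_zero_of_pow (n := n) (fun a ha => ?_) (pr_rres_eq_zero hX n hb hWV)
    have := (hn.mono (Nat.le_succ n)) (homOfLE ((hW'.trans inf_le_left).trans hWU)) a
      (mem_powIdealFam_affine ha)
    rw [ftors_res_eq, res_res, push_smul] at this
    exact this
  · intro hs
    obtain ⟨s', hs'⟩ := exists_gamma_lift (M := M) hs
    have h := FTors.IsTorsSect.hom ((κ X 𝓘 hX).push.map ((FTors.gammaι _).app M))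
      (isTors_push (isTors_gammaObj M) U (show Sec ((κ X 𝓘 hX).push.obj ((FTors.gamma _ _).obj M)) U from s'))
    exact hs' ▸ h

end Groth.Agent.FTors52
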