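import Groth.Agent.FTors52.QuasiCoh
import Groth.Agent.FTors52.IndCoh
import Groth.Agent.FTors52.FiveTerm

/-!
# Kernels, cokernels, extensions and finite type submodules of quasi-coherent modules on formal schemes
-/

set_option autoImplicit false

universe u

open CategoryTheory CategoryTheory.Limits AlgebraicGeometry Opposite TopologicalSpace

namespace Groth.Agent.FTors52

open FMod90

variable {𝔛 : FSch.Sys.{u}} {h : 𝔛.IsFormal} {U : (𝔛.X 0).Opens} {M N : FSch.ModF 𝔛 h}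
  (h𝔛 : 𝔛.IsLocNoethFormal)

include h𝔛

theorem GenBy.kernel (hgen : GenBy M U) (hN : PC N) (hU : IsAffineOpen U) (φ : M ⟶ N) :
    GenBy (kernel φ) U := fun V hV y x hx => by
  obtain ⟨W, hW, k, g, a, hxW, ha⟩ := hgen V hV (appL (kernel.ι φ) V y) x hx
  obtain ⟨m, r, hr⟩ := hN.exists_isRel h𝔛 hU fun i => appL φ U (g i)
  choose q hq using fun l => exists_kernel_lift φ (comb g le_rfl (r l))
    ((appL_comb φ g le_rfl (r l)).trans (hr.rel l))
  have h1 : comb (fun i => appL φ U (g i)) (hW.trans hV) a = 0 := by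
    rw [← appL_comb, ha, ← res_appL, appL_kernel_condition, map_zero]
  obtain ⟨W', hW', hxW', hmem⟩ := hr.exact W _ a h1 x hxW
  obtain ⟨c, hc⟩ := (Submodule.mem_span_range_iff_exists_fun _).1 hmem
  refine ⟨W', hW'.trans hW, m, q, c, hxW', injective_of_mono (kernel.ι φ) W' ?_⟩
  rw [← res_res hW hW', ← res_appL, ← res_appL, ← ha, ← comb_rv, ← hc, appL_comb, ← combL_apply g,
    map_sum]
  refine Finset.sum_congr rfl fun l _ => ?_
  rw [map_smul, combL_apply, comb_rv g le_rfl ((hW'.trans hW).trans hV)]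
  simp only [hq]

theorem Gen.kernel (hgen : Gen M) (hN : PC N) (φ : M ⟶ N) : Gen (kernel φ) := fun x => by
  obtain ⟨U, hxU, hU⟩ := hgen x
  obtain ⟨W, hW, hWU, hxW⟩ := exists_affine_le hxU
  exact ⟨W, hxW, (hU.restrict hWU).kernel h𝔛 hN hW φ⟩

theorem isQuasicoherent_kernel' [SheafOfModules.IsQuasicoherent.{u} M]
    [SheafOfModules.IsQuasicoherent.{u} N] (φ : M ⟶ N) :
    SheafOfModules.IsQuasicoherent.{u} (CategoryTheory.Limits.kernel φ) :=
  isQuasicoherent_of_pc h𝔛 ((pc_gen_of_isQuasicoherent h𝔛).1.of_mono (kernel.ι φ))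
    ((pc_gen_of_isQuasicoherent h𝔛).2.kernel h𝔛 (pc_gen_of_isQuasicoherent h𝔛).1 φ)

theorem isQuasicoherent_cokernel' [SheafOfModules.IsQuasicoherent.{u} M]
    [SheafOfModules.IsQuasicoherent.{u} N] (φ : M ⟶ N) :
    SheafOfModules.IsQuasicoherent.{u} (CategoryTheory.Limits.cokernel φ) :=
  isQuasicoherent_of_pc h𝔛
    (PC.cokernel h𝔛 (pc_gen_of_isQuasicoherent h𝔛).1 (pc_gen_of_isQuasicoherent h𝔛).2 φ)
    ((pc_gen_of_isQuasicoherent h𝔛).2.of_epi (cokernel.π φ))

/-- The middle term of a short exact sequence of quasi-coherent modules is locally generated. -/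
theorem Gen.of_exact {S : ShortComplex (FSch.ModF 𝔛 h)} (hS : S.Exact) [Mono S.f] [Epi S.g]
    (h₁ : PC S.X₁) (h₁' : Gen S.X₁) (h₃' : Gen S.X₃) : Gen S.X₂ := fun x => by
  obtain ⟨U₁, hxU₁, hU₁⟩ := h₁' x
  obtain ⟨U₃, hxU₃, hU₃⟩ := h₃' x
  obtain ⟨U, hU, hUle, hxU⟩ := exists_affine_le (U := U₁ ⊓ U₃) (x := x) ⟨hxU₁, hxU₃⟩
  have hA := hU₁.restrict (hUle.trans inf_le_left)
  have hC := hU₃.restrict (hUle.trans inf_le_right)
  refine ⟨U, hxU, GenBy.of_forall fun V hV y z hz => ?_⟩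
  obtain ⟨W, hW, k, c, a, hzW, ha⟩ := hC V hV (appL S.g V y) z hz
  choose b hb using fun i => exists_lift_affine h𝔛 hS hU h₁ hA (c i)
  have hd : appL S.g W (res S.X₂ hW y - comb b (hW.trans hV) a) = 0 := by
    rw [map_sub, ← res_appL, ← ha, appL_comb, sub_eq_zero]
    simp only [hb]
  obtain ⟨e, he⟩ := exists_lift_of_mono S.f (locLift_of_exact hS hd)
  obtain ⟨W', hW', p, g, d, hzW', hd'⟩ := hA W (hW.trans hV) e z hzW
  refine ⟨W', hW'.trans hW, k + p, Fin.append b fun i => appL S.f U (g i), hzW', ?_⟩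
  have e1 : res S.X₂ (hW'.trans hW) y = comb b ((hW'.trans hW).trans hV) (rv _ hW' a) +
      comb (fun i => appL S.f U (g i)) ((hW'.trans hW).trans hV) d := by
    rw [← res_res hW hW', ← sub_add_cancel (res S.X₂ hW y) (comb b (hW.trans hV) a), ← he, map_add,
      comb_rv b (hW.trans hV) hW', ← appL_comb, hd', res_appL, add_comm]
  rw [e1]
  exact GenIn.add (GenIn.append_left fun z' hz' => ⟨W', le_rfl, _, hz', (res_refl _ _).symm⟩)
    (GenIn.append_right fun z' hz' => ⟨W', le_rfl, _, hz', (res_refl _ _).symm⟩)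

/-- A quasi-coherent submodule of a coherent module is coherent. -/
theorem isCohF_of_mono (hN : FSch.IsCohF 𝔛 h N) (hgen : Gen M) (ι : M ⟶ N) [Mono ι] :
    FSch.IsCohF 𝔛 h M :=
  isCohF_of_pc h𝔛 ((isPC_of_isCohF h𝔛 hN).of_mono ι) fun x => by
    obtain ⟨U₁, hxU₁, hU₁⟩ := hgen x
    obtain ⟨U, hU, hUle, hxU⟩ := exists_affine_le hxU₁
    have hM := hU₁.restrict hUle
    obtain ⟨n, m, s, r, hp⟩ := exists_isPres_affine h𝔛 hN hU
    obtain ⟨J, hJ⟩ := exists_isAdicRing h𝔛 hU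
    haveI := hJ.noetherian
    haveI : Module.Finite (Ring (𝔛.Osh h) U) (Sec N U) :=
      Module.Finite.of_surjective (combL s (le_refl U)) fun y =>
        (IsPres.isRel hp).exists_comb h𝔛 hU le_rfl y (hp.gen U le_rfl y)
    haveI := isNoetherian_of_isNoetherianRing_of_finite (Ring (𝔛.Osh h) U) (Sec N U)
    haveI : Module.Finite (Ring (𝔛.Osh h) U) (Sec M U) :=
      Module.Finite.of_injective (appL ι U) (injective_of_mono ι U)
    obtain ⟨k, t, ht⟩ := Module.Finite.exists_fin (R := Ring (𝔛.Osh h) U) (M := Sec M U)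
    refine ⟨U, hxU, k, t, fun V hV y z hz => ?_⟩
    obtain ⟨W, hW, p, g, a, hzW, ha⟩ := hM V hV y z hz
    choose c hc using fun i => (Submodule.mem_span_range_iff_exists_fun (Ring (𝔛.Osh h) U)).1
      (show g i ∈ Submodule.span _ (Set.range t) from ht ▸ Submodule.mem_top)
    refine ⟨W, hW, ∑ i, a i • rv _ (hW.trans hV) (c i), hzW, ?_⟩
    rw [← ha, ← combL_apply, map_sum]
    refine Finset.sum_congr rfl fun i _ => ?_
    rw [map_smul, combL_apply, comb_rv t le_rfl (hW.trans hV), ← hc i]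
    simp only [comb, res_refl, rres_refl]

end Groth.Agent.FTors52
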