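import Groth.Agent.FTors52.AdicBase
import Groth.Agent.FTors52.QCClosure
import Groth.Agent.FMod90.Recon

/-!
# Truncations of a coherent module over a formal spectrum and multiplication by the base ideal
-/

set_option autoImplicit false

universe u

open CategoryTheory CategoryTheory.Limits AlgebraicGeometry Opposite TopologicalSpace

namespace Groth.Agent.FTors52

open FMod90

variable {A : Type u} [CommRing A] {J : Ideal A} {𝔛 : FSch.Sys.{u}} {h : 𝔛.IsFormal}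
  (f : 𝔛 ⟶ FSch.spf A J) (𝔉 : FSch.ModF 𝔛 h)

/-- Multiplication by a scalar of the base. -/
noncomputable abbrev sm (a : A) (M : FSch.ModF 𝔛 h) : M ⟶ M := DerComp.smulEnd (scal f a) M

theorem appL_sm (a : A) (M : FSch.ModF 𝔛 h) (U : (𝔛.X 0).Opens) (s : Sec M U) :
    appL (sm f a M) U s = (scal f a).1 U • s := rfl

@[reassoc]
theorem sm_comm (a : A) {M N : FSch.ModF 𝔛 h} (φ : M ⟶ N) : sm f a M ≫ φ = φ ≫ sm f a N :=
  hom_ext fun U s => (map_smul (appL φ U) ((scal f a).1 U) s :)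

variable (h) in
/-- The truncation at a level. -/
noncomputable abbrev lvlF (k : ℕ) : FSch.ModF 𝔛 h :=
  (FSch.levelMor 𝔛 h k).push.obj ((FSch.levelMor 𝔛 h k).pull.obj 𝔉)

variable (h) in
/-- The map to the truncation. -/
noncomputable abbrev lvlπ (k : ℕ) : 𝔉 ⟶ lvlF h 𝔉 k := (FSch.levelMor 𝔛 h k).adj.unit.app 𝔉

variable (h) in
/-- The transition between truncations. -/
noncomputable abbrev lvlT (k : ℕ) : lvlF h 𝔉 (k + 1) ⟶ lvlF h 𝔉 k := FSch.levelTrans 𝔛 h 𝔉 k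

theorem π_T (k : ℕ) : lvlπ h 𝔉 (k + 1) ≫ lvlT h 𝔉 k = lvlπ h 𝔉 k :=
  FSch.unit_levelTrans 𝔛 h 𝔉 k

variable {𝔉} (h𝔛 : 𝔛.IsLocNoethFormal) (h𝔉 : FSch.IsCohF 𝔛 h 𝔉)

include h𝔛 h𝔉

/-- Sections of the truncations over an affine open. -/
theorem lvl_affine {U : (𝔛.X 0).Opens} (hU : IsAffineOpen U) {K : Ideal (Ring (𝔛.Osh h) U)}
    (hK : IsAdicRing h hU K) (k : ℕ) :
    Function.Surjective (appL (lvlπ h 𝔉 k) U) ∧ ∀ s : Sec 𝔉 U, appL (lvlπ h 𝔉 k) U s = 0 ↔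
      s ∈ K ^ (k + 1) • (⊤ : Submodule (Ring (𝔛.Osh h) U) (Sec 𝔉 U)) := by
  have hcoh : (pullSys h 𝔉).IsCoh := fun j => isCoh_pull h𝔛 𝔉 h𝔉 j
  have hM := isAdicMod h hU (pullSys h 𝔉) h𝔛.2.1 hK hcoh
  have : IsIso (toRealMod h 𝔉) := isIso_toRealMod h𝔛 h𝔉
  obtain ⟨hi, hs⟩ := bijective_of_isIso (toRealMod h 𝔉) U
  have key : ∀ s, appL (lvlπ h 𝔉 k) U s =
      rproj h U (pullSys h 𝔉).F (pullSys h 𝔉).toPush k (appL (toRealMod h 𝔉) U s) :=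
    fun s => (rproj_toRealMod h k s).symm
  refine ⟨fun z => ?_, fun s => ?_⟩
  · obtain ⟨w, rfl⟩ := hM.surjective k z
    obtain ⟨s, rfl⟩ := hs w
    exact ⟨s, key s⟩
  · rw [key]
    refine (hM.eq_zero_iff k _).trans ?_
    have e : Submodule.map (appL (toRealMod h 𝔉) U)
        (K ^ (k + 1) • (⊤ : Submodule (Ring (𝔛.Osh h) U) (Sec 𝔉 U))) = K ^ (k + 1) • ⊤ := by
      rw [Submodule.map_smul'', Submodule.map_top, LinearMap.range_eq_top.2 hs]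
    refine Iff.trans ?_ (Submodule.mem_map.trans ⟨fun ⟨y, hy, e'⟩ => hi e' ▸ hy, fun hy => ⟨s, hy, rfl⟩⟩)
    rw [e]
    exact Iff.rfl

theorem epi_lvlπ (k : ℕ) : Epi (lvlπ h 𝔉 k) :=
  epi_of_isBasis _ isBasis_affine fun U hU => by
    obtain ⟨K, hK⟩ := exists_isAdicRing h𝔛 hU
    exact (lvl_affine h𝔛 h𝔉 hU hK k).1

theorem isCohF_lvlF (k : ℕ) : FSch.IsCohF 𝔛 h (lvlF h 𝔉 k) := by
  have := h𝔉
  have := epi_lvlπ h𝔛 h𝔉 k
  have := isFiniteType_kernel_unit h𝔛 h𝔉 k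
  have hg : Gen (kernel (lvlπ h 𝔉 k)) := fun x => by
    obtain ⟨U, hx, n, s, hs⟩ := exists_isGen (kernel (lvlπ h 𝔉 k)) x
    exact ⟨U, hx, GenBy.of_isGen hs⟩
  have hP : PC (cokernel (kernel.ι (lvlπ h 𝔉 k))) :=
    PC.cokernel h𝔛 (pc_gen_of_isQuasicoherent h𝔛).1 hg _
  let e : cokernel (kernel.ι (lvlπ h 𝔉 k)) ≅ lvlF h 𝔉 k :=
    (cokernelIsCokernel _).coconePointUniqueUpToIso (Abelian.epiIsCokernelOfKernel _ (limit.isLimit _))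
  exact isCohF_of_epi h𝔛 (lvlπ h 𝔉 k) h𝔉 (hP.of_mono e.inv)

theorem isCohF_gr (k : ℕ) : FSch.IsCohF 𝔛 h (kernel (lvlT h 𝔉 k)) := by
  have := isCohF_lvlF h𝔛 h𝔉 k
  exact isCohF_kernel h𝔛 _ (isCohF_lvlF h𝔛 h𝔉 (k + 1)) (pc_gen_of_isQuasicoherent h𝔛).1

variable {f} (hf : FSch.IsAdicHom f)

include hf

theorem scal_mem {U : (𝔛.X 0).Opens} {hU : IsAffineOpen U} {K : Ideal (Ring (𝔛.Osh h) U)}
    (hK : IsAdicRing h hU K) {a : A} (ha : a ∈ J) : (scal f a).1 U ∈ K := by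
  have h1 : pr h U 1 ((scal f a).1 U) ∈ K.map (pr h U 1) := by
    rw [hK.map_pr, Nid_eq_map hf hU 1, pr_scal]
    exact Ideal.mem_map_of_mem _ ha
  rw [← Ideal.mem_comap, Ideal.comap_map_of_surjective' _ (pr_surjective h hU 1), hK.ker_pr,
    sup_eq_left.2 (Ideal.pow_le_self (by omega) : K ^ (1 + 1) ≤ K)] at h1
  exact h1

theorem kernel_sm_π {a : A} (ha : a ∈ J) (k : ℕ) :
    kernel.ι (lvlπ h 𝔉 k) ≫ sm f a 𝔉 ≫ lvlπ h 𝔉 (k + 1) = 0 := by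
  refine hom_eq_zero_of_isBasis _ isBasis_affine fun U hU t => ?_
  obtain ⟨K, hK⟩ := exists_isAdicRing h𝔛 hU
  rw [appL_comp, appL_comp, appL_sm]
  refine ((lvl_affine h𝔛 h𝔉 hU hK (k + 1)).2 _).2 ?_
  rw [pow_succ' K (k + 1), Submodule.mul_smul]
  exact Submodule.smul_mem_smul (scal_mem h𝔛 h𝔉 hf hK ha)
    (((lvl_affine h𝔛 h𝔉 hU hK k).2 _).1 (appL_kernel_condition _ t))

/-- Multiplication by an element of the base ideal raises the level. -/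
theorem exists_lvlMul {a : A} (ha : a ∈ J) (k : ℕ) :
    ∃ μ : lvlF h 𝔉 k ⟶ lvlF h 𝔉 (k + 1), lvlπ h 𝔉 k ≫ μ = sm f a 𝔉 ≫ lvlπ h 𝔉 (k + 1) :=
  haveI := epi_lvlπ h𝔛 h𝔉 k
  ⟨_, Abelian.comp_epiDesc _ _ (kernel_sm_π h𝔛 h𝔉 hf ha k)⟩

/-- Multiplication by an element of the base ideal raises the level. -/
noncomputable def lvlMul {a : A} (ha : a ∈ J) (k : ℕ) : lvlF h 𝔉 k ⟶ lvlF h 𝔉 (k + 1) :=
  (exists_lvlMul h𝔛 h𝔉 hf ha k).choose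

@[reassoc]
theorem π_lvlMul {a : A} (ha : a ∈ J) (k : ℕ) :
    lvlπ h 𝔉 k ≫ lvlMul h𝔛 h𝔉 hf ha k = sm f a 𝔉 ≫ lvlπ h 𝔉 (k + 1) :=
  (exists_lvlMul h𝔛 h𝔉 hf ha k).choose_spec

@[reassoc]
theorem lvlMul_T {a : A} (ha : a ∈ J) (k : ℕ) :
    lvlMul h𝔛 h𝔉 hf ha (k + 1) ≫ lvlT h 𝔉 (k + 1) = lvlT h 𝔉 k ≫ lvlMul h𝔛 h𝔉 hf ha k := by
  have := epi_lvlπ h𝔛 h𝔉 (k + 1)
  rw [← cancel_epi (lvlπ h 𝔉 (k + 1)), π_lvlMul_assoc, π_T, ← Category.assoc, π_T, π_lvlMul]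

theorem lvlMul_T_zero {a : A} (ha : a ∈ J) : lvlMul h𝔛 h𝔉 hf ha 0 ≫ lvlT h 𝔉 0 = 0 := by
  have := epi_lvlπ h𝔛 h𝔉 0
  rw [← cancel_epi (lvlπ h 𝔉 0), π_lvlMul_assoc, π_T, comp_zero]
  refine hom_eq_zero_of_isBasis _ isBasis_affine fun U hU s => ?_
  obtain ⟨K, hK⟩ := exists_isAdicRing h𝔛 hU
  rw [appL_comp, appL_sm]
  refine ((lvl_affine h𝔛 h𝔉 hU hK 0).2 _).2 ?_
  rw [pow_one]
  exact Submodule.smul_mem_smul (scal_mem h𝔛 h𝔉 hf hK ha) trivial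

theorem lvlMul_comm {a b : A} (ha : a ∈ J) (hb : b ∈ J) (k : ℕ) :
    lvlMul h𝔛 h𝔉 hf hb k ≫ lvlMul h𝔛 h𝔉 hf ha (k + 1) =
      lvlMul h𝔛 h𝔉 hf ha k ≫ lvlMul h𝔛 h𝔉 hf hb (k + 1) := by
  have := epi_lvlπ h𝔛 h𝔉 k
  rw [← cancel_epi (lvlπ h 𝔉 k), π_lvlMul_assoc, π_lvlMul, π_lvlMul_assoc, π_lvlMul,
    ← Category.assoc, ← Category.assoc]
  congr 1
  exact sm_comm f b (sm f a 𝔉)

/-- The operator on the graded pieces. -/
noncomputable def grMul {a : A} (ha : a ∈ J) (k : ℕ) :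
    kernel (lvlT h 𝔉 k) ⟶ kernel (lvlT h 𝔉 (k + 1)) :=
  kernel.map _ _ (lvlMul h𝔛 h𝔉 hf ha (k + 1)) (lvlMul h𝔛 h𝔉 hf ha k)
    (lvlMul_T h𝔛 h𝔉 hf ha k).symm

@[reassoc]
theorem grMul_ι {a : A} (ha : a ∈ J) (k : ℕ) :
    grMul h𝔛 h𝔉 hf ha k ≫ kernel.ι (lvlT h 𝔉 (k + 1)) =
      kernel.ι (lvlT h 𝔉 k) ≫ lvlMul h𝔛 h𝔉 hf ha (k + 1) := kernel.lift_ι _ _ _

theorem grMul_comm {a b : A} (ha : a ∈ J) (hb : b ∈ J) (k : ℕ) :
    grMul h𝔛 h𝔉 hf hb k ≫ grMul h𝔛 h𝔉 hf ha (k + 1) =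
      grMul h𝔛 h𝔉 hf ha k ≫ grMul h𝔛 h𝔉 hf hb (k + 1) := by
  rw [← cancel_mono (kernel.ι (lvlT h 𝔉 (k + 1 + 1))), Category.assoc, grMul_ι, grMul_ι_assoc,
    Category.assoc, grMul_ι, grMul_ι_assoc, lvlMul_comm h𝔛 h𝔉 hf ha hb]

/-- The graded pieces are generated in degree one. -/
theorem grMul_gen {d : ℕ} {g : Fin d → A} (hg : Ideal.span (Set.range g) = J) (hmem : ∀ i, g i ∈ J)
    (k : ℕ) {Z : FSch.ModF 𝔛 h} (φ : kernel (lvlT h 𝔉 (k + 1)) ⟶ Z)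
    (hφ : ∀ i, grMul h𝔛 h𝔉 hf (hmem i) k ≫ φ = 0) : φ = 0 := by
  refine hom_eq_zero_of_isBasis _ isBasis_affine fun U hU z => ?_
  obtain ⟨K, hK⟩ := exists_isAdicRing h𝔛 hU
  obtain ⟨hs₂, -⟩ := lvl_affine h𝔛 h𝔉 hU hK (k + 2)
  obtain ⟨y, hy⟩ := hs₂ (appL (kernel.ι (lvlT h 𝔉 (k + 1))) U z)
  have hy1 : appL (lvlπ h 𝔉 (k + 1)) U y = 0 := by
    rw [← π_T, appL_comp, hy]
    exact appL_kernel_condition _ z
  have hmem1 := ((lvl_affine h𝔛 h𝔉 hU hK (k + 1)).2 y).1 hy1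
  rw [pow_succ' K (k + 1), Submodule.mul_smul] at hmem1
  have hKspan : K = Ideal.span (Set.range fun i => (scal f (g i)).1 U) := span_scal hf h𝔛 hK g hg
  let W : Submodule (Ring (𝔛.Osh h) U) (Sec (kernel (lvlT h 𝔉 (k + 1))) U) :=
    LinearMap.ker (appL φ U)
  let P : Submodule (Ring (𝔛.Osh h) U) (Sec 𝔉 U) :=
    Submodule.comap (appL (lvlπ h 𝔉 (k + 2)) U)
      (Submodule.map (appL (kernel.ι (lvlT h 𝔉 (k + 1))) U) W)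
  suffices hyP : y ∈ P by
    obtain ⟨z', hz', e⟩ := hyP
    rw [← injective_of_mono (kernel.ι (lvlT h 𝔉 (k + 1))) U (e.trans hy)]
    exact hz'
  refine Submodule.smul_induction_on hmem1 (fun c hc w hw => ?_) fun _ _ => P.add_mem
  rw [hKspan] at hc
  induction hc using Submodule.span_induction with
  | mem c hc =>
    obtain ⟨i, rfl⟩ := hc
    have hw0 : appL (lvlT h 𝔉 k) U (appL (lvlπ h 𝔉 (k + 1)) U w) = 0 := by
      rw [← appL_comp, π_T]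
      exact ((lvl_affine h𝔛 h𝔉 hU hK k).2 w).2 hw
    obtain ⟨w', hw'⟩ := exists_kernel_lift _ _ hw0
    refine ⟨appL (grMul h𝔛 h𝔉 hf (hmem i) k) U w', ?_, ?_⟩
    · change appL φ U (appL (grMul h𝔛 h𝔉 hf (hmem i) k) U w') = 0
      rw [← appL_comp, hφ i, appL_zero]
    · rw [← appL_comp, grMul_ι, appL_comp, hw', ← appL_comp, π_lvlMul, appL_comp, appL_sm]
  | zero => rw [zero_smul]; exact P.zero_mem
  | add a b _ _ ha hb => rw [add_smul]; exact P.add_mem ha hb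
  | smul c a _ ha => rw [smul_eq_mul, mul_smul]; exact P.smul_mem c ha

/-- The graded pieces come from the smallest level. -/
theorem isIso_unit_gr (k : ℕ) :
    IsIso ((FSch.levelMor 𝔛 h 0).adj.unit.app (kernel (lvlT h 𝔉 k))) := by
  have hG := isCohF_gr h𝔛 h𝔉 k
  refine isIso_of_isBasis _ isBasis_affine fun U hU => ?_
  obtain ⟨K, hK⟩ := exists_isAdicRing h𝔛 hU
  obtain ⟨hs, hz⟩ := lvl_affine h𝔛 hG hU hK 0
  refine ⟨(injective_iff_map_eq_zero _).2 fun s hs0 => ?_, hs⟩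
  have hmem := (hz s).1 hs0
  rw [pow_one] at hmem
  refine Submodule.smul_induction_on hmem (fun c hc w _ => ?_)
    fun x y hx hy => by rw [hx, hy, add_zero]
  -- the ideal of definition kills the graded piece
  refine injective_of_mono (kernel.ι (lvlT h 𝔉 k)) U ?_
  obtain ⟨hs₁, hk₁⟩ := lvl_affine h𝔛 h𝔉 hU hK (k + 1)
  obtain ⟨y, hy⟩ := hs₁ (appL (kernel.ι (lvlT h 𝔉 k)) U w)
  have hy0 : appL (lvlπ h 𝔉 k) U y = 0 := by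
    rw [← π_T, appL_comp, hy]
    exact appL_kernel_condition _ w
  rw [map_smul, map_zero, ← hy, ← map_smul]
  refine (hk₁ _).2 ?_
  rw [pow_succ' K (k + 1), Submodule.mul_smul]
  exact Submodule.smul_mem_smul hc (((lvl_affine h𝔛 h𝔉 hU hK k).2 y).1 hy0)

end Groth.Agent.FTors52
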