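import Groth.Agent.FMod90.Coh
import Groth.Agent.FMod90.Descend
import Groth.Agent.FTors52.Coherent
import Groth.Agent.FTors52.SecDerived

/-!
# Direct images of coherent modules from the smallest level
-/

set_option autoImplicit false

universe u

open CategoryTheory CategoryTheory.Limits AlgebraicGeometry Opposite TopologicalSpace

namespace Groth.Agent.FTors52

open FMod90

variable {𝔛 : FSch.Sys.{u}} {h : 𝔛.IsFormal}

variable (h) in
/-- Direct image from the smallest level. -/
noncomputable abbrev push0 : (𝔛.X 0).Modules ⥤ FSch.ModF 𝔛 h := (FSch.levelMor 𝔛 h 0).push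

variable (h) in
/-- Sections of a direct image from the smallest level. -/
noncomputable def psec (G : (𝔛.X 0).Modules) (U : (𝔛.X 0).Opens) :
    Γ(G, 𝔛.lvU h 0 U) ≃+ Sec ((push0 h).obj G) U where
  toFun s := s
  invFun s := s
  left_inv _ := rfl
  right_inv _ := rfl
  map_add' _ _ := rfl

theorem smul_psec (G : (𝔛.X 0).Modules) {U : (𝔛.X 0).Opens} (a : Ring (𝔛.Osh h) U)
    (x : Γ(G, 𝔛.lvU h 0 U)) :
    a • psec h G U x = psec h G U (pr h U 0 a • x) := rfl

theorem res_psec (G : (𝔛.X 0).Modules) {U V : (𝔛.X 0).Opens} (hle : V ≤ U)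
    (x : Γ(G, 𝔛.lvU h 0 U)) :
    res ((push0 h).obj G) hle (psec h G U x) =
      psec h G V (G.presheaf.map ((Opens.map (𝔛.gInv h 0)).map (homOfLE hle)).op x) := rfl

theorem comb_psec (G : (𝔛.X 0).Modules) {U V : (𝔛.X 0).Opens} (hle : V ≤ U) {n : ℕ}
    (s : Fin n → Γ(G, 𝔛.lvU h 0 U)) (a : Fin n → Ring (𝔛.Osh h) V) :
    comb (fun i => psec h G U (s i)) hle a = psec h G V (∑ i, pr h V 0 (a i) •
      G.presheaf.map ((Opens.map (𝔛.gInv h 0)).map (homOfLE hle)).op (s i)) := by
  rw [map_sum]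
  refine Finset.sum_congr rfl fun i _ => ?_
  rw [res_psec, smul_psec]

/-- The direct image of a coherent module from the smallest level is coherent. -/
theorem isCohF_push0 (h𝔛 : 𝔛.IsLocNoethFormal) {G : (𝔛.X 0).Modules} (hG : Coh.IsCoh G) :
    FSch.IsCohF 𝔛 h ((push0 h).obj G) := by
  classical
  refine isFinitePresentation_of_isPres (fun U : (𝔛.X 0).affineOpens => U.1) exists_affine_nhd
    fun U => ?_
  obtain ⟨J, hR⟩ := exists_isAdicRing h𝔛 U.2
  have := hR.noetherian
  have hU0 := isAffineOpen_lvU h U.2 0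
  have := QCoh.finite_sections hG hU0
  obtain ⟨n, φ₀, hφ₀⟩ := Module.Finite.exists_fin' Γ(𝔛.X 0, 𝔛.lvU h 0 U) Γ(G, 𝔛.lvU h 0 U)
  let s : Fin n → Γ(G, 𝔛.lvU h 0 U) := fun i => φ₀ (Pi.single i 1)
  have hsum : ∀ a : Fin n → Γ(𝔛.X 0, 𝔛.lvU h 0 U), φ₀ a = ∑ i, a i • s i := fun a => by
    conv_lhs => rw [← Finset.univ_sum_single a, map_sum]
    refine Finset.sum_congr rfl fun i _ => ?_
    rw [← map_smul, ← Pi.single_smul, smul_eq_mul, mul_one]
  have hsur : ∀ y, ∃ a : Fin n → Γ(𝔛.X 0, 𝔛.lvU h 0 U), ∑ i, a i • s i = y := fun y => by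
    obtain ⟨a, rfl⟩ := hφ₀ y
    exact ⟨a, (hsum a).symm⟩
  let ψ : (Fin n → Ring (𝔛.Osh h) U) →ₗ[Ring (𝔛.Osh h) U] Sec ((push0 h).obj G) U :=
    { toFun := comb (fun i => psec h G U (s i)) le_rfl
      map_add' := comb_add _ le_rfl
      map_smul' := fun c a => comb_mul _ le_rfl c a }
  obtain ⟨m, r, hr⟩ := Submodule.fg_iff_exists_fin_generating_family.mp
    (IsNoetherian.noetherian (LinearMap.ker ψ))
  have hψ : ∀ a, ψ a = psec h G U (∑ i, pr h U 0 (a i) • s i) := fun a => by
    refine (comb_psec G le_rfl s a).trans (congrArg (psec h G U) (Finset.sum_congr rfl fun i _ => ?_))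
    exact congrArg (pr h U 0 (a i) • ·) (ConcreteCategory.congr_hom
      (G.presheaf.map_id (op (𝔛.lvU h 0 U))) (s i))
  have hrel : ∀ a, ψ a = 0 → ∃ c : Fin m → Ring (𝔛.Osh h) U, ∀ i, a i = ∑ l, c l * r l i :=
    fun a ha => by
      rw [← LinearMap.mem_ker, ← hr, Submodule.mem_span_range_iff_exists_fun] at ha
      obtain ⟨c, rfl⟩ := ha
      exact ⟨c, fun i => by rw [Finset.sum_apply]; rfl⟩
  refine ⟨n, m, fun i => psec h G U (s i), r, ⟨fun W hW y x hx => ?_, fun l => ?_, fun W hW a ha x hx => ?_⟩⟩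
  · obtain ⟨f, hfW, hxf⟩ := exists_Dop_le h U.2 (hW hx) hx
    refine ⟨_, hfW, ?_⟩
    obtain ⟨z, hz⟩ := (psec h G (Dop h f)).surjective (res _ hfW y)
    obtain ⟨a, ha⟩ := exists_comb_basicOpen hU0 (pr h U 0 f) s hG.1 (lvU_Dop h f 0)
      ((Opens.map (𝔛.gInv h 0)).map (homOfLE (Dop_le h f))).le hsur z
    choose a' ha' using fun i => pr_surjective h (isAffineOpen_Dop h U.2 f) 0 (a i)
    refine ⟨a', hxf, ((comb_psec G (Dop_le h f) s a').trans ?_).trans hz⟩
    simp only [ha']
    exact congrArg (psec h G _) ha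
  · change ψ (r l) = 0
    rw [← LinearMap.mem_ker, ← hr]
    exact Submodule.subset_span ⟨l, rfl⟩
  · obtain ⟨f, hfW, hxf⟩ := exists_Dop_le h U.2 (hW hx) hx
    refine ⟨_, hfW, ?_⟩
    obtain ⟨J', hR'⟩ := exists_isAdicRing h𝔛 (isAffineOpen_Dop h U.2 f)
    let R' := Ring (𝔛.Osh h) (Dop h f)
    let a' : Fin n → R' := fun i => rres _ hfW (a i)
    let r' : Fin m → Fin n → R' := fun l i => rres _ (Dop_le h f) (r l i)
    have ha' : comb (fun i => psec h G U (s i)) (Dop_le h f) a' = 0 := by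
      have h1 := congrArg (res _ hfW) ha
      rw [map_zero, res_comb] at h1
      exact h1
    rw [comb_psec, AddEquiv.map_eq_zero_iff] at ha'
    have hr0 : ∀ b : Fin n → Γ(𝔛.X 0, 𝔛.lvU h 0 U), ∑ i, b i • s i = 0 →
        ∃ c : Fin m → Γ(𝔛.X 0, 𝔛.lvU h 0 U), ∀ i, b i = ∑ l, c l * pr h U 0 (r l i) := fun b hb => by
      choose b' hb' using fun i => pr_surjective h U.2 0 (b i)
      obtain ⟨c, hc⟩ := hrel b' (by rw [hψ, AddEquiv.map_eq_zero_iff]; simpa only [hb'] using hb)
      exact ⟨fun l => pr h U 0 (c l), fun i => by rw [← hb' i, hc i, map_sum]; simp only [map_mul]⟩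
    obtain ⟨c, hc⟩ := exists_rel_basicOpen hU0 (pr h U 0 f) s hG.1 (lvU_Dop h f 0)
      ((Opens.map (𝔛.gInv h 0)).map (homOfLE (Dop_le h f))).le (fun l i => pr h U 0 (r l i)) hr0
      (fun i => pr h (Dop h f) 0 (a' i)) ha'
    choose c' hc' using fun l => pr_surjective h (isAffineOpen_Dop h U.2 f) 0 (c l)
    -- the ideal of definition gives relations
    have hJ : ∀ v : Fin n → R', v ∈ J' • (⊤ : Submodule R' (Fin n → R')) →
        v ∈ Submodule.span R' (Set.range r') := by
      intro v hv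
      rw [← Finset.univ_sum_single v]
      refine Submodule.sum_mem _ fun i _ => ?_
      have hvi := apply_mem_of_mem_smul_top hv i
      rw [← ideal_Dop h𝔛 U.2 hR f hR', Ideal.map] at hvi
      suffices hle : Ideal.span (rres (𝔛.Osh h) (Dop_le h f) '' J) ≤
          (Submodule.span R' (Set.range r')).comap (LinearMap.single R' (fun _ => R') i) from
        hle hvi
      refine Submodule.span_le.2 ?_
      rintro _ ⟨j, hj, rfl⟩
      have hj0 : ψ (Pi.single i j) = 0 := by
        rw [hψ, AddEquiv.map_eq_zero_iff]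
        refine Finset.sum_eq_zero fun l _ => ?_
        have : pr h U 0 ((Pi.single i j : Fin n → Ring (𝔛.Osh h) U) l) = 0 := by
          rw [← RingHom.mem_ker, hR.ker_pr, pow_one]
          rcases eq_or_ne l i with rfl | hne
          · simpa using hj
          · simp [hne]
        rw [this, zero_smul]
      obtain ⟨e, he⟩ := hrel _ hj0
      rw [SetLike.mem_coe, Submodule.mem_comap, Submodule.mem_span_range_iff_exists_fun]
      refine ⟨fun l => rres _ (Dop_le h f) (e l), funext fun t => ?_⟩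
      have h2 := congrArg (rres (𝔛.Osh h) (Dop_le h f)) (he t)
      rw [map_sum] at h2
      simp only [map_mul] at h2
      rw [Finset.sum_apply]
      refine Eq.trans h2.symm ?_
      rcases eq_or_ne t i with rfl | hne
      · simp
      · simp [hne]
    have key : a' ∈ Submodule.span R' (Set.range r') := by
      rw [← add_sub_cancel (∑ l, c' l • r' l) a']
      refine Submodule.add_mem _ (Submodule.sum_mem _ fun l _ =>
        Submodule.smul_mem _ _ (Submodule.subset_span ⟨l, rfl⟩)) (hJ _ ?_)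
      refine mem_smul_top_of_apply_mem fun i => ?_
      rw [← pow_one J', ← hR'.ker_pr 0, RingHom.mem_ker, Pi.sub_apply, map_sub, sub_eq_zero,
        Finset.sum_apply]
      refine (hc i).trans ?_
      simp only [Pi.smul_apply, smul_eq_mul, map_sum, map_mul, hc', r', pr_rres]
      rfl
    obtain ⟨d, hd⟩ := (Submodule.mem_span_range_iff_exists_fun R').1 key
    refine ⟨d, hxf, fun i => ?_⟩
    have h1 := congrFun hd i
    rw [Finset.sum_apply] at h1
    exact h1.symm

/-- Direct image from the smallest level is exact on the right. -/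
theorem preservesFiniteColimits_push0 : PreservesFiniteColimits (push0 h) := by
  have : (push0 h).IsRightAdjoint := (FSch.levelMor 𝔛 h 0).adj.isRightAdjoint
  have : PreservesLimitsOfSize.{0, 0} (push0 h) := inferInstance
  have : PreservesFiniteLimits (push0 h) := ⟨fun _ => inferInstance⟩
  have : (push0 h).PreservesEpimorphisms := ⟨fun {M N} φ _ => by
    refine epi_of_locLift _ fun U y x hx => ?_
    obtain ⟨V, hle, ⟨s, hs⟩, hxV⟩ := (TopCat.Presheaf.isLocallySurjective_iff _).1
      ((TopCat.Sheaf.isLocallySurjective_iff_epi ((QCoh.toAbFunctor (𝔛.X 0)).map φ)).2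
        ((QCoh.toAbFunctor (𝔛.X 0)).map_epi φ))
      (𝔛.lvU h 0 U) y x ((lvU_zero h U).ge hx)
    let W : (𝔛.X 0).Opens := V
    have hWU : W ≤ U := fun z hz => (lvU_zero h U).le (hle hz)
    refine ⟨W, hWU, M.presheaf.map (eqToHom (congrArg op (lvU_zero h W).symm)) s, hxV, ?_⟩
    refine (app_map φ (eqToHom (congrArg op (lvU_zero h W).symm)) s).trans ?_
    refine (congrArg (N.presheaf.map _) hs).trans ?_
    change (N.presheaf.map _ ≫ N.presheaf.map _) y = N.presheaf.map _ y
    rw [← Functor.map_comp]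
    rfl⟩
  have : (push0 h).Additive := inferInstanceAs (FSch.levelMor 𝔛 h 0).push.Additive
  have : (push0 h).PreservesHomology := Functor.preservesHomology_of_preservesEpis_and_kernels _
  exact (push0 h).preservesFiniteColimits_of_preservesHomology

end Groth.Agent.FTors52
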