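import Groth.Agent.FTors52.TorsClosure
import Groth.Agent.FTors52.IndCohExt
import Mathlib.Order.Zorn

/-!
# Extension of finitely generated torsion submodules

On a locally Noetherian formal scheme every section of a quasi-coherent torsion module locally lies
in a coherent submodule: a finitely generated submodule on an open extends over every further affine
open, and Zorn's lemma gives a finitely generated submodule everywhere.
-/

set_option autoImplicit false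

universe u

open CategoryTheory CategoryTheory.Limits AlgebraicGeometry Opposite TopologicalSpace

namespace Groth.Agent.FTors52

open FMod90

section general

variable {T : TopCat.{u}} {O : Sheaf (Opens.grothendieckTopology T) CommRingCat.{u}}
  {M : ModSite.Mod O} {U V W : Opens T} {n k : ℕ}

theorem GenIn.comb {g : Fin k → Sec M U} {hVU : V ≤ U} (hWV : W ≤ V) {s : Fin n → Sec M V}
    (hs : ∀ i, GenIn g hVU (s i)) (a : Fin n → Ring O W) :
    GenIn g (hWV.trans hVU) (FMod90.comb s hWV a) :=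
  GenIn.sum _ fun i _ => ((hs i).res hWV).smul _

theorem GenIn.self (g : Fin k → Sec M U) (hVU : V ≤ U) (i : Fin k) :
    GenIn g hVU (FMod90.res M hVU (g i)) := fun x hx =>
  ⟨V, le_rfl, delta i, hx, by rw [comb_delta, res_refl]⟩

/-- Locally generated by families which are locally generated by another family. -/
theorem GenIn.trans' {U' : Opens T} {g : Fin k → Sec M U} {g' : Fin n → Sec M U'} {hVU : V ≤ U}
    {y : Sec M V} (hy : GenIn g hVU y) (hV' : V ≤ U')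
    (hg : ∀ i, GenIn g' hV' (FMod90.res M hVU (g i))) : GenIn g' hV' y :=
  GenIn.of_locally fun x hx => by
    obtain ⟨W, hW, a, hxW, ha⟩ := hy x hx
    refine ⟨W, hW, hxW, ?_⟩
    rw [← ha, ← comb_res g hVU hW]
    exact GenIn.comb hW hg a

variable (M) in
/-- An open with finitely many sections over it. -/
structure Patch where
  U : Opens T
  n : ℕ
  s : Fin n → Sec M U

/-- The sections of one patch are locally combinations of those of another, where both are defined. -/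
def Patch.Le (P Q : Patch M) : Prop :=
  ∀ i, GenIn Q.s (inf_le_right : P.U ⊓ Q.U ≤ Q.U) (FMod90.res M inf_le_left (P.s i))

theorem Patch.Le.refl (P : Patch M) : P.Le P := fun i => GenIn.self P.s _ i

theorem Patch.Le.genIn {P Q : Patch M} (hPQ : P.Le Q) {hP : V ≤ P.U} (hQ : V ≤ Q.U) {y : Sec M V}
    (hy : GenIn P.s hP y) : GenIn Q.s hQ y :=
  hy.trans' hQ fun i => by
    have h1 := (hPQ i).res (le_inf hP hQ)
    rw [res_res] at h1
    exact h1

end general

variable {𝔛 : FSch.Sys.{u}} {h : 𝔛.IsFormal} {U V : (𝔛.X 0).Opens} {M : FSch.ModF 𝔛 h}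
  (h𝔛 : 𝔛.IsLocNoethFormal)

include h𝔛

omit h𝔛 in
theorem pr_le_of_le {V : (𝔛.X 0).Opens} {k k' : ℕ} (hk : k ≤ k') {b : Ring (𝔛.Osh h) V}
    (hb : pr h V k' b = 0) : pr h V k b = 0 := by
  induction k', hk using Nat.le_induction with
  | base => exact hb
  | succ m _ ih => exact ih (by rw [← ρ_pr h V m, hb, map_zero])

omit h𝔛 in
/-- Combinations with coefficients vanishing on a level of sections killed by that level. -/
theorem comb_eq_zero_of_mem_kk {p n : ℕ} {g : Fin p → Sec M U}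
    (hg : ∀ i, FTors.KilledBy (FTors.openIdealFam 𝔛 h) M n (g i)) (hV : V ≤ U)
    {a : Fin p → Ring (𝔛.Osh h) V} (ha : a ∈ kk h V n p) : comb g hV a = 0 :=
  Finset.sum_eq_zero fun i _ => hg i (homOfLE hV) (a i) (mem_kk.1 ha i)

/-- Finitely many torsion sections over an affine open are killed by one level. -/
theorem exists_killedBy (hT : FTors.IsTorsF 𝔛 h M) (hU : IsAffineOpen U) {p : ℕ}
    (g : Fin p → Sec M U) :
    ∃ n, ∀ i, FTors.KilledBy (FTors.openIdealFam 𝔛 h) M n (g i) := by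
  have key : ∀ i, ∃ n, FTors.KilledBy (FTors.openIdealFam 𝔛 h) M n (g i) := fun i => by
    obtain ⟨ι, _, f, hf, hP⟩ := exists_finite_cover hU
      (fun W => ∃ (hW : W ≤ U) (n : ℕ), FTors.KilledBy (FTors.openIdealFam 𝔛 h) M n (res M hW (g i)))
      (fun W W' hW'W _ ⟨hW, n, hn⟩ => ⟨hW'W.trans hW, n, by
        have h1 := hn.res (homOfLE hW'W)
        rw [ftors_res_eq, res_res] at h1
        exact h1⟩)
      (fun x hx => by
        obtain ⟨W, hW, hxW, n, hn⟩ := (isTorsSect_iff_exists _).1 (hT U (g i)) x hx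
        exact ⟨W, hW, hxW, hW, n, hn⟩)
    choose hW n hn using hP
    cases nonempty_fintype ι
    refine ⟨Finset.univ.sup n, fun W q a ha => eq_zero_of_locally fun x hx => ?_⟩
    obtain ⟨l, hl⟩ := Opens.mem_iSup.1 (hf (leOfHom q hx))
    refine ⟨W ⊓ Dop h (f l), inf_le_left, ⟨hx, hl⟩, ?_⟩
    have h1 := (hn l).mono (Finset.le_sup (f := n) (Finset.mem_univ l))
      (homOfLE (inf_le_right : W ⊓ Dop h (f l) ≤ Dop h (f l))) (rres _ inf_le_left a)
      ((FTors.openIdealFam 𝔛 h).map_mem' _ (homOfLE inf_le_left) a ha)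
    rw [ftors_res_eq, res_res] at h1
    rw [res_smul', ftors_res_eq, res_res]
    exact h1
  choose n hn using key
  exact ⟨Finset.univ.sup n, fun i => (hn i).mono (Finset.le_sup (f := n) (Finset.mem_univ i))⟩

/-- A section which is a combination on a basic open is one after multiplication by a power. -/
theorem exists_pow_comb (hM : PC M) (hU : IsAffineOpen U) {p m n : ℕ} {g : Fin p → Sec M U}
    (hg : ∀ i, FTors.KilledBy (FTors.openIdealFam 𝔛 h) M n (g i)) (v : Fin p → Ring (𝔛.Osh h) U)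
    (v' : Fin m → Fin p → Ring (𝔛.Osh h) U) (f : Ring (𝔛.Osh h) U)
    (hgen : GenIn (fun l => comb g le_rfl (v' l)) (Dop_le h f)
      (res M (Dop_le h f) (comb g le_rfl v))) :
    ∃ (N : ℕ) (c : Fin m → Ring (𝔛.Osh h) U),
      f ^ N • comb g le_rfl v = comb (fun l => comb g le_rfl (v' l)) le_rfl c := by
  obtain ⟨q, r, hr⟩ := hM.exists_isRel h𝔛 hU g
  obtain ⟨q', r', hr'⟩ := hM.exists_isRel h𝔛 hU fun l => comb g le_rfl (v' l)
  obtain ⟨a, ha⟩ := hr'.exists_comb h𝔛 (isAffineOpen_Dop h hU f) (Dop_le h f) _ hgen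
  have hV := Dop_le h f
  have h1 : rv (𝔛.Osh h) hV v - ∑ l, a l • rv (𝔛.Osh h) hV (v' l) ∈ spanV hV r := by
    refine hr.mem_spanV h𝔛 (isAffineOpen_Dop h hU f) hV ?_
    rw [← combL_apply, map_sub, map_sum, combL_apply, comb_rv g le_rfl hV, ← ha, sub_eq_zero]
    refine Finset.sum_congr rfl fun l _ => ?_
    rw [map_smul, combL_apply, comb_rv g le_rfl hV]
  have h2 : rv (𝔛.Osh h) hV v ∈ spanV hV (Fin.append r v') ⊔ kk h (Dop h f) n p := by
    refine Submodule.mem_sup_left ?_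
    rw [← sub_add_cancel (rv (𝔛.Osh h) hV v) (∑ l, a l • rv (𝔛.Osh h) hV (v' l))]
    refine Submodule.add_mem _ (Submodule.span_mono ?_ h1)
      (Submodule.sum_mem _ fun l _ => Submodule.smul_mem _ _
        (Submodule.subset_span ⟨Fin.natAdd q l, by simp⟩))
    rintro _ ⟨l, rfl⟩
    exact ⟨Fin.castAdd m l, by simp⟩
  obtain ⟨N, hN⟩ := exists_num hU rfl hV n _ v h2
  obtain ⟨s, hs, z, hz, hsz⟩ := Submodule.mem_sup.1 hN
  obtain ⟨c, hc⟩ := (Submodule.mem_span_range_iff_exists_fun _).1 hs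
  refine ⟨N, fun l => c (Fin.natAdd q l), ?_⟩
  have h3 := congrArg (combL g (le_refl U)) hsz
  rw [map_add, map_smul, combL_apply _ _ z, comb_eq_zero_of_mem_kk hg le_rfl hz, add_zero, ← hc,
    map_sum, Fin.sum_univ_add] at h3
  simp only [map_smul, combL_apply, Fin.append_left, Fin.append_right, hr.rel, smul_zero,
    Finset.sum_const_zero, zero_add] at h3
  rw [← h3]
  simp only [comb, res_refl]

/-- A compatible family of patches extends over an affine open. -/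
theorem exists_patch (hM : PC M) (hT : FTors.IsTorsF 𝔛 h M) (hU : IsAffineOpen U) (hgen : GenBy M U)
    (G : Set (Patch M)) (hG : ∀ P ∈ G, ∀ Q ∈ G, P.Le Q) :
    ∃ P : Patch M, P.U = U ∧ ∀ Q ∈ G, P.Le Q ∧ Q.Le P := by
  classical
  haveI : IsLocallyNoetherian (𝔛.X 0) := h𝔛.2.2 0
  haveI : IsNoetherianRing Γ(𝔛.X 0, U) := IsLocallyNoetherian.component_noetherian ⟨U, hU⟩
  haveI : NoetherianSpace (U : Set (𝔛.X 0)) := noetherianSpace_of_isAffineOpen U hU
  let Z : Set (𝔛.X 0) := (U : Set (𝔛.X 0)) ∩ ⋃ P ∈ G, (P.U : Set (𝔛.X 0))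
  have hZc : IsCompact Z :=
    (noetherianSpace_set_iff _).1 inferInstance Z Set.inter_subset_left
  have hpt : ∀ z : Z, ∃ (P : Patch M) (_ : P ∈ G) (f : Ring (𝔛.Osh h) U), Dop h f ≤ P.U ∧ z.1 ∈ Dop h f :=
    fun ⟨z, hzU, hz⟩ => by
      obtain ⟨P, hP, hzP⟩ := Set.mem_iUnion₂.1 hz
      obtain ⟨f, hf, hzf⟩ := exists_Dop_le (W := U ⊓ P.U) h hU hzU ⟨hzU, hzP⟩
      exact ⟨P, hP, f, hf.trans inf_le_right, hzf⟩
  choose P hP f hfP hzf using hpt
  obtain ⟨t, ht⟩ := hZc.elim_finite_subcover (fun z : Z => (Dop h (f z) : Set (𝔛.X 0)))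
    (fun z => (Dop h (f z)).2) fun z hz => Set.mem_iUnion.2 ⟨⟨z, hz⟩, hzf ⟨z, hz⟩⟩
  let Q := Σ i : {z // z ∈ t}, Fin (P i.1).n
  let e : Q ≃ Fin (Fintype.card Q) := Fintype.equivFin Q
  let s : ∀ q : Q, Sec M (Dop h (f q.1.1)) := fun q => res M (hfP q.1.1) ((P q.1.1).s q.2)
  obtain ⟨p, g, hg⟩ := hgen.exists_genIn (ι := ULift.{u} (Fin (Fintype.card Q)))
    (fun q => Dop h (f (e.symm q.down).1.1)) (fun q => Dop_le h _)
    (fun q => (isAffineOpen_Dop h hU _).isCompact) fun q => s (e.symm q.down)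
  obtain ⟨n, hn⟩ := exists_killedBy h𝔛 hT hU g
  obtain ⟨w, r, hr⟩ := hM.exists_isRel h𝔛 hU g
  choose c hc using fun q : Fin (Fintype.card Q) =>
    hr.exists_comb h𝔛 (isAffineOpen_Dop h hU _) (Dop_le h _) _ (hg ⟨q⟩)
  choose N₁ b hb using fun q : Fin (Fintype.card Q) =>
    exists_den hU rfl (Dop_le h (f (e.symm q).1.1)) n (c q)
  have hσ : ∀ q : Fin (Fintype.card Q), res M (Dop_le h (f (e.symm q).1.1)) (comb g le_rfl (b q)) =
      rres (𝔛.Osh h) (Dop_le h (f (e.symm q).1.1)) (f (e.symm q).1.1) ^ N₁ q • s (e.symm q) := fun q => by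
    rw [← comb_rv g le_rfl (Dop_le h _), ← hc q, ← combL_apply, ← combL_apply, ← map_smul, ← sub_eq_zero,
      ← map_sub]
    exact comb_eq_zero_of_mem_kk hn (Dop_le h _) (hb q)
  -- generators of a patch over an overlap
  let σ : ∀ q : Fin (Fintype.card Q), Sec M U := fun q => comb g le_rfl (b q)
  have hloc : ∀ (j : {z // z ∈ t}) (q : Fin (Fintype.card Q)), ∃ (N : ℕ),
      GenIn (P j.1).s (hfP j.1)
        (rres (𝔛.Osh h) (Dop_le h (f j.1)) (f (e.symm q).1.1) ^ N • res M (Dop_le h (f j.1)) (σ q)) := by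
    intro j q
    let i : {z // z ∈ t} := (e.symm q).1
    let τ : Fin (P j.1).n → Fin (Fintype.card Q) := fun l => e ⟨j, l⟩
    have hsj : ∀ l, GenIn (fun l => σ (τ l)) (Dop_le h (f j.1)) (res M (hfP j.1) ((P j.1).s l)) ∧
        GenIn (P j.1).s (hfP j.1) (res M (Dop_le h (f j.1)) (σ (τ l))) := fun l => by
      have h1 : res M (Dop_le h (f j.1)) (σ (τ l)) =
          rres (𝔛.Osh h) (Dop_le h (f j.1)) (f j.1) ^ N₁ (τ l) • res M (hfP j.1) ((P j.1).s l) := by
        have h2 := hσ (τ l)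
        simp only [τ] at h2 ⊢
        rw [e.symm_apply_apply] at h2
        exact h2
      obtain ⟨v, hv⟩ := ((isUnit_rres h𝔛 hU rfl (Dop_le h (f j.1))).pow (N₁ (τ l))).exists_left_inv
      refine ⟨?_, h1 ▸ (GenIn.self _ _ l).smul _⟩
      have h3 : res M (hfP j.1) ((P j.1).s l) = v • res M (Dop_le h (f j.1)) (σ (τ l)) := by
        rw [h1, smul_smul, hv, one_smul]
      rw [h3]
      exact (GenIn.self (fun l => σ (τ l)) _ l).smul v
    have hsub : Dop h (f i.1 * f j.1) ≤ Dop h (f j.1) := Dop_mul_right _ _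
    have hsub' : Dop h (f i.1 * f j.1) ≤ Dop h (f i.1) := Dop_mul_left _ _
    have h4 : GenIn (fun l => σ (τ l)) (Dop_le h (f i.1 * f j.1))
        (res M (Dop_le h (f i.1 * f j.1)) (σ q)) := by
      refine GenIn.trans' (g := (P j.1).s) (hVU := hsub.trans (hfP j.1)) ?_ _ fun l => ?_
      · rw [← res_res (Dop_le h (f i.1)) hsub', show res M (Dop_le h (f i.1)) (σ q) = _ from hσ q, res_smul']
        refine GenIn.smul ?_ _
        refine (hG _ (hP i.1) _ (hP j.1)).genIn (hsub.trans (hfP j.1)) (hP := hsub'.trans (hfP i.1)) ?_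
        rw [res_res]
        exact GenIn.self _ _ _
      · have h5 := (hsj l).1.res hsub
        rw [res_res] at h5
        exact h5
    obtain ⟨N, a, ha⟩ := exists_pow_comb h𝔛 hM hU hn (b q) (fun l => b (τ l)) (f i.1 * f j.1) h4
    refine ⟨N, ?_⟩
    obtain ⟨v, hv⟩ := ((isUnit_rres h𝔛 hU rfl (Dop_le h (f j.1))).pow N).exists_left_inv
    have h6 : rres (𝔛.Osh h) (Dop_le h (f j.1)) (f i.1) ^ N • res M (Dop_le h (f j.1)) (σ q) =
        v • res M (Dop_le h (f j.1)) ((f i.1 * f j.1) ^ N • σ q) := by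
      rw [res_smul', map_pow, map_mul, mul_pow, smul_smul, mul_left_comm, hv, mul_one]
    rw [h6, ha]
    refine GenIn.smul ?_ v
    rw [← comb_rv (fun l => σ (τ l)) le_rfl (Dop_le h (f j.1)) a, ← comb_res (fun l => σ (τ l))
      (Dop_le h (f j.1)) le_rfl]
    exact GenIn.comb le_rfl (fun l => (hsj l).2) _
  choose N hN using hloc
  let M₀ : Fin (Fintype.card Q) → ℕ := fun q => Finset.univ.sup fun j => N j q
  refine ⟨⟨U, _, fun q => f (e.symm q).1.1 ^ M₀ q • σ q⟩, rfl, fun R hR => ?_⟩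
  have hcov : ∀ x, x ∈ U → x ∈ R.U → ∃ j : {z // z ∈ t}, x ∈ Dop h (f j.1) := fun x hxU hxR => by
    obtain ⟨z, hz, hxz⟩ := Set.mem_iUnion₂.1 (ht ⟨hxU, Set.mem_iUnion₂.2 ⟨R, hR, hxR⟩⟩)
    exact ⟨⟨z, hz⟩, hxz⟩
  constructor
  · intro q
    refine GenIn.of_locally fun x hx => ?_
    obtain ⟨j, hj⟩ := hcov x hx.1 hx.2
    refine ⟨(U ⊓ R.U) ⊓ Dop h (f j.1), inf_le_left, ⟨hx, hj⟩, ?_⟩
    refine (hG _ (hP j.1) _ hR).genIn (hP := inf_le_right.trans (hfP j.1)) _ ?_
    rw [res_res]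
    have h7 : GenIn (P j.1).s (hfP j.1) (res M (Dop_le h (f j.1)) (f (e.symm q).1.1 ^ M₀ q • σ q)) := by
      have hle : N j q ≤ M₀ q := Finset.le_sup (f := fun j => N j q) (Finset.mem_univ j)
      rw [res_smul', map_pow, ← Nat.sub_add_cancel hle,
        pow_add, mul_smul]
      exact (hN j q).smul _
    have h8 := h7.res (inf_le_right : (U ⊓ R.U) ⊓ Dop h (f j.1) ≤ Dop h (f j.1))
    rw [res_res] at h8
    exact h8
  · intro l
    refine GenIn.of_locally fun x hx => ?_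
    obtain ⟨j, hj⟩ := hcov x hx.2 hx.1
    refine ⟨(R.U ⊓ U) ⊓ Dop h (f j.1), inf_le_left, ⟨hx, hj⟩, ?_⟩
    have h9 : GenIn (P j.1).s (inf_le_right.trans (hfP j.1) : (R.U ⊓ U) ⊓ Dop h (f j.1) ≤ _)
        (res M inf_le_left (res M (inf_le_left : R.U ⊓ U ≤ R.U) (R.s l))) := by
      refine (hG _ hR _ (hP j.1)).genIn (hP := inf_le_left.trans inf_le_left) _ ?_
      rw [res_res]
      exact GenIn.self _ _ _
    refine h9.trans' _ fun l' => ?_
    obtain ⟨v, hv⟩ := ((isUnit_rres h𝔛 hU rfl (Dop_le h (f j.1))).pow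
      (M₀ (e ⟨j, l'⟩) + N₁ (e ⟨j, l'⟩))).exists_left_inv
    have h10 := hσ (e ⟨j, l'⟩)
    have h11 : res M (hfP j.1) ((P j.1).s l') =
        v • res M (Dop_le h (f j.1)) (f (e.symm (e ⟨j, l'⟩)).1.1 ^ M₀ (e ⟨j, l'⟩) • σ (e ⟨j, l'⟩)) := by
      rw [e.symm_apply_apply] at h10 ⊢
      simp only [σ]
      rw [res_smul', map_pow, h10, smul_smul, smul_smul, mul_assoc, ← pow_add, hv, one_smul]
    have h12 := ((GenIn.self (fun q => f (e.symm q).1.1 ^ M₀ q • σ q) (Dop_le h (f j.1))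
      (e ⟨j, l'⟩)).smul v).res (inf_le_right : (R.U ⊓ U) ⊓ Dop h (f j.1) ≤ Dop h (f j.1))
    rw [← h11, res_res] at h12
    exact h12

/-- Quasi-coherent torsion modules are locally in coherent submodules. -/
theorem genC_of_isTors (hM : PC M) (hgen : Gen M) (hT : FTors.IsTorsF 𝔛 h M) : GenC M := by
  intro V y x hx
  obtain ⟨A, hA, hAV, hxA⟩ := exists_affine_le hx
  let P₀ : Patch M := ⟨A, 1, fun _ => res M hAV y⟩
  let S : Set (Set (Patch M)) := {G | ∀ P ∈ G, ∀ Q ∈ G, P.Le Q}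
  have h₀ : {P₀} ∈ S := fun P hP Q hQ => by
    rw [Set.mem_singleton_iff.1 hP, Set.mem_singleton_iff.1 hQ]
    exact Patch.Le.refl P₀
  obtain ⟨G, hG₀, hmax⟩ := zorn_subset_nonempty S (fun C hC hchain hne => ⟨⋃₀ C,
    fun P ⟨G₁, hG₁, hP⟩ Q ⟨G₂, hG₂, hQ⟩ => by
      rcases hchain.total hG₁ hG₂ with h12 | h12
      · exact hC hG₂ P (h12 hP) Q hQ
      · exact hC hG₁ P hP Q (h12 hQ),
    fun G hG => Set.subset_sUnion_of_mem hG⟩) {P₀} h₀
  have hP₀ : P₀ ∈ G := hG₀ rfl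
  have hcov : ∀ z : 𝔛.X 0, ∃ P ∈ G, z ∈ P.U := fun z => by
    obtain ⟨U₁, hzU₁, hU₁⟩ := hgen z
    obtain ⟨U, hU, hle, hzU⟩ := exists_affine_le hzU₁
    obtain ⟨P, hPU, hP⟩ := exists_patch h𝔛 hM hT hU (hU₁.restrict hle) G hmax.1
    have h1 : insert P G ∈ S := fun P₁ h₁ P₂ h₂ => by
      rcases Set.mem_insert_iff.1 h₁ with e₁ | h₁ <;> rcases Set.mem_insert_iff.1 h₂ with e₂ | h₂
      · rw [e₁, e₂]
        exact Patch.Le.refl _
      · rw [e₁]
        exact (hP _ h₂).1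
      · rw [e₂]
        exact (hP _ h₁).2
      · exact hmax.1 _ h₁ _ h₂
    exact ⟨P, hmax.2 h1 (Set.subset_insert P G) (Set.mem_insert P G), hPU ▸ hzU⟩
  let g : ∀ P : G, Fin P.1.n → Sec M P.1.U := fun P => P.1.s
  have hg : ∀ (P : G) i, g P i ∈ (genSub (fun P : G => P.1.U) g).mem P.1.U :=
    fun P i Q => hmax.1 _ P.2 _ Q.2 i
  refine ⟨_, isCohF_of_pc h𝔛 (hM.of_mono (genSub (fun P : G => P.1.U) g).ι) (fun z => ?_),
    (genSub (fun P : G => P.1.U) g).ι, A, hAV, ⟨_, hg ⟨P₀, hP₀⟩ (0 : Fin 1)⟩, hxA, rfl⟩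
  obtain ⟨P, hP, hz⟩ := hcov z
  exact ⟨P.U, hz, _, _, genSub_isGen (fun P : G => P.1.U) g hg ⟨P, hP⟩⟩

theorem ind_of_isQCT (hM : FTors.IsQCT 𝔛 h M) :
    (ObjectProperty.ind.{u} fun 𝔊 : FSch.ModF 𝔛 h => FSch.IsCohF 𝔛 h 𝔊) M :=
  have := hM.2
  ind_of_pc_genC h𝔛 (pc_gen_of_isQuasicoherent h𝔛).1
    (genC_of_isTors h𝔛 (pc_gen_of_isQuasicoherent h𝔛).1 (pc_gen_of_isQuasicoherent h𝔛).2 hM.1)

end Groth.Agent.FTors52
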