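import Groth.Agent.FTors52.FiltCol
import Groth.Agent.FTors52.TorsExtend
import Mathlib.CategoryTheory.Limits.FullSubcategory
import Mathlib.CategoryTheory.Limits.Preserves.Basic
import Mathlib.CategoryTheory.Adjunction.Basic

/-!
# The quasi-coherent torsion coreflection commutes with filtered colimits
-/

set_option autoImplicit false

universe u

open CategoryTheory CategoryTheory.Limits AlgebraicGeometry Opposite TopologicalSpace

namespace Groth.Agent.FTors52

variable {𝔛 : FSch.Sys.{u}} {h : 𝔛.IsFormal}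

theorem isQCT_closed (h𝔛 : 𝔛.IsLocNoethFormal) (J : Type u) [SmallCategory J] :
    (FTors.IsQCT 𝔛 h).IsClosedUnderColimitsOfShape J := by
  refine ⟨fun X ⟨p⟩ => ?_⟩
  have hp := fun j => pc_genC_of_ind h𝔛 (ind_of_isQCT h𝔛 (p.prop_diag_obj j))
  obtain ⟨h₁, h₂⟩ := pc_genC_of_isColimit h𝔛 p.isColimit (fun j => (hp j).1) fun j => (hp j).2
  exact ⟨isTors_of_isColimit p.isColimit fun j => (p.prop_diag_obj j).1,
    isQuasicoherent_of_pc h𝔛 h₁ (h₂.gen h𝔛)⟩

theorem exists_coh_presentation (h𝔛 : 𝔛.IsLocNoethFormal) {N : FSch.ModF 𝔛 h}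
    (hN : FTors.IsQCT 𝔛 h N) :
    ∃ (J : Type u) (_ : SmallCategory J) (pres : ColimitPresentation J N),
      ∀ j, FSch.IsCohF 𝔛 h (pres.diag.obj j) ∧ FTors.IsQCT 𝔛 h (pres.diag.obj j) := by
  have := hN.2
  obtain ⟨h₁, h₂⟩ := pc_genC_of_ind h𝔛 (ind_of_isQCT h𝔛 hN)
  obtain ⟨J, i, -, pres, hP, hm⟩ := exists_presentation_of_pc_genC h𝔛 h₁ h₂
  refine ⟨J, i, pres, fun j => ⟨hP j, ?_, isQuasicoherent_of_pc h𝔛 (isPC_of_isCohF h𝔛 (hP j))
    ((GenC.of_isCohF (hP j)).gen h𝔛)⟩⟩
  have := hm j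
  exact isTors_of_mono (pres.ι.app j) hN.1

theorem preservesColimit_of_adj (h𝔛 : 𝔛.IsLocNoethFormal) [CompactSpace (𝔛.X 0)]
    (Q : FSch.ModF 𝔛 h ⥤ (FTors.IsQCT 𝔛 h).FullSubcategory) (adj : (FTors.IsQCT 𝔛 h).ι ⊣ Q)
    {I : Type u} [SmallCategory I] [IsFiltered I] (K : I ⥤ FSch.ModF 𝔛 h) : PreservesColimit K Q := by
  have := isQCT_closed (h := h) h𝔛 I
  let P := FTors.IsQCT 𝔛 h
  let c := colimit.cocone K
  have hc : IsColimit c := colimit.isColimit K
  let c' := colimit.cocone (K ⋙ Q)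
  have hc' : IsColimit c' := colimit.isColimit (K ⋙ Q)
  have : HasColimitsOfShape I (FTors.IsQCT 𝔛 h).FullSubcategory := inferInstance
  have : CreatesColimitsOfShape I (FTors.IsQCT 𝔛 h).ι := createsColimitsOfShapeFullSubcategoryInclusion I (FTors.IsQCT 𝔛 h)
  have : PreservesColimitsOfShape I (FTors.IsQCT 𝔛 h).ι := preservesColimitOfShape_of_createsColimitsOfShape_and_hasColimitsOfShape _
  have hι : IsColimit ((FTors.IsQCT 𝔛 h).ι.mapCocone c') := isColimitOfPreserves _ hc'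
  let d : c'.pt ⟶ Q.obj c.pt := hc'.desc (Q.mapCocone c)
  have hdj : ∀ j, c'.ι.app j ≫ d = Q.map (c.ι.app j) := hc'.fac (Q.mapCocone c)
  have lift : ∀ (C : P.FullSubcategory), FSch.IsCohF 𝔛 h C.obj → ∀ f : C ⟶ Q.obj c.pt,
      ∃ g : C ⟶ c'.pt, g ≫ d = f := fun C hC f => by
    obtain ⟨j, φ, hφ⟩ := exists_factor_stage h𝔛 hc hC ((adj.homEquiv C c.pt).symm f)
    refine ⟨adj.homEquiv C (K.obj j) φ ≫ c'.ι.app j, ?_⟩
    rw [Category.assoc, hdj, ← adj.homEquiv_naturality_right]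
    exact (congrArg _ hφ).trans ((adj.homEquiv C c.pt).apply_symm_apply f)
  have uniq : ∀ (C : P.FullSubcategory), FSch.IsCohF 𝔛 h C.obj → ∀ g g' : C ⟶ c'.pt,
      g ≫ d = g' ≫ d → g = g' := fun C hC => by
    suffices h0 : ∀ j (a : C.obj ⟶ (Q.obj (K.obj j)).obj) (i : I) (b : C.obj ⟶ (Q.obj (K.obj i)).obj),
        ObjectProperty.homMk a ≫ c'.ι.app j ≫ d = ObjectProperty.homMk b ≫ c'.ι.app i ≫ d →
        ObjectProperty.homMk a ≫ c'.ι.app j = ObjectProperty.homMk b ≫ c'.ι.app i by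
      intro g g' hg
      obtain ⟨j, a, ha⟩ := exists_factor_stage h𝔛 hι hC g.hom
      obtain ⟨i, b, hb⟩ := exists_factor_stage h𝔛 hι hC g'.hom
      have e₁ : g = ObjectProperty.homMk a ≫ c'.ι.app j := ObjectProperty.hom_ext _ ha.symm
      have e₂ : g' = ObjectProperty.homMk b ≫ c'.ι.app i := ObjectProperty.hom_ext _ hb.symm
      rw [e₁, e₂] at hg ⊢
      exact h0 j a i b (by simpa only [Category.assoc] using hg)
    intro j a i b hab
    let a' : C ⟶ Q.obj (K.obj j) := ObjectProperty.homMk a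
    let b' : C ⟶ Q.obj (K.obj i) := ObjectProperty.homMk b
    change a' ≫ c'.ι.app j = b' ≫ c'.ι.app i
    change a' ≫ c'.ι.app j ≫ d = b' ≫ c'.ι.app i ≫ d at hab
    rw [hdj, hdj] at hab
    let k := IsFiltered.max j i
    let u : C.obj ⟶ K.obj k := (adj.homEquiv C (K.obj j)).symm a' ≫ K.map (IsFiltered.leftToMax j i) -
      (adj.homEquiv C (K.obj i)).symm b' ≫ K.map (IsFiltered.rightToMax j i)
    have hu : u ≫ c.ι.app k = 0 := by
      simp only [u]
      rw [Preadditive.sub_comp, Category.assoc, Category.assoc, c.w, c.w, sub_eq_zero,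
        ← adj.homEquiv_naturality_right_symm, ← adj.homEquiv_naturality_right_symm]
      exact congrArg _ hab
    obtain ⟨l, g, hg⟩ := exists_comp_eq_zero h𝔛 hc hC u hu
    simp only [u] at hg
    rw [Preadditive.sub_comp, Category.assoc, Category.assoc, ← K.map_comp, ← K.map_comp, sub_eq_zero,
      ← adj.homEquiv_naturality_right_symm, ← adj.homEquiv_naturality_right_symm] at hg
    have h2 := (adj.homEquiv C (K.obj l)).symm.injective hg
    have wj : Q.map (K.map (IsFiltered.leftToMax j i ≫ g)) ≫ c'.ι.app l = c'.ι.app j :=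
      c'.w (IsFiltered.leftToMax j i ≫ g)
    have wi : Q.map (K.map (IsFiltered.rightToMax j i ≫ g)) ≫ c'.ι.app l = c'.ι.app i :=
      c'.w (IsFiltered.rightToMax j i ≫ g)
    rw [← wj, ← wi, ← Category.assoc, ← Category.assoc, h2]
  obtain ⟨J, _, pres, hpres⟩ := exists_coh_presentation h𝔛 (Q.obj c.pt).2
  let Cj : J → P.FullSubcategory := fun j => ⟨pres.diag.obj j, (hpres j).2⟩
  choose e he using fun j => lift (Cj j) (hpres j).1 (ObjectProperty.homMk (pres.ι.app j))
  let ce : Cocone pres.diag :=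
    { pt := c'.pt.obj
      ι :=
        { app := fun j => (e j).hom
          naturality := fun j k g => by
            have h3 := uniq (Cj j) (hpres j).1 ((ObjectProperty.homMk (pres.diag.map g) : Cj j ⟶ Cj k) ≫ e k) (e j) (by
              rw [Category.assoc, he, he]
              exact ObjectProperty.hom_ext _ (pres.w g))
            exact (congrArg (fun f => f.hom) h3).trans (Category.comp_id _).symm } }
  let q : Q.obj c.pt ⟶ c'.pt := ObjectProperty.homMk (pres.isColimit.desc ce)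
  have hqd : q ≫ d = 𝟙 _ := ObjectProperty.hom_ext _ (pres.isColimit.hom_ext fun j => by
    change pres.ι.app j ≫ pres.isColimit.desc ce ≫ d.hom = pres.ι.app j ≫ 𝟙 _
    rw [pres.isColimit.fac_assoc, Category.comp_id]
    exact congrArg (fun f => f.hom) (he j))
  have hdq : d ≫ q = 𝟙 _ := by
    obtain ⟨J', _, pres', hpres'⟩ := exists_coh_presentation h𝔛 c'.pt.2
    refine ObjectProperty.hom_ext _ (pres'.isColimit.hom_ext fun j => ?_)
    let C : P.FullSubcategory := ⟨pres'.diag.obj j, (hpres' j).2⟩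
    let g : C ⟶ c'.pt := ObjectProperty.homMk (pres'.ι.app j)
    exact congrArg (fun f => f.hom) (uniq C (hpres' j).1 (g ≫ d ≫ q) (g ≫ 𝟙 _) (by
      rw [Category.assoc, Category.assoc, hqd, Category.comp_id, Category.comp_id]))
  have : IsIso d := ⟨q, hdq, hqd⟩
  exact preservesColimit_of_preserves_colimit_cocone hc
    (IsColimit.ofPointIso (i := this) hc')

end Groth.Agent.FTors52
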