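import Groth.Agent.FTors52.Coherent
import Groth.Agent.FTors52.FreeOver

/-!
# Quasi-coherent modules on a locally Noetherian formal scheme

A module is quasi-coherent exactly when it is locally generated by sections and finite families of
its sections locally have finitely generated relations.
-/

set_option autoImplicit false

universe u

open CategoryTheory CategoryTheory.Limits AlgebraicGeometry Opposite TopologicalSpace

namespace Groth.Agent.FTors52

open FMod90

variable {𝔛 : FSch.Sys.{u}} {h : 𝔛.IsFormal} {U V W : (𝔛.X 0).Opens} {M : FSch.ModF 𝔛 h}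

section general

variable {T : TopCat.{u}} {O : Sheaf (Opens.grothendieckTopology T) CommRingCat.{u}}
  {M : ModSite.Mod O} {U V : Opens T}

/-- The restriction of a module to the localised site of an open. -/
noncomputable abbrev overM (M : ModSite.Mod O) (U : Opens T) : ModSite.Mod (O.over U) := M.over U

/-- A presentation over `U`, read on the localised ringed site. -/
noncomputable def toPres (P : (overM M U).Presentation) : (overM M U).Presentation := P

/-- A presentation on the localised ringed site, read over `U`. -/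
noncomputable def ofPres (P : (overM M U).Presentation) : (M.over U).Presentation := P

/-- The morphism of free modules of a presentation. -/
noncomputable def relHom (Q : (overM M U).Presentation) :
    freeU O U Q.relations.I ⟶ freeU O U Q.generators.I :=
  Q.relations.π ≫ kernel.ι Q.generators.π

set_option maxHeartbeats 1000000 in
theorem relHom_comp (Q : (overM M U).Presentation) : relHom Q ≫ Q.generators.π = 0 := by
  rw [relHom, Category.assoc, kernel.condition, comp_zero]

set_option maxHeartbeats 1000000 in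
theorem exists_relHom_lift (Q : (overM M U).Presentation) (hV : V ≤ U)
    (z : ModSite.sect (freeU O U Q.generators.I) (ov hV))
    (hz : Site.app Q.generators.π (ov hV) z = 0) {x : T} (hx : x ∈ V) :
    ∃ (W : Opens T) (hW : W ≤ V) (w : ModSite.sect (freeU O U Q.relations.I) (ov (hW.trans hV))),
      x ∈ W ∧ Site.app (relHom Q) (ov (hW.trans hV)) w = Site.mapS _ (ovHom hW hV) z := by
  obtain ⟨κ, hκ⟩ := Site.exists_kernel_lift Q.generators.π z hz
  obtain ⟨S, hS, hlift⟩ := Site.exists_cover_lift Q.relations.π κ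
  obtain ⟨W, hW, hxW, hSW⟩ := exists_mem_of_cover hS hx
  obtain ⟨w, hw⟩ := hlift _ hSW
  refine ⟨W, hW, w, hxW, ?_⟩
  rw [relHom, Site.app_comp]
  refine (congrArg (Site.app (kernel.ι Q.generators.π) _) hw).trans ?_
  refine (Site.map_app (kernel.ι Q.generators.π) (ovHom hW hV) κ).symm.trans ?_
  exact congrArg (Site.mapS _ _) hκ

end general

/-- The generators of a presentation as sections. -/
noncomputable def genSec (P : (overM M U).Presentation) (i : P.generators.I) : Sec M U :=
  (P.generators.s i).val (op (Over.mk (𝟙 U)))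

theorem genSec_eq (P : (overM M U).Presentation) (i : P.generators.I) :
    ((overM M U).freeHomEquiv P.generators.π i).val (op (Over.mk (𝟙 U))) = genSec P i := by
  simp only [SheafOfModules.GeneratingSections.π, Equiv.apply_symm_apply]
  rfl

theorem exists_gen_local (P : (overM M U).Presentation) (hV : V ≤ U) (y : Sec M V) {x : 𝔛.X 0}
    (hx : x ∈ V) :
    ∃ (W : (𝔛.X 0).Opens) (hW : W ≤ V) (k : ℕ) (g : Fin k → P.generators.I)
      (a : Fin k → Ring (𝔛.Osh h) W),
      x ∈ W ∧ comb (fun i => genSec P (g i)) (hW.trans hV) a = res M hW y := by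
  obtain ⟨S, hS, hlift⟩ := Site.exists_cover_lift P.generators.π (W := ov hV) y
  obtain ⟨W, hW, hxW, hSW⟩ := exists_mem_of_cover hS hx
  obtain ⟨z, hz⟩ := hlift _ hSW
  obtain ⟨W', hW', k, g, a, hxW', ha⟩ := exists_lcomb_local (hW.trans hV) z hxW
  refine ⟨W', hW'.trans hW, k, g, a, hxW', ?_⟩
  have h1 := app_lcomb_bas P.generators.π g (hW.trans hV) hW' a
  refine (congrArg (fun v => comb v (hW'.trans (hW.trans hV)) a)
    (funext fun i => (genSec_eq P (g i)).symm)).trans (h1.symm.trans ?_)
  refine (congrArg (Site.app P.generators.π (ov (hW'.trans (hW.trans hV)))) ha).trans ?_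
  refine (Site.map_app P.generators.π (ovHom hW' (hW.trans hV)) z).symm.trans ?_
  exact (congrArg (Site.mapS (overM M U) (ovHom hW' (hW.trans hV))) hz).trans
    (res_res (M := M) hW hW' y)

theorem genBy_of_presentation (P : (overM M U).Presentation) : GenBy M U := fun V hV y x hx => by
  obtain ⟨W, hW, k, g, a, hxW, ha⟩ := exists_gen_local P hV y hx
  exact ⟨W, hW, k, _, a, hxW, ha⟩

/-- Relations of sections of a module with a presentation over `U`. -/
theorem exists_isRel_of_presentation (h𝔛 : 𝔛.IsLocNoethFormal) (P : (overM M U).Presentation) {n : ℕ}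
    {U' : (𝔛.X 0).Opens} (t : Fin n → Sec M U') {x : 𝔛.X 0} (hxU : x ∈ U) (hxU' : x ∈ U') :
    ∃ (W : (𝔛.X 0).Opens) (hW : W ≤ U'), x ∈ W ∧
      ∃ (m : ℕ) (r : Fin m → Fin n → Ring (𝔛.Osh h) W), IsRel (fun i => res M hW (t i)) r := by
  classical
  let f := relHom P
  have hf : ∀ (V : (𝔛.X 0).Opens) (hV : V ≤ U)
      (w : ModSite.sect (freeU (𝔛.Osh h) U P.relations.I) (ov hV)),
      Site.app P.generators.π (ov hV) (Site.app f (ov hV) w) = 0 := fun V hV w => by
    rw [← Site.app_comp, relHom_comp]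
    exact Site.app_zero _ _
  choose Vi hVi li ci bi hxVi hbi using fun i =>
    exists_gen_local P (inf_le_left : U ⊓ U' ≤ U) (res M (inf_le_right : U ⊓ U' ≤ U') (t i))
      (x := x) ⟨hxU, hxU'⟩
  obtain ⟨W, hWa, hW, hxW⟩ := exists_affine_le
    (U := (⟨⋂ i, (Vi i : Set (𝔛.X 0)), isOpen_iInter_of_finite fun i => (Vi i).2⟩ :
      (𝔛.X 0).Opens) ⊓ (U ⊓ U')) (x := x) ⟨Set.mem_iInter.2 hxVi, hxU, hxU'⟩
  have hWU : W ≤ U := hW.trans (inf_le_right.trans inf_le_left)
  have hWU' : W ≤ U' := hW.trans (inf_le_right.trans inf_le_right)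
  have hWV : ∀ i, W ≤ Vi i := fun i w hw => Set.mem_iInter.1 (hW hw).1 i
  let b : Fin n → ModSite.sect (freeU (𝔛.Osh h) U P.generators.I) (ov hWU) := fun i =>
    lcomb (bas (ci i) hWU) le_rfl (rv (𝔛.Osh h) (hWV i) (bi i))
  have hb : ∀ i, (Site.app P.generators.π (ov hWU) (b i) : Sec M W) = res M hWU' (t i) := fun i => by
    refine (app_lcomb_bas P.generators.π (ci i) hWU le_rfl (rv (𝔛.Osh h) (hWV i) (bi i))).trans ?_
    refine (congrArg (fun v => comb v hWU (rv (𝔛.Osh h) (hWV i) (bi i)))
      (funext fun l => genSec_eq P (ci i l))).trans ?_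
    refine (comb_rv (fun l => genSec P (ci i l)) ((hVi i).trans inf_le_left) (hWV i) (bi i)).trans ?_
    rw [hbi, res_res, res_res]
  let ρ : P.relations.I → ModSite.sect (freeU (𝔛.Osh h) U P.generators.I) (ov hWU) := fun l =>
    Site.app f (ov hWU) (Site.basisSec (O := (𝔛.Osh h).over U) l (ov hWU))
  let R := Ring (𝔛.Osh h) W
  let LA : (Fin n → R) →ₗ[R] (P.generators.I → R) :=
    Fintype.linearCombination R fun i => cfAll hWU (b i)
  let LC : ∀ k, (Fin k → P.relations.I) → ((Fin k → R) →ₗ[R] (P.generators.I → R)) := fun k G =>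
    Fintype.linearCombination R fun l => cfAll hWU (ρ (G l))
  let PP : ∀ k, (Fin k → P.relations.I) → Submodule R (Fin n → R) := fun k G =>
    Submodule.comap LA (LinearMap.range (LC k G))
  obtain ⟨J, hJ⟩ := exists_isAdicRing h𝔛 hWa
  haveI := hJ.noetherian
  obtain ⟨_, ⟨k₀, G₀, rfl⟩, hmax⟩ :=
    (set_has_maximal_iff_noetherian (R := R) (M := Fin n → R)).2 inferInstance
      {Q | ∃ (k : ℕ) (G : Fin k → P.relations.I), Q = PP k G} ⟨_, 0, Fin.elim0, rfl⟩
  obtain ⟨m, r, hr⟩ := Submodule.fg_iff_exists_fin_generating_family.1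
    (IsNoetherian.noetherian (PP k₀ G₀))
  have hPP : ∀ k G, PP k G ≤ PP k₀ G₀ := fun k G => by
    have hle : ∀ {k'} (G' : Fin k' → P.relations.I) (τ : Fin k' → Fin (k₀ + k)),
        (∀ j, Fin.append G₀ G (τ j) = G' j) → PP k' G' ≤ PP _ (Fin.append G₀ G) := by
      intro k' G' τ hτ a ha
      obtain ⟨c, hc⟩ := ha
      refine Submodule.mem_comap.2 ?_
      rw [← hc, Fintype.linearCombination_apply]
      refine Submodule.sum_mem _ fun j _ => Submodule.smul_mem _ _ ⟨Pi.single (τ j) 1, ?_⟩
      simp only [LC, Fintype.linearCombination_apply_single, one_smul, hτ]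
    have h1 : PP k₀ G₀ ≤ PP _ (Fin.append G₀ G) :=
      hle G₀ (Fin.castAdd k) fun j => Fin.append_left G₀ G j
    have h2 : PP k G ≤ PP _ (Fin.append G₀ G) :=
      hle G (Fin.natAdd k₀) fun j => Fin.append_right G₀ G j
    exact h2.trans (eq_of_le_of_not_lt h1 fun hlt => hmax _ ⟨_, _, rfl⟩ hlt).ge
  refine ⟨W, hWU', hxW, m, r, fun l => eq_zero_of_locally fun y hy => ?_, fun V hV a ha y hy => ?_⟩
  · have h1 : r l ∈ PP k₀ G₀ := by
      rw [← hr]
      exact Submodule.subset_span ⟨l, rfl⟩
    obtain ⟨c, hc⟩ := h1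
    let z : ModSite.sect (freeU (𝔛.Osh h) U P.generators.I) (ov hWU) :=
      lcomb b le_rfl (r l) - lcomb (fun j => ρ (G₀ j)) le_rfl c
    have hz : cfAll hWU z = 0 := by
      refine (map_sub (cfAll (O := (𝔛.Osh h)) hWU) _ _).trans (sub_eq_zero.2 (funext fun j => ?_))
      have h2 := congrFun hc.symm j
      simp only [LA, LC, Fintype.linearCombination_apply, Finset.sum_apply, Pi.smul_apply,
        smul_eq_mul] at h2
      refine (cfAll_lcomb (hW := hWU) b le_rfl (r l) j).trans
        (Eq.trans ?_ (cfAll_lcomb (hW := hWU) (fun j => ρ (G₀ j)) le_rfl c j).symm)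
      simp only [rres_refl]
      exact h2
    obtain ⟨W', hW', hyW', hzW'⟩ := mapS_eq_zero_of_cfAll hWU hz hy
    refine ⟨W', hW', hyW', ?_⟩
    have h4 : (Site.app P.generators.π (ov hWU) z : Sec M W) =
        comb (fun i => res M hWU' (t i)) le_rfl (r l) := by
      refine (map_sub (Site.app P.generators.π (ov hWU)) _ _).trans ?_
      have h5 : (fun j => Site.app P.generators.π (ov hWU) (ρ (G₀ j))) = 0 :=
        funext fun j => hf W hWU _
      have h6 : Site.app P.generators.π (ov hWU) (lcomb (fun j => ρ (G₀ j)) le_rfl c) = 0 := by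
        refine (app_lcomb P.generators.π (hW := hWU) _ le_rfl c).trans ?_
        rw [h5]
        exact Finset.sum_eq_zero fun j _ => by rw [Pi.zero_apply, map_zero, smul_zero]
      rw [h6, sub_zero]
      refine (app_lcomb P.generators.π (hW := hWU) b le_rfl (r l)).trans ((lcomb_over _ le_rfl (r l)).trans ?_)
      exact congrArg (fun v => comb v le_rfl (r l)) (funext hb)
    rw [← h4]
    refine (Site.map_app P.generators.π (ovHom hW' hWU) z).trans ?_
    exact (congrArg (Site.app P.generators.π _) hzW').trans (map_zero _)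
  · let z : ModSite.sect (freeU (𝔛.Osh h) U P.generators.I) (ov (hV.trans hWU)) := lcomb b hV a
    have hz : Site.app P.generators.π (ov (hV.trans hWU)) z = 0 := by
      refine (app_lcomb P.generators.π (hW := hWU) b hV a).trans ((lcomb_over _ hV a).trans ?_)
      exact (congrArg (fun v => comb v hV a) (funext hb)).trans ha
    obtain ⟨V₁, hV₁, w, hyV₁, hw⟩ := exists_relHom_lift P (hV.trans hWU) z hz hy
    obtain ⟨V₂, hV₂, k, G, c, hyV₂, hc⟩ := exists_lcomb_local (hV₁.trans (hV.trans hWU)) w hyV₁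
    have hV₂W : V₂ ≤ W := (hV₂.trans hV₁).trans hV
    have hc' : lcomb (bas G hWU) hV₂W c =
        Site.mapS (freeU (𝔛.Osh h) U P.relations.I) (ovHom hV₂ (hV₁.trans (hV.trans hWU))) w := by
      refine Eq.trans ?_ hc
      refine Eq.trans (lcomb_res (bas G hWU) (hV₁.trans hV) hV₂ c).symm ?_
      exact congrArg (fun v => lcomb v hV₂ c) (funext fun i => mapS_bas G hWU (hV₁.trans hV) i)
    have hzc : Site.mapS (freeU (𝔛.Osh h) U P.generators.I) (ovHom (hV₂.trans hV₁) (hV.trans hWU)) z =
        lcomb (fun l => ρ (G l)) hV₂W c := by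
      refine Eq.trans ?_ (app_lcomb f (hW := hWU) (bas G hWU) hV₂W c)
      refine Eq.trans ?_ (congrArg (Site.app f (ov (hV₂W.trans hWU))) hc').symm
      refine Eq.trans ?_ (Site.map_app f (ovHom hV₂ (hV₁.trans (hV.trans hWU))) w)
      rw [hw, Site.mapS_comp]
      rfl
    let rows : Fin (n + k) → ModSite.sect (freeU (𝔛.Osh h) U P.generators.I) (ov hWU) :=
      Fin.append b fun l => ρ (G l)
    choose F hF using fun i => exists_support hWU hWa.isCompact (rows i)
    let F₀ := Finset.univ.biUnion F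
    let eF := F₀.equivFin
    obtain ⟨qK, K, hK0, hK⟩ := exists_matrix_kernel h𝔛 hWa
      (fun i j => cfAll hWU (rows i) (eF.symm j).1)
    let v : Fin (n + k) → Ring (𝔛.Osh h) V₂ := Fin.append (rv (𝔛.Osh h) (hV₂.trans hV₁) a) (-c)
    have hv : ∑ i, v i • rv (𝔛.Osh h) hV₂W (fun j => cfAll hWU (rows i) (eF.symm j).1) = 0 := by
      funext j
      have h2 : cfAll (hV₂W.trans hWU)
          (Site.mapS (freeU (𝔛.Osh h) U P.generators.I) (ovHom (hV₂.trans hV₁) (hV.trans hWU)) z)
          (eF.symm j).1 =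
          cfAll (hV₂W.trans hWU) (lcomb (fun l => ρ (G l)) hV₂W c) (eF.symm j).1 :=
        congrArg (fun q => cfAll (hV₂W.trans hWU) q (eF.symm j).1) hzc
      have h3 : cfAll (hV₂W.trans hWU)
          (Site.mapS (freeU (𝔛.Osh h) U P.generators.I) (ovHom (hV₂.trans hV₁) (hV.trans hWU)) z)
          (eF.symm j).1 =
          ∑ i, rres (𝔛.Osh h) (hV₂.trans hV₁) (a i) * rres (𝔛.Osh h) hV₂W (cfAll hWU (b i) (eF.symm j).1) := by
        refine (congrArg (fun q => cfAll (hV₂W.trans hWU) q (eF.symm j).1)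
          (mapS_lcomb b hV (hV₂.trans hV₁) a)).trans ?_
        exact cfAll_lcomb (hW := hWU) b hV₂W _ _
      rw [h3, cfAll_lcomb (hW := hWU) (fun l => ρ (G l)) hV₂W c] at h2
      rw [Finset.sum_apply, Pi.zero_apply, Fin.sum_univ_add]
      simp only [v, rows, Fin.append_left, Fin.append_right, Pi.smul_apply, smul_eq_mul, rv_apply,
        Pi.neg_apply, neg_mul, Finset.sum_neg_distrib]
      rw [← sub_eq_add_neg, sub_eq_zero]
      exact h2
    obtain ⟨V₃, hV₃, hyV₃, hmem⟩ := hK V₂ hV₂W v hv y hyV₂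
    obtain ⟨d, hd⟩ := (Submodule.mem_span_range_iff_exists_fun _).1 hmem
    refine ⟨V₃, hV₃.trans (hV₂.trans hV₁), hyV₃, ?_⟩
    have hKP : ∀ l, (fun i => K l (Fin.castAdd k i)) ∈ PP k₀ G₀ := fun l => hPP k G (by
      refine ⟨fun j => -K l (Fin.natAdd n j), funext fun j => ?_⟩
      simp only [LA, LC, Fintype.linearCombination_apply, Finset.sum_apply, Pi.smul_apply, smul_eq_mul,
        neg_mul, Finset.sum_neg_distrib]
      by_cases hj : j ∈ F₀
      · have h6 := congrFun (hK0 l) (eF ⟨j, hj⟩)
        simp only [Finset.sum_apply, Pi.smul_apply, smul_eq_mul, Equiv.symm_apply_apply, Pi.zero_apply,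
          Fin.sum_univ_add, rows, Fin.append_left, Fin.append_right] at h6
        exact (Finset.sum_congr rfl fun x _ => neg_mul _ _).trans
          ((Finset.sum_neg_distrib _).trans (eq_neg_of_add_eq_zero_left h6).symm)
      · have h7 : ∀ i, cfAll hWU (rows i) j = 0 := fun i => hF i j fun hji =>
          hj (Finset.mem_biUnion.2 ⟨i, Finset.mem_univ i, hji⟩)
        refine (Finset.sum_eq_zero fun i _ => ?_).trans (Finset.sum_eq_zero fun i _ => ?_).symm
        · have := h7 (Fin.natAdd n i)
          simp only [rows, Fin.append_right] at this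
          rw [this, mul_zero]
        · have := h7 (Fin.castAdd k i)
          simp only [rows, Fin.append_left] at this
          rw [this, mul_zero])
    have e : rv (𝔛.Osh h) (hV₃.trans (hV₂.trans hV₁)) a =
        ∑ l, d l • rv (𝔛.Osh h) (hV₃.trans hV₂W) fun i => K l (Fin.castAdd k i) := by
      funext i
      have h6 := congrFun hd (Fin.castAdd k i)
      simp only [Finset.sum_apply, Pi.smul_apply, rv_apply, v, Fin.append_left, rres_rres] at h6 ⊢
      exact h6.symm
    rw [e]
    refine Submodule.sum_mem _ fun l _ => Submodule.smul_mem _ _ (rv_mem_of_mem_span _ ?_)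
    rw [hr]
    exact hKP l

/-- Quasi-coherent modules are locally generated with finitely generated relations. -/
theorem pc_gen_of_isQuasicoherent (h𝔛 : 𝔛.IsLocNoethFormal) [SheafOfModules.IsQuasicoherent.{u} M] :
    PC M ∧ Gen M := by
  obtain ⟨σ⟩ := SheafOfModules.IsQuasicoherent.nonempty_quasicoherentData (M := M)
  have hcov : ∀ x : 𝔛.X 0, ∃ i, x ∈ σ.X i := fun x =>
    IsOpenCover.exists_mem ((Opens.coversTop_iff _ σ.X).1 σ.coversTop) x
  refine ⟨fun U n s x hx => ?_, fun x => ?_⟩
  · obtain ⟨i, hi⟩ := hcov x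
    exact exists_isRel_of_presentation h𝔛 (toPres (σ.presentation i)) s hi hx
  · obtain ⟨i, hi⟩ := hcov x
    exact ⟨σ.X i, hi, genBy_of_presentation (toPres (σ.presentation i))⟩

set_option maxHeartbeats 2000000 in
theorem exists_presentation_of_pc (h𝔛 : 𝔛.IsLocNoethFormal) (hM : PC M) (hU : IsAffineOpen U)
    (hgen : GenBy M U) : Nonempty (overM M U).Presentation := by
  let I := Sec M U
  let π : freeU (𝔛.Osh h) U I ⟶ overM M U := (overM M U).freeHomEquiv.symm fun s => overSection s
  have hπ : ∀ i, ((overM M U).freeHomEquiv π i).val (op (Over.mk (𝟙 U))) = i := fun i => by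
    simp only [π, Equiv.apply_symm_apply]
    exact res_refl _ i
  have hπc : ∀ {k : ℕ} (g : Fin k → I) {V : (𝔛.X 0).Opens} (hV : V ≤ U) (a : Fin k → Ring (𝔛.Osh h) V),
      (Site.app π (ov hV) (lcomb (bas g (le_refl U)) hV a) : Sec M V) = comb g hV a :=
    fun g V hV a => (app_lcomb_bas π g le_rfl hV a).trans
      (congrArg (fun v => comb v hV a) (funext fun i => hπ (g i)))
  haveI : Epi π := Site.epi_of_liftSieve _ fun Y y => cover_of_forall_mem fun x hx => by
    obtain ⟨W, hW, k, g, a, hxW, ha⟩ := hgen Y.left (leOfHom Y.hom) y x hx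
    exact ⟨W, hW, hxW, _, (hπc g (hW.trans (leOfHom Y.hom)) a).trans ha⟩
  let G : (overM M U).GeneratingSections := ⟨I, fun s => overSection s, inferInstanceAs (Epi π)⟩
  let K : ModSite.Mod ((𝔛.Osh h).over U) := kernel G.π
  let Y₀ : Over U := Over.mk (𝟙 U)
  let κ : ModSite.sect K Y₀ → K.sections := fun z => topSec K z
  let p : freeU (𝔛.Osh h) U (ModSite.sect K Y₀) ⟶ K := K.freeHomEquiv.symm κ
  haveI : Epi p := Site.epi_of_liftSieve _ fun Y w => cover_of_forall_mem fun x hx => by
    have hV : Y.left ≤ U := leOfHom Y.hom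
    let w' : ModSite.sect K (ov hV) := w
    let z : ModSite.sect (freeU (𝔛.Osh h) U I) (ov hV) := Site.app (kernel.ι G.π) (ov hV) w'
    obtain ⟨W, hW, k, g, a, hxW, ha⟩ := exists_lcomb_local hV z hx
    have ha' : lcomb (bas g (le_refl U)) (hW.trans hV) a =
        Site.mapS (freeU (𝔛.Osh h) U I) (ovHom hW hV) z := by
      refine Eq.trans ?_ ha
      refine Eq.trans (lcomb_res (bas g (le_refl U)) hV hW a).symm ?_
      exact congrArg (fun v => lcomb v hW a) (funext fun i => mapS_bas g le_rfl hV i)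
    have hcomb : comb g (hW.trans hV) a = 0 := by
      refine (hπc g (hW.trans hV) a).symm.trans ?_
      refine (congrArg (Site.app π (ov (hW.trans hV))) ha').trans ?_
      refine (Site.map_app π (ovHom hW hV) z).symm.trans (Eq.trans (congrArg _ ?_) (map_zero _))
      exact (Site.app_comp (kernel.ι G.π) G.π _ _).symm.trans
        ((congrArg (fun q => Site.app q (ov hV) w') (kernel.condition G.π)).trans (Site.app_zero _ _))
    obtain ⟨m, r, hr⟩ := hM.exists_isRel h𝔛 hU g
    obtain ⟨W', hW', hxW', hmem⟩ := hr.exact W _ a hcomb x hxW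
    obtain ⟨c, hc⟩ := (Submodule.mem_span_range_iff_exists_fun _).1 hmem
    have hl : ∀ l, ∃ t : ModSite.sect K Y₀, Site.app (kernel.ι G.π) Y₀ t =
        lcomb (bas g (le_refl U)) le_rfl (r l) :=
      fun l => Site.exists_kernel_lift G.π (Y := Y₀) _ ((hπc g le_rfl (r l)).trans (hr.rel l))
    choose t ht using hl
    let hW'U : W' ≤ U := (hW'.trans hW).trans hV
    refine ⟨W', hW'.trans hW, hxW', lcomb (bas t (le_refl U)) hW'U c,
      Site.app_injective_of_mono (kernel.ι G.π) _ ?_⟩
    refine Eq.trans ?_ (Site.map_app (kernel.ι G.π) (ovHom (hW'.trans hW) hV) w')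
    change _ = Site.mapS (freeU (𝔛.Osh h) U I) (ovHom (hW'.trans hW) hV) z
    have h1 : Site.mapS (freeU (𝔛.Osh h) U I) (ovHom (hW'.trans hW) hV) z =
        lcomb (fun l => lcomb (bas g (le_refl U)) le_rfl (r l)) hW'U c := by
      refine Eq.trans ?_ (lcomb_trans (bas g (le_refl U)) hW'U r c)
      rw [hc]
      refine Eq.trans ?_ (mapS_lcomb (bas g (le_refl U)) (hW.trans hV) hW' a)
      rw [ha', Site.mapS_comp]
      rfl
    rw [h1]
    refine Eq.trans (congrArg (Site.app (kernel.ι G.π) (ov hW'U)) (app_lcomb p (bas t (le_refl U)) hW'U c)) ?_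
    refine (app_lcomb (kernel.ι G.π) _ hW'U c).trans
      (congrArg (fun v => lcomb v hW'U c) (funext fun l => ?_))
    refine Eq.trans ?_ (ht l)
    refine congrArg (Site.app (kernel.ι G.π) Y₀) ?_
    refine (Site.app_basisSec p (t l) Y₀).trans ?_
    simp only [p, Equiv.apply_symm_apply, κ, topSec]
    exact res_refl_site (G := K) (t l)
  exact ⟨⟨G, ⟨ModSite.sect K Y₀, κ, inferInstanceAs (Epi p)⟩⟩⟩
where
  res_refl_site {G : ModSite.Mod ((𝔛.Osh h).over U)} (z : ModSite.sect G (Over.mk (𝟙 U))) :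
      Site.mapS G (Over.homMk (𝟙 U) : Over.mk (𝟙 U) ⟶ Over.mk (𝟙 U)) z = z := by
    rw [show (Over.homMk (𝟙 U) : Over.mk (𝟙 U) ⟶ Over.mk (𝟙 U)) = 𝟙 _ from rfl, Site.mapS, op_id,
      CategoryTheory.Functor.map_id]
    rfl

/-- Locally generated modules with finitely generated relations are quasi-coherent. -/
theorem isQuasicoherent_of_pc (h𝔛 : 𝔛.IsLocNoethFormal) (hM : PC M) (hgen : Gen M) :
    SheafOfModules.IsQuasicoherent.{u} M := by
  have key : ∀ x : 𝔛.X 0, ∃ W : (𝔛.X 0).Opens, x ∈ W ∧ Nonempty (overM M W).Presentation := fun x => by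
    obtain ⟨U, hxU, hU⟩ := hgen x
    obtain ⟨W, hW, hWU, hxW⟩ := exists_affine_le hxU
    exact ⟨W, hxW, exists_presentation_of_pc h𝔛 hM hW (hU.restrict hWU)⟩
  choose W hxW P using key
  exact (SheafOfModules.QuasicoherentData.mk.{u, u, u, u} (M := M) (𝔛.X 0) W
    ((Opens.coversTop_iff _ W).2 (IsOpenCover.mk (by
      ext x
      simpa using ⟨x, hxW x⟩))) fun x => ofPres (P x).some).isQuasicoherent

end Groth.Agent.FTors52
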