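import Groth.Agent.FTors52.SubMod
import Groth.Agent.FTors52.AffGlue
import Groth.Agent.FMod90.Pres

/-!
# Relations between sections, and modules whose finite families have finitely generated relations

`PC M` says that locally the relations between finitely many sections of `M` are finitely
generated, `GenBy M U` that `M` is generated over `U` by its sections over `U`. Both are stable
under the usual operations.
-/

set_option autoImplicit false

universe u

open CategoryTheory CategoryTheory.Limits Opposite TopologicalSpace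

namespace Groth.Agent.FTors52

open FMod90

variable {T : TopCat.{u}} {O : Sheaf (Opens.grothendieckTopology T) CommRingCat.{u}}
  {M N A B : ModSite.Mod O} {U V W : Opens T} {n m k : ℕ}

/-- Linear combinations as a linear map. -/
noncomputable def combL (s : Fin n → Sec M U) (h : V ≤ U) :
    (Fin n → Ring O V) →ₗ[Ring O V] Sec M V where
  toFun := comb s h
  map_add' := comb_add s h
  map_smul' := comb_mul s h

@[simp]
theorem combL_apply (s : Fin n → Sec M U) (h : V ≤ U) (a : Fin n → Ring O V) :
    combL s h a = comb s h a := rfl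

theorem comb_zero (s : Fin n → Sec M U) (h : V ≤ U) : comb s h (0 : Fin n → Ring O V) = 0 :=
  map_zero (combL s h)

theorem comb_res (s : Fin n → Sec M U) (h : V ≤ U) (h' : W ≤ V) (a : Fin n → Ring O W) :
    comb (fun i => res M h (s i)) h' a = comb s (h'.trans h) a := by
  simp only [comb, res_res]

theorem comb_rv (s : Fin n → Sec M U) (h : V ≤ U) (h' : W ≤ V) (a : Fin n → Ring O V) :
    comb s (h'.trans h) (rv O h' a) = res M h' (comb s h a) :=
  (res_comb s h h' a).symm

theorem rv_mem_spanV_iff (h : V ≤ U) (r : Fin m → Fin n → Ring O U) (a : Fin n → Ring O V) :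
    a ∈ spanV h r ↔ ∃ c : Fin m → Ring O V, ∀ i, a i = ∑ l, c l * rres O h (r l i) := by
  rw [Submodule.mem_span_range_iff_exists_fun]
  refine exists_congr fun c => ⟨fun hc i => ?_, fun hc => funext fun i => ?_⟩
  · rw [← hc, Finset.sum_apply]
    rfl
  · rw [hc i, Finset.sum_apply]
    rfl

theorem comb_eq_zero_of_mem_spanV (s : Fin n → Sec M U) {r : Fin m → Fin n → Ring O U}
    (hr : ∀ l, comb s le_rfl (r l) = 0) (h : V ≤ U) {a : Fin n → Ring O V} (ha : a ∈ spanV h r) :
    comb s h a = 0 := by
  induction ha using Submodule.span_induction with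
  | mem y hy =>
    obtain ⟨l, rfl⟩ := hy
    exact (comb_rv s le_rfl h (r l)).trans (by rw [hr l, map_zero])
  | zero => exact comb_zero s h
  | add y z _ _ hy hz => rw [show y + z = fun i => y i + z i from rfl, comb_add, hy, hz, add_zero]
  | smul c y _ hy =>
    rw [show c • y = fun i => c * y i from rfl, comb_mul, hy, smul_zero]

/-- A generating family of the relations between finitely many sections. -/
structure IsRel (s : Fin n → Sec M U) (r : Fin m → Fin n → Ring O U) : Prop where
  rel : ∀ l, comb s le_rfl (r l) = 0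
  exact : ∀ (V : Opens T) (h : V ≤ U) (a : Fin n → Ring O V), comb s h a = 0 → ∀ x ∈ V,
    ∃ (W : Opens T) (hW : W ≤ V), x ∈ W ∧ rv O hW a ∈ spanV (hW.trans h) r

theorem IsPres.isRel {s : Fin n → Sec M U} {r : Fin m → Fin n → Ring O U} (hp : IsPres M s r) :
    IsRel s r :=
  ⟨hp.rel, fun V h a ha x hx => by
    obtain ⟨W, hW, c, hxW, hc⟩ := hp.exact V h a ha x hx
    exact ⟨W, hW, hxW, (rv_mem_spanV_iff _ _ _).2 ⟨c, hc⟩⟩⟩

theorem IsRel.isPres {s : Fin n → Sec M U} {r : Fin m → Fin n → Ring O U} (hr : IsRel s r)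
    (hs : IsGen M s) : IsPres M s r :=
  ⟨hs, hr.rel, fun V h a ha x hx => by
    obtain ⟨W, hW, hxW, hc⟩ := hr.exact V h a ha x hx
    obtain ⟨c, hc⟩ := (rv_mem_spanV_iff _ _ _).1 hc
    exact ⟨W, hW, c, hxW, hc⟩⟩

theorem IsRel.restrict {s : Fin n → Sec M U} {r : Fin m → Fin n → Ring O U} (hr : IsRel s r)
    (h : V ≤ U) : IsRel (fun i => res M h (s i)) (fun l => rv O h (r l)) := by
  refine ⟨fun l => ?_, fun W hW a ha x hx => ?_⟩
  · rw [comb_res, comb_rv s le_rfl h, hr.rel, map_zero]
  · rw [comb_res] at ha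
    obtain ⟨W', hW', hxW, hc⟩ := hr.exact W (hW.trans h) a ha x hx
    exact ⟨W', hW', hxW, by rw [spanV_rv']; exact hc⟩
where
  spanV_rv' {W' : Opens T} {hW' : W' ≤ V} :
      spanV hW' (fun l => rv O h (r l)) = spanV (hW'.trans h) r := by
    simp only [spanV, rv_rv]

/-- Composition of relations: relations of `s` among the relations `r` of coarser sections. -/
theorem IsRel.trans {s : Fin n → Sec M U} {σ : Fin n → Sec N U} {r : Fin m → Fin n → Ring O U}
    (hr : IsRel σ r) {b : Fin m → Sec A U} {q : Fin k → Fin m → Ring O U} (hq : IsRel b q)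
    (hσ : ∀ (V : Opens T) (h : V ≤ U) (a : Fin n → Ring O V), comb s h a = 0 → comb σ h a = 0)
    (hlink : ∀ (V : Opens T) (h : V ≤ U) (c : Fin m → Ring O V),
      comb s h (∑ l, c l • rv O h (r l)) = 0 ↔ comb b h c = 0) :
    IsRel s fun t => ∑ l, q t l • r l := by
  refine ⟨fun t => ?_, fun V h a ha x hx => ?_⟩
  · have h1 := (hlink U le_rfl (q t)).2 (hq.rel t)
    simpa only [rv_refl] using h1
  · obtain ⟨W, hW, hxW, hc⟩ := hr.exact V h a (hσ V h a ha) x hx
    obtain ⟨c, hc⟩ := (Submodule.mem_span_range_iff_exists_fun _).1 hc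
    have hb : comb b (hW.trans h) c = 0 := by
      rw [← hlink W (hW.trans h) c, hc, comb_rv s h hW, ha, map_zero]
    obtain ⟨W', hW', hxW', hd⟩ := hq.exact W _ c hb x hxW
    obtain ⟨d, hd⟩ := (Submodule.mem_span_range_iff_exists_fun _).1 hd
    refine ⟨W', hW'.trans hW, hxW', (Submodule.mem_span_range_iff_exists_fun _).2 ⟨d, ?_⟩⟩
    rw [← rv_rv hW hW', ← hc, map_sum]
    simp only [map_sum, rv_smul, rv_rv, Finset.smul_sum, smul_smul]
    rw [Finset.sum_comm]
    refine Finset.sum_congr rfl fun l _ => ?_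
    rw [← Finset.sum_smul]
    congr 1
    rw [show rres O hW' (c l) = rv O hW' c l from rfl, ← hd, Finset.sum_apply]
    rfl

/-- Locally, finitely many sections have finitely generated relations. -/
def PC (M : ModSite.Mod O) : Prop :=
  ∀ (U : Opens T) (n : ℕ) (s : Fin n → Sec M U) (x : T), x ∈ U →
    ∃ (W : Opens T) (hW : W ≤ U), x ∈ W ∧
      ∃ (m : ℕ) (r : Fin m → Fin n → Ring O W), IsRel (fun i => res M hW (s i)) r

theorem PC.exists_isRel_nhd (hM : PC M) {n : ℕ} (s : Fin n → Sec M U) {x : T} (hx : x ∈ U) :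
    ∃ (W : Opens T) (hW : W ≤ U), x ∈ W ∧
      ∃ (m : ℕ) (r : Fin m → Fin n → Ring O W), IsRel (fun i => res M hW (s i)) r :=
  hM U n s x hx

theorem appL_comb_eq_zero_iff (φ : M ⟶ N) [Mono φ] (s : Fin n → Sec M U) (h : V ≤ U)
    (a : Fin n → Ring O V) : comb (fun i => appL φ U (s i)) h a = 0 ↔ comb s h a = 0 := by
  rw [← appL_comb, map_eq_zero_iff _ (injective_of_mono φ V)]

theorem PC.of_mono (hN : PC N) (φ : M ⟶ N) [Mono φ] : PC M := fun U n s x hx => by
  obtain ⟨W, hW, hxW, m, r, hr⟩ := hN U n (fun i => appL φ U (s i)) x hx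
  simp only [res_appL] at hr
  exact ⟨W, hW, hxW, m, r, fun l => (appL_comb_eq_zero_iff φ _ _ _).1 (hr.rel l),
    fun V h a ha => hr.exact V h a ((appL_comb_eq_zero_iff φ _ _ _).2 ha)⟩

/-- The middle term of a short exact sequence of such modules is one. -/
theorem PC.of_exact {S : ShortComplex (ModSite.Mod O)} (hS : S.Exact) [Mono S.f] (h₁ : PC S.X₁)
    (h₃ : PC S.X₃) : PC S.X₂ := fun U n s x hx => by
  obtain ⟨W, hW, hxW, m, r, hr⟩ := h₃ U n (fun i => appL S.g U (s i)) x hx
  simp only [res_appL] at hr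
  let s' : Fin n → Sec S.X₂ W := fun i => res S.X₂ hW (s i)
  have hker : ∀ l, appL S.g W (comb s' le_rfl (r l)) = 0 := fun l => by
    rw [appL_comb]
    exact hr.rel l
  choose b hb using fun l => exists_lift_of_mono S.f (locLift_of_exact hS (hker l))
  obtain ⟨W', hW', hxW', p, q, hq⟩ := h₁ W m b x hxW
  refine ⟨W', hW'.trans hW, hxW', p, _,
    IsRel.trans (s := fun i => res S.X₂ (hW'.trans hW) (s i)) (hr.restrict hW') hq
      (fun V h a ha => ?_) fun V h c => ?_⟩
  · have h1 := congrArg (appL S.g V) ha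
    simp only [comb, map_sum, map_smul, map_zero, res_res, ← res_appL] at h1 ⊢
    exact h1
  · rw [comb_res, ← appL_comb_eq_zero_iff S.f]
    simp only [← res_appL, hb]
    refine Iff.of_eq (congrArg (· = 0) ?_)
    rw [← combL_apply, map_sum]
    refine Finset.sum_congr rfl fun l _ => ?_
    rw [map_smul, combL_apply, rv_rv]
    congr 1
    simp only [← comb_rv, s', comb_res, rv_rv]

/-! ### Generation -/

/-- Generation over `U` by sections over `U`. -/
def GenBy (M : ModSite.Mod O) (U : Opens T) : Prop :=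
  ∀ (V : Opens T) (h : V ≤ U) (y : Sec M V), ∀ x ∈ V,
    ∃ (W : Opens T) (hW : W ≤ V) (k : ℕ) (g : Fin k → Sec M U) (a : Fin k → Ring O W),
      x ∈ W ∧ comb g (hW.trans h) a = res M hW y

theorem GenBy.restrict (hM : GenBy M U) (h : V ≤ U) : GenBy M V := fun W hWV y x hx => by
  obtain ⟨W', hW', k, g, a, hxW, ha⟩ := hM W (hWV.trans h) y x hx
  exact ⟨W', hW', k, fun i => res M h (g i), a, hxW, (comb_res g h _ a).trans ha⟩

theorem GenBy.of_isGen {n : ℕ} {s : Fin n → Sec M U} (hs : IsGen M s) : GenBy M U :=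
  fun V h y x hx => by
    obtain ⟨W, hW, a, hxW, ha⟩ := hs V h y x hx
    exact ⟨W, hW, n, s, a, hxW, ha⟩

theorem GenBy.of_epi (hM : GenBy M U) (φ : M ⟶ N) [Epi φ] : GenBy N U := fun V h y x hx => by
  obtain ⟨W, hW, t, hxW, ht⟩ := locLift_of_epi φ y x hx
  obtain ⟨W', hW', k, g, a, hxW', ha⟩ := hM W (hW.trans h) t x hxW
  refine ⟨W', hW'.trans hW, k, fun i => appL φ U (g i), a, hxW', ?_⟩
  rw [← appL_comb, ha, ← res_appL, ht, res_res]

/-- Every point has a neighbourhood over which `M` is generated by sections. -/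
def Gen (M : ModSite.Mod O) : Prop := ∀ x : T, ∃ U : Opens T, x ∈ U ∧ GenBy M U

theorem Gen.of_epi (hM : Gen M) (φ : M ⟶ N) [Epi φ] : Gen N := fun x => by
  obtain ⟨U, hxU, hU⟩ := hM x
  exact ⟨U, hxU, hU.of_epi φ⟩

/-! ### Locally finite sums -/

section sums

variable {ι : Type*} {F : ι → ModSite.Mod O} (φ : ∀ j, F j ⟶ M)

/-- The sections which locally are finite sums of images. -/
noncomputable def sumSub : SubMod M where
  mem U :=
    { carrier := {y | ∀ x ∈ U, ∃ (W : Opens T) (hW : W ≤ U) (k : ℕ) (σ : Fin k → ι)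
        (z : ∀ t, Sec (F (σ t)) W), x ∈ W ∧ res M hW y = ∑ t, appL (φ (σ t)) W (z t)}
      zero_mem' := fun x hx => ⟨U, le_rfl, 0, Fin.elim0, fun t => t.elim0, hx, by simp⟩
      add_mem' := fun {a b} ha hb x hx => by
        obtain ⟨W₁, hW₁, k₁, σ₁, z₁, hx₁, h₁⟩ := ha x hx
        obtain ⟨W₂, hW₂, k₂, σ₂, z₂, hx₂, h₂⟩ := hb x hx
        refine ⟨W₁ ⊓ W₂, inf_le_left.trans hW₁, k₁ + k₂, Fin.append σ₁ σ₂,
          Fin.addCases (fun t => (Fin.append_left σ₁ σ₂ t).symm ▸ res (F (σ₁ t)) inf_le_left (z₁ t))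
            (fun t => (Fin.append_right σ₁ σ₂ t).symm ▸ res (F (σ₂ t)) inf_le_right (z₂ t)),
          ⟨hx₁, hx₂⟩, ?_⟩
        rw [map_add, Fin.sum_univ_add]
        congr 1
        · rw [← res_res hW₁ inf_le_left, h₁, map_sum]
          refine Finset.sum_congr rfl fun t _ => ?_
          simp only [Fin.addCases_left, res_appL]
          exact (appL_cast φ (Fin.append_left σ₁ σ₂ t).symm _).symm
        · rw [← res_res hW₂ inf_le_right, h₂, map_sum]
          refine Finset.sum_congr rfl fun t _ => ?_
          simp only [Fin.addCases_right, res_appL]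
          exact (appL_cast φ (Fin.append_right σ₁ σ₂ t).symm _).symm
      smul_mem' := fun c a ha x hx => by
        obtain ⟨W, hW, k, σ, z, hxW, h⟩ := ha x hx
        refine ⟨W, hW, k, σ, fun t => rres O hW c • z t, hxW, ?_⟩
        rw [res_smul, h, Finset.smul_sum]
        simp only [map_smul] }
  map_mem {U V} hVU s hs x hx := by
    obtain ⟨W, hW, k, σ, z, hxW, h⟩ := hs x (hVU hx)
    refine ⟨W ⊓ V, inf_le_right, k, σ, fun t => res _ inf_le_left (z t), ⟨hxW, hx⟩, ?_⟩
    rw [res_res, ← res_res hW inf_le_left, h, map_sum]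
    simp only [res_appL]
  of_locally U s hs x hx := by
    obtain ⟨V, hV, hxV, hmem⟩ := hs x hx
    obtain ⟨W, hW, k, σ, z, hxW, h⟩ := hmem x hxV
    exact ⟨W, hW.trans hV, k, σ, z, hxW, (res_res hV hW s).symm.trans h⟩
where
  appL_cast {i j : ι} (φ : ∀ j, F j ⟶ M) (e : i = j) {W : Opens T} (z : Sec (F i) W) :
      appL (φ j) W (e ▸ z) = appL (φ i) W z := by
    subst e
    rfl

end sums

/-- Sections of a colimit are locally finite sums of images. -/
theorem exists_sum_of_isColimit {J : Type*} [Category J] {K : J ⥤ ModSite.Mod O} {c : Cocone K}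
    (hc : IsColimit c) (y : Sec c.pt U) {x : T} (hx : x ∈ U) :
    ∃ (W : Opens T) (hW : W ≤ U) (k : ℕ) (σ : Fin k → J) (z : ∀ t, Sec (K.obj (σ t)) W),
      x ∈ W ∧ res c.pt hW y = ∑ t, appL (c.ι.app (σ t)) W (z t) := by
  let S := sumSub (fun j => c.ι.app j)
  let l : ∀ j, K.obj j ⟶ S.toMod := fun j => mkHom
    (fun V =>
      { toFun := fun z => (⟨appL (c.ι.app j) V z, fun x hx => ⟨V, le_rfl, 1, fun _ => j, fun _ => z, hx,
          by simp [Fin.sum_univ_one]⟩⟩ : Sec S.toMod V)
        map_add' := fun a b => Subtype.ext (map_add (appL (c.ι.app j) V) a b)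
        map_smul' := fun a b => Subtype.ext (map_smul (appL (c.ι.app j) V) a b) })
    fun V V' hV z => Subtype.ext (res_appL (c.ι.app j) hV z)
  let c' : Cocone K :=
    { pt := S.toMod
      ι :=
        { app := l
          naturality := fun i j f => hom_ext fun V z => Subtype.ext (by
            change appL (c.ι.app j) V (appL (K.map f) V z) = appL (c.ι.app i) V z
            rw [← appL_comp, c.w f]) } }
  have e : hc.desc c' ≫ S.ι = 𝟙 c.pt := hc.hom_ext fun j => by
    rw [hc.fac_assoc, Category.comp_id]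
    exact hom_ext fun V z => rfl
  have hy : y ∈ S.mem U := by
    have h1 := congrArg (fun f => appL f U y) e
    simp only [appL_id, appL_comp] at h1
    rw [← h1]
    exact (appL (hc.desc c') U y).2
  exact hy x hx

/-- A coproduct of such modules is one. -/
theorem PC.of_cofan {ι : Type u} {F : ι → ModSite.Mod O} {c : Cofan F} (hc : IsColimit c)
    (hF : ∀ j, PC (F j)) : PC c.pt := by
  classical
  let π : ∀ j, c.pt ⟶ F j := fun j =>
    Cofan.IsColimit.desc hc fun i => if e : i = j then eqToHom (congrArg F e) else 0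
  have hπ : ∀ i j, c.inj i ≫ π j = if e : i = j then eqToHom (congrArg F e) else 0 := fun i j =>
    Cofan.IsColimit.fac hc _ i
  have key : ∀ (k : ℕ) (V : Opens T) (n : ℕ) (s : Fin n → Sec c.pt V) (σ : Fin k → ι)
      (z : Fin n → ∀ t, Sec (F (σ t)) V), (∀ i, s i = ∑ t, appL (c.inj (σ t)) V (z i t)) →
      ∀ x ∈ V, ∃ (W : Opens T) (hW : W ≤ V), x ∈ W ∧
        ∃ (m : ℕ) (r : Fin m → Fin n → Ring O W), IsRel (fun i => res c.pt hW (s i)) r := by
    intro k
    induction k with
    | zero =>
      intro V n s σ z hs x hx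
      refine ⟨V, le_rfl, hx, n, fun l => delta l, fun l => ?_, fun W hW a _ y hy =>
        ⟨W, le_rfl, hy, (rv_mem_spanV_iff _ _ _).2 ⟨a, fun i => ?_⟩⟩⟩
      · simp [comb, hs]
      · rw [rv_apply, rres_refl, Finset.sum_eq_single i]
        · simp [delta]
        · intro b _ hb
          simp [delta, hb.symm]
        · simp
    | succ k ih =>
      intro V n s σ z hs x hx
      let j := σ 0
      let t : Fin n → Sec (F j) V := fun i => appL (π j) V (s i)
      let s' : Fin n → Sec c.pt V := fun i => s i - appL (c.inj j) V (t i)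
      let z' : Fin n → ∀ q : Fin k, Sec (F (σ q.succ)) V := fun i q =>
        if σ q.succ = j then 0 else z i q.succ
      have hs' : ∀ i, s' i = ∑ q, appL (c.inj (σ q.succ)) V (z' i q) := fun i => by
        have h1 : ∀ q, appL (c.inj j) V (appL (π j) V (appL (c.inj (σ q)) V (z i q))) =
            if σ q = j then appL (c.inj (σ q)) V (z i q) else 0 := fun q => by
          rw [← appL_comp, ← appL_comp, ← Category.assoc, hπ]
          split_ifs with e
          · have h2 : eqToHom (congrArg F e) ≫ c.inj j = c.inj (σ q) := by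
              clear_value j
              subst e
              simp
            rw [h2]
          · rw [zero_comp, appL_zero]
        simp only [s', t, hs, map_sum, h1, ← Finset.sum_sub_distrib]
        rw [Fin.sum_univ_succ, if_pos rfl, sub_self, zero_add]
        refine Finset.sum_congr rfl fun q _ => ?_
        simp only [z']
        split_ifs with e
        · rw [sub_self, map_zero]
        · rw [sub_zero]
      obtain ⟨W, hW, hxW, m, r, hr⟩ := ih V n s' _ z' hs' x hx
      obtain ⟨W', hW', hxW', p, q, hq⟩ :=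
        hF j W m (fun l => comb t hW (r l)) x hxW
      refine ⟨W', hW'.trans hW, hxW', p, _,
        IsRel.trans (s := fun i => res c.pt (hW'.trans hW) (s i)) (hr.restrict hW') hq
          (fun X h a ha => ?_) fun X h cf => ?_⟩
      · rw [comb_res] at ha ⊢
        rw [comb_res]
        have ht : comb t (h.trans (hW'.trans hW)) a = 0 := by
          rw [← map_zero (appL (π j) X), ← ha, appL_comb]
        simp only [comb, s', map_sub, smul_sub, Finset.sum_sub_distrib] at ha ⊢
        rw [ha, zero_sub, neg_eq_zero, show (∑ i, a i • res c.pt (h.trans (hW'.trans hW))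
          (appL (c.inj j) V (t i))) = appL (c.inj j) X (comb t (h.trans (hW'.trans hW)) a) by
            simp only [comb, map_sum, map_smul, res_appL], ht, map_zero]
      · rw [comb_res]
        have hb : comb (fun l => res _ hW' (comb t hW (r l))) h cf =
            comb t (h.trans (hW'.trans hW)) (∑ l, cf l • rv O h (rv O hW' (r l))) := by
          rw [← combL_apply t, map_sum]
          refine Finset.sum_congr rfl fun l _ => ?_
          rw [map_smul, combL_apply, rv_rv, comb_rv t hW, res_res]
        rw [hb]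
        constructor
        · intro h0
          rw [← map_zero (appL (π j) X), ← h0, appL_comb]
        · intro h0
          have h1 : comb (fun i => res c.pt hW (s' i)) (h.trans hW')
              (∑ l, cf l • rv O h (rv O hW' (r l))) = 0 :=
            comb_eq_zero_of_mem_spanV (r := r) _ hr.rel _ (Submodule.sum_mem _ fun l _ =>
              Submodule.smul_mem _ _ (Submodule.subset_span ⟨l, (rv_rv _ _ _).symm⟩))
          rw [comb_res] at h1
          simp only [comb, s', map_sub, smul_sub, Finset.sum_sub_distrib] at h1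
          refine (sub_eq_zero.1 h1).trans ?_
          rw [← map_zero (appL (c.inj j) X), ← h0, appL_comb]
          rfl
  intro U n s x hx
  choose W hW k σ z hxW hz using fun i => exists_sum_of_isColimit hc (s i) hx
  let W₀ : Opens T := ⟨⋂ i, (W i : Set T), isOpen_iInter_of_finite fun i => (W i).2⟩ ⊓ U
  have hW₀ : ∀ i, W₀ ≤ W i := fun i w hw => Set.mem_iInter.1 hw.1 i
  let K := Σ i : Fin n, Fin (k i)
  let e : K ≃ Fin (Fintype.card K) := Fintype.equivFin K
  let σ' : Fin (Fintype.card K) → ι := fun q => (σ (e.symm q).1 (e.symm q).2).as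
  let z' : Fin n → ∀ q, Sec (F (σ' q)) W₀ := fun i q =>
    if (e.symm q).1 = i then res _ (hW₀ (e.symm q).1) (z (e.symm q).1 (e.symm q).2) else 0
  have hs : ∀ i, res c.pt (inf_le_right : W₀ ≤ U) (s i) = ∑ q, appL (c.inj (σ' q)) W₀ (z' i q) := by
    intro i
    rw [← res_res (hW i) (hW₀ i), hz, map_sum]
    refine Eq.trans ?_ (e.symm.sum_comp (fun p : K => appL (c.inj (σ p.1 p.2).as) W₀
      (if p.1 = i then res _ (hW₀ p.1) (z p.1 p.2) else 0))).symm
    rw [Fintype.sum_sigma, Finset.sum_eq_single i]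
    · refine Finset.sum_congr rfl fun t _ => ?_
      rw [res_appL]
      simp only [if_true]
      rfl
    · intro b _ hb
      refine Finset.sum_eq_zero fun t _ => ?_
      simp only [if_neg hb]
      exact map_zero _
    · simp
  obtain ⟨W', hW', hxW', m, r, hr⟩ := key _ W₀ n _ σ' z' hs x ⟨Set.mem_iInter.2 hxW, hx⟩
  exact ⟨W', hW'.trans inf_le_right, hxW', m, r, by simpa only [res_res] using hr⟩

end Groth.Agent.FTors52
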