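import Groth.Agent.FTors52.RestrictMod
import Groth.Agent.FTors52.LvlMul
import Groth.Agent.FTors52.Coherent

/-!
# Coherence and truncations under restriction to an open
-/

set_option autoImplicit false

universe u

open CategoryTheory CategoryTheory.Limits AlgebraicGeometry Opposite TopologicalSpace

namespace Groth.Agent.FTors52

open FMod90

variable {𝔛 : FSch.Sys.{u}} {h : 𝔛.IsFormal} {U : (𝔛.X 0).Opens}
  {h' : (𝔛.restrictOpen h U).IsFormal} {M : FSch.ModF 𝔛 h} {V : ((rO h U).X 0).Opens} {n m : ℕ}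

theorem up_mono {V₁ V₂ : ((rO h U).X 0).Opens} (hle : V₂ ≤ V₁) : up h U V₂ ≤ up h U V₁ :=
  leOfHom ((𝔛.lvU h 0 U).ι.opensFunctor.map (homOfLE hle))

variable (h U) in
/-- The open of the induced system over an open of the common space. -/
noncomputable abbrev dn (W : (𝔛.X 0).Opens) : ((rO h U).X 0).Opens :=
  (𝔛.lvU h 0 U).ι ⁻¹ᵁ W

theorem le_of_up {V₁ : ((rO h U).X 0).Opens} {W : (𝔛.X 0).Opens} (hW : W ≤ up h U V₁) :
    dn h U W ≤ V₁ := fun z hz => by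
  rw [← preimage_up h U V₁]
  exact hW hz

variable (h') in
/-- Sections of a module as sections of its restriction. -/
noncomputable abbrev rs (s : Sec M (up h U V)) : Sec ((Rs h U h').obj M) V := rsec h U h' M V s

theorem isAffineOpen_up (hV : IsAffineOpen V) : IsAffineOpen (up h U V) :=
  IsAffineOpen.image_of_isOpenImmersion (X := Scheme.Opens.toScheme (𝔛.lvU h 0 U)) hV
    (Scheme.Opens.ι (𝔛.lvU h 0 U))

theorem up_preimage_le (W : (𝔛.X 0).Opens) :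
    up h U (dn h U W) ≤ W := by
  rintro _ ⟨x, hx, rfl⟩
  exact hx

theorem mem_up {x : (rO h U).X 0} (hx : x ∈ V) : (𝔛.lvU h 0 U).ι.base x ∈ up h U V :=
  ⟨x, hx, rfl⟩

theorem comb_Rs {W : ((rO h U).X 0).Opens} (hW : W ≤ V) (s : Fin n → Sec M (up h U V))
    (a : Fin n → Ring (𝔛.Osh h) (up h U W)) :
    comb (fun i => rs h' (s i)) hW (fun i => toRes h U h' W (a i)) =
      rs h' (comb s (up_mono hW) a) := by
  rw [comb, comb, rs, map_sum]
  exact Finset.sum_congr rfl fun i _ => smul_Rs h U h' W (a i) (res M (up_mono hW) (s i))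

theorem exists_toRes {W : ((rO h U).X 0).Opens} (a : Fin n → Ring ((rO h U).Osh h') W) :
    ∃ b : Fin n → Ring (𝔛.Osh h) (up h U W), (fun i => toRes h U h' W (b i)) = a := by
  choose b hb using fun i => (bijective_toRes h U h' W).2 (a i)
  exact ⟨b, funext hb⟩

theorem isGen_Rs {s : Fin n → Sec M (up h U V)} (hs : IsGen M s) :
    IsGen ((Rs h U h').obj M) fun i => rs h' (s i) := fun W hW y x hx => by
  obtain ⟨y, rfl⟩ := (rsec h U h' M W).surjective y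
  obtain ⟨W₁, hW₁, a, hxW, ha⟩ := hs (up h U W) (up_mono hW) y _ (mem_up hx)
  refine ⟨dn h U W₁, le_of_up hW₁,
    fun i => toRes h U h' (dn h U W₁) (rres (𝔛.Osh h) (up_preimage_le W₁) (a i)), hxW, ?_⟩
  rw [comb_Rs, res_Rs]
  refine congrArg (rsec h U h' M (dn h U W₁)) ?_
  refine (res_comb s (hW₁.trans (up_mono hW)) (up_preimage_le (h := h) (U := U) W₁) a).symm.trans ?_
  rw [ha, res_res]

theorem exact_Rs {s : Fin n → Sec M (up h U V)}
    {r : Fin m → Fin n → Ring (𝔛.Osh h) (up h U V)} (hp : IsPres M s r)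
    {W : ((rO h U).X 0).Opens} (hW : W ≤ V) (b : Fin n → Ring (𝔛.Osh h) (up h U W))
    (hb : comb s (up_mono hW) b = 0) {x : (rO h U).X 0} (hx : x ∈ W) :
    ∃ (W' : ((rO h U).X 0).Opens) (hW' : W' ≤ W) (c : Fin m → Ring ((rO h U).Osh h') W'), x ∈ W' ∧
      ∀ i, rres ((rO h U).Osh h') hW' (toRes h U h' W (b i)) =
        ∑ l, c l * rres ((rO h U).Osh h') (hW'.trans hW) (toRes h U h' V (r l i)) := by
  obtain ⟨W₁, hW₁, c, hxW, hc⟩ := hp.exact (up h U W) (up_mono hW) b hb _ (mem_up hx)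
  refine ⟨dn h U W₁, le_of_up hW₁,
    fun l => toRes h U h' (dn h U W₁) (rres (𝔛.Osh h) (up_preimage_le W₁) (c l)), hxW, fun i => ?_⟩
  simp only [toRes_rres, ← map_mul, ← map_sum]
  refine congrArg (toRes h U h' _) ?_
  have e := congrArg (rres (𝔛.Osh h) (up_preimage_le (h := h) (U := U) W₁)) (hc i)
  simp only [map_sum, map_mul, rres_rres] at e
  exact e

variable (h') in
theorem isPres_Rs {s : Fin n → Sec M (up h U V)} {r : Fin m → Fin n → Ring (𝔛.Osh h) (up h U V)}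
    (hp : IsPres M s r) :
    IsPres ((Rs h U h').obj M) (fun i => rs h' (s i)) (fun l i => toRes h U h' V (r l i)) where
  gen := isGen_Rs hp.gen
  rel l := by rw [comb_Rs, hp.rel, rs, map_zero]
  exact W hW a ha x hx := by
    obtain ⟨b, rfl⟩ := exists_toRes a
    rw [comb_Rs, rs, AddEquiv.map_eq_zero_iff] at ha
    exact exact_Rs hp hW b ha hx

/-- The restriction of a coherent module is coherent. -/
theorem isCohF_Rs (h𝔛 : 𝔛.IsLocNoethFormal) (hM : FSch.IsCohF 𝔛 h M) :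
    FSch.IsCohF (rO h U) h' ((Rs h U h').obj M) := by
  refine isFinitePresentation_of_isPres (fun V : ((rO h U).X 0).affineOpens => V.1)
    exists_affine_nhd fun V => ?_
  obtain ⟨n, m, s, r, hp⟩ := exists_isPres_affine h𝔛 hM (isAffineOpen_up V.2)
  exact ⟨n, m, _, _, isPres_Rs h' hp⟩

section levels

variable (h𝔛 : 𝔛.IsLocNoethFormal) {𝔉 : FSch.ModF 𝔛 h} (h𝔉 : FSch.IsCohF 𝔛 h 𝔉)

include h𝔛 h𝔉

/-- The kernel of the map to a truncation on an affine open. -/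
theorem lvl_ker {W : (𝔛.X 0).Opens} (hW : IsAffineOpen W) (k : ℕ) (s : Sec 𝔉 W) :
    appL (lvlπ h 𝔉 k) W s = 0 ↔
      s ∈ RingHom.ker (pr h W k) • (⊤ : Submodule (Ring (𝔛.Osh h) W) (Sec 𝔉 W)) := by
  obtain ⟨K, hK⟩ := exists_isAdicRing h𝔛 hW
  rw [hK.ker_pr]
  exact (lvl_affine h𝔛 h𝔉 hW hK k).2 s

theorem surjective_lvlπ {W : (𝔛.X 0).Opens} (hW : IsAffineOpen W) (k : ℕ) :
    Function.Surjective (appL (lvlπ h 𝔉 k) W) := by
  obtain ⟨K, hK⟩ := exists_isAdicRing h𝔛 hW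
  exact (lvl_affine h𝔛 h𝔉 hW hK k).1

variable (U h')

theorem lvl_ker_Rs (h𝔛' : (rO h U).IsLocNoethFormal) (hV : IsAffineOpen V) (k : ℕ)
    (s : Sec 𝔉 (up h U V)) :
    appL (lvlπ h' ((Rs h U h').obj 𝔉) k) V (rs h' s) = 0 ↔
      appL (lvlπ h 𝔉 k) (up h U V) s = 0 := by
  have h𝔉' := isCohF_Rs (U := U) (h' := h') h𝔛 h𝔉
  rw [lvl_ker h𝔛 h𝔉 (isAffineOpen_up hV), lvl_ker h𝔛' h𝔉' hV]
  have hker : ∀ a, pr h' V k (toRes h U h' V a) = 0 ↔ pr h (up h U V) k a = 0 := fun a => by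
    rw [pr_toRes]
    exact map_eq_zero_iff _ (bijective_lvlRes h U h' k V).1
  constructor
  · intro hs
    have key : ∀ t ∈ RingHom.ker (pr h' V k) • (⊤ : Submodule (Ring ((rO h U).Osh h') V)
        (Sec ((Rs h U h').obj 𝔉) V)), (rsec h U h' 𝔉 V).symm t ∈
          RingHom.ker (pr h (up h U V) k) •
            (⊤ : Submodule (Ring (𝔛.Osh h) (up h U V)) (Sec 𝔉 (up h U V))) := by
      intro t ht
      refine Submodule.smul_induction_on
        (p := fun t => (rsec h U h' 𝔉 V).symm t ∈ RingHom.ker (pr h (up h U V) k) •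
          (⊤ : Submodule (Ring (𝔛.Osh h) (up h U V)) (Sec 𝔉 (up h U V)))) ht (fun c hc w _ => ?_)
        fun x y hx hy => by rw [map_add]; exact Submodule.add_mem _ hx hy
      · obtain ⟨a, rfl⟩ := (bijective_toRes h U h' V).2 c
        obtain ⟨w, rfl⟩ := (rsec h U h' 𝔉 V).surjective w
        rw [smul_Rs, AddEquiv.symm_apply_apply]
        exact Submodule.smul_mem_smul ((hker a).1 hc) trivial
    simpa [rs] using key _ hs
  · intro hs
    refine Submodule.smul_induction_on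
      (p := fun t => rsec h U h' 𝔉 V t ∈ RingHom.ker (pr h' V k) •
        (⊤ : Submodule (Ring ((rO h U).Osh h') V) (Sec ((Rs h U h').obj 𝔉) V))) hs
      (fun c hc w _ => ?_) fun x y hx hy => by rw [map_add]; exact Submodule.add_mem _ hx hy
    rw [← smul_Rs]
    exact Submodule.smul_mem_smul ((hker c).2 hc) trivial

/-- Truncation commutes with restriction. -/
theorem exists_lvlIso (h𝔛' : (rO h U).IsLocNoethFormal) (k : ℕ) :
    ∃ θ : lvlF h' ((Rs h U h').obj 𝔉) k ≅ (Rs h U h').obj (lvlF h 𝔉 k),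
      lvlπ h' ((Rs h U h').obj 𝔉) k ≫ θ.hom = (Rs h U h').map (lvlπ h 𝔉 k) := by
  have h𝔉' := isCohF_Rs (U := U) (h' := h') h𝔛 h𝔉
  let p := lvlπ h' ((Rs h U h').obj 𝔉) k
  have := epi_lvlπ h𝔛' h𝔉' k
  have hz : kernel.ι p ≫ (Rs h U h').map (lvlπ h 𝔉 k) = 0 :=
    hom_eq_zero_of_isBasis _ isBasis_affine fun V hV t => by
      obtain ⟨s, hs⟩ := (rsec h U h' 𝔉 V).surjective (appL (kernel.ι p) V t)
      rw [appL_comp, ← hs, appL_Rs, AddEquiv.map_eq_zero_iff]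
      refine (lvl_ker_Rs U h' h𝔛 h𝔉 h𝔛' hV k _).1 ?_
      rw [rs, hs]
      exact appL_kernel_condition p t
  let θ := Abelian.epiDesc p _ hz
  have hθ : p ≫ θ = (Rs h U h').map (lvlπ h 𝔉 k) := Abelian.comp_epiDesc p _ hz
  have : IsIso θ := isIso_of_isBasis θ isBasis_affine fun V hV => by
    refine ⟨(injective_iff_map_eq_zero _).2 fun z hz' => ?_, fun y => ?_⟩
    · obtain ⟨s, rfl⟩ := surjective_lvlπ h𝔛' h𝔉' hV k z
      obtain ⟨s, rfl⟩ := (rsec h U h' 𝔉 V).surjective s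
      refine (lvl_ker_Rs U h' h𝔛 h𝔉 h𝔛' hV k s).2 ?_
      rw [← appL_comp, hθ, appL_Rs, AddEquiv.map_eq_zero_iff] at hz'
      exact hz'
    · obtain ⟨y, rfl⟩ := (rsec h U h' _ V).surjective y
      obtain ⟨s, rfl⟩ := surjective_lvlπ h𝔛 h𝔉 (isAffineOpen_up hV) k y
      refine ⟨appL p V (rs h' s), ?_⟩
      rw [← appL_comp, hθ, appL_Rs]
  exact ⟨asIso θ, hθ⟩

/-- The truncations of a restriction. -/
noncomputable def lvlIso (h𝔛' : (rO h U).IsLocNoethFormal) (k : ℕ) :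
    lvlF h' ((Rs h U h').obj 𝔉) k ≅ (Rs h U h').obj (lvlF h 𝔉 k) :=
  (exists_lvlIso U h' h𝔛 h𝔉 h𝔛' k).choose

@[reassoc]
theorem π_lvlIso (h𝔛' : (rO h U).IsLocNoethFormal) (k : ℕ) :
    lvlπ h' ((Rs h U h').obj 𝔉) k ≫ (lvlIso U h' h𝔛 h𝔉 h𝔛' k).hom =
      (Rs h U h').map (lvlπ h 𝔉 k) :=
  (exists_lvlIso U h' h𝔛 h𝔉 h𝔛' k).choose_spec

@[reassoc]
theorem lvlT_lvlIso (h𝔛' : (rO h U).IsLocNoethFormal) (k : ℕ) :
    lvlT h' ((Rs h U h').obj 𝔉) k ≫ (lvlIso U h' h𝔛 h𝔉 h𝔛' k).hom =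
      (lvlIso U h' h𝔛 h𝔉 h𝔛' (k + 1)).hom ≫ (Rs h U h').map (lvlT h 𝔉 k) := by
  have := epi_lvlπ h𝔛' (isCohF_Rs (U := U) (h' := h') h𝔛 h𝔉) (k + 1)
  rw [← cancel_epi (lvlπ h' ((Rs h U h').obj 𝔉) (k + 1)), ← Category.assoc, π_T, π_lvlIso,
    π_lvlIso_assoc, ← Functor.map_comp, π_T]

end levels

end Groth.Agent.FTors52
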