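import Groth.Agent.FTors52.RestrictRing
import Groth.Agent.H9Misc.RestrExt
import Groth.Agent.ModTensor.ExtZero
import Mathlib.Topology.Sheaves.Module

/-!
# Restriction of modules to the formal system induced on an open
-/

set_option autoImplicit false

universe u

open CategoryTheory CategoryTheory.Limits AlgebraicGeometry Opposite TopologicalSpace

namespace Groth.Agent.FTors52

open FMod90

variable {𝔛 : FSch.Sys.{u}} (h : 𝔛.IsFormal) (U : (𝔛.X 0).Opens)
  (h' : (𝔛.restrictOpen h U).IsFormal)

/-- The restriction of the structure sheaf to the common space of the induced system. -/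
noncomputable abbrev resSh :
    Sheaf (Opens.grothendieckTopology ((rO h U).X 0)) RingCat.{u} :=
  (𝔛.lvU h 0 U).sheafRestrict.obj (ModSite.ringSh (𝔛.Osh h))

/-- The restricted structure sheaf is the structure sheaf of the induced system. -/
noncomputable def ringHomRes : resSh h U ⟶ ModSite.ringSh ((rO h U).Osh h') :=
  ⟨{ app := fun V => RingCat.ofHom (toRes h U h' V.unop)
     naturality := fun V₁ V₂ i => by
       ext s
       exact (toRes_rres h U h' (leOfHom i.unop) s).symm }⟩

instance isIso_ringHomRes : IsIso (ringHomRes h U h') := by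
  have : IsIso ((sheafToPresheaf _ _).map (ringHomRes h U h')) := by
    rw [NatTrans.isIso_iff_isIso_app]
    intro V
    exact (RingEquiv.ofBijective _ (bijective_toRes h U h' V.unop)).toRingCatIso.isIso_hom
  exact isIso_of_reflects_iso _ (sheafToPresheaf _ _)

/-- Change of scalars along the comparison of the structure sheaves. -/
noncomputable def scalarsRes :
    SheafOfModules.{u} (resSh h U) ≌ FSch.ModF (rO h U) h' :=
  haveI : IsIso (ringHomRes h U h') := isIso_ringHomRes h U h'
  let φ := inv (ringHomRes h U h')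
  haveI hF : (CategoryTheory.Equivalence.refl : Opens ((rO h U).X 0) ≌ _).functor.IsContinuous
      (Opens.grothendieckTopology ((rO h U).X 0)) (Opens.grothendieckTopology ((rO h U).X 0)) :=
    Functor.isContinuous_id _
  haveI hI : (CategoryTheory.Equivalence.refl : Opens ((rO h U).X 0) ≌ _).inverse.IsContinuous
      (Opens.grothendieckTopology ((rO h U).X 0)) (Opens.grothendieckTopology ((rO h U).X 0)) :=
    Functor.isContinuous_id _
  SheafOfModules.pushforwardPushforwardEquivalence (eqv := CategoryTheory.Equivalence.refl)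
    (J := Opens.grothendieckTopology ((rO h U).X 0)) (K := Opens.grothendieckTopology ((rO h U).X 0))
    (R := resSh h U) (S := ModSite.ringSh ((rO h U).Osh h'))
    φ (ringHomRes h U h')
    (by
      ext V : 2
      have e : (ringHomRes h U h').hom.app V ≫ φ.hom.app V = 𝟙 _ := by
        rw [← NatTrans.comp_app, ← ObjectProperty.FullSubcategory.comp_hom, IsIso.hom_inv_id]
        rfl
      exact ((resSh h U).obj.map_id V).trans e.symm)
    (by
      ext V : 2
      have e : φ.hom.app V ≫ (ringHomRes h U h').hom.app V = 𝟙 _ := by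
        rw [← NatTrans.comp_app, ← ObjectProperty.FullSubcategory.comp_hom, IsIso.inv_hom_id]
        rfl
      exact ((congrArg (φ.hom.app V ≫ ·) ((congrArg ((ringHomRes h U h').hom.app V ≫ ·)
        ((ModSite.ringSh ((rO h U).Osh h')).obj.map_id V)).trans (Category.comp_id _))).trans e))

/-- Modules over the over-site as modules on the induced system. -/
noncomputable def overRes :
    ModSite.Mod ((𝔛.Osh h).over (𝔛.lvU h 0 U)) ≌ FSch.ModF (rO h U) h' :=
  ((𝔛.lvU h 0 U).sheafOfModulesEquivOver (ModSite.ringSh (𝔛.Osh h))).trans (scalarsRes h U h')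

/-- Restriction of modules. -/
noncomputable def Rs : FSch.ModF 𝔛 h ⥤ FSch.ModF (rO h U) h' :=
  ModSite.restr (𝔛.Osh h) (𝔛.lvU h 0 U) ⋙ (overRes h U h').functor

theorem preservesFiniteLimits_Rs : PreservesFiniteLimits (Rs h U h') := by
  have : PreservesFiniteLimits (ModSite.restr (𝔛.Osh h) (𝔛.lvU h 0 U)) := by
    have := (ModSite.extZeroAdj (𝔛.Osh h) (𝔛.lvU h 0 U)).rightAdjoint_preservesLimits.{0, 0}
    exact ⟨fun _ => inferInstance⟩
  exact comp_preservesFiniteLimits _ (overRes h U h').functor

theorem preservesFiniteColimits_Rs : PreservesFiniteColimits (Rs h U h') := by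
  have : PreservesFiniteColimits (ModSite.restr (𝔛.Osh h) (𝔛.lvU h 0 U)) :=
    SuppCore.preservesFiniteColimits_restr _
  exact comp_preservesFiniteColimits _ (overRes h U h').functor

instance additive_Rs : (Rs h U h').Additive where
  map_add := hom_ext fun _ _ => rfl

theorem preservesInjectiveObjects_Rs : (Rs h U h').PreservesInjectiveObjects := by
  have : (ModSite.extZero (𝔛.Osh h) (𝔛.lvU h 0 U)).PreservesMonomorphisms :=
    ⟨fun f _ => ModTensor.mono_extZero_map _ _ f⟩
  refine ⟨fun {Q} hQ => ?_⟩
  have h1 : Injective ((ModSite.restr (𝔛.Osh h) (𝔛.lvU h 0 U)).obj Q) :=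
    (ModSite.extZeroAdj (𝔛.Osh h) (𝔛.lvU h 0 U)).map_injective Q hQ
  exact (overRes h U h').symm.toAdjunction.map_injective _ h1

variable {M N : FSch.ModF 𝔛 h}

variable (M) in
/-- Sections of a restriction. -/
noncomputable def rsec (V : ((rO h U).X 0).Opens) :
    Sec M (up h U V) ≃+ Sec ((Rs h U h').obj M) V where
  toFun s := s
  invFun s := s
  left_inv _ := rfl
  right_inv _ := rfl
  map_add' _ _ := rfl

theorem appL_Rs (φ : M ⟶ N) (V : ((rO h U).X 0).Opens) (s : Sec M (up h U V)) :
    appL ((Rs h U h').map φ) V (rsec h U h' M V s) = rsec h U h' N V (appL φ (up h U V) s) := rfl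

theorem res_Rs {V₁ V₂ : ((rO h U).X 0).Opens} (hle : V₂ ≤ V₁) (s : Sec M (up h U V₁)) :
    res ((Rs h U h').obj M) hle (rsec h U h' M V₁ s) =
      rsec h U h' M V₂ (res M (leOfHom ((𝔛.lvU h 0 U).ι.opensFunctor.map (homOfLE hle))) s) := rfl

theorem smul_Rs (V : ((rO h U).X 0).Opens) (a : Ring (𝔛.Osh h) (up h U V))
    (s : Sec M (up h U V)) :
    toRes h U h' V a • rsec h U h' M V s = rsec h U h' M V (a • s) := by
  have : IsIso (ringHomRes h U h') := isIso_ringHomRes h U h'
  change (show Ring (𝔛.Osh h) (up h U V) from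
    ((inv (ringHomRes h U h')).hom.app (op V)).hom (toRes h U h' V a)) • s = a • s
  refine congrArg (fun z : Ring (𝔛.Osh h) (up h U V) => z • s) ?_
  refine Eq.trans ?_ (congrArg (fun t => t.hom.app (op V) a) (IsIso.hom_inv_id (ringHomRes h U h')))
  rfl

end Groth.Agent.FTors52
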