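import Groth.Agent.FMod90.Levels
import Groth.Agent.FMod90.Coh
import Groth.Agent.FMod90.Kernels

/-!
# The structure sheaf of the formal system induced on an open
-/

set_option autoImplicit false

universe u

open CategoryTheory CategoryTheory.Limits AlgebraicGeometry Opposite TopologicalSpace

namespace Groth.Agent.FTors52

open FMod90

variable {𝔛 : FSch.Sys.{u}} (h : 𝔛.IsFormal) (U : (𝔛.X 0).Opens)
  (h' : (𝔛.restrictOpen h U).IsFormal)

/-- The induced system on an open. -/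
noncomputable abbrev rO : FSch.Sys.{u} := 𝔛.restrictOpen h U

/-- The open of the common space below an open of the induced system. -/
noncomputable abbrev up (V : ((rO h U).X 0).Opens) : (𝔛.X 0).Opens :=
  (𝔛.lvU h 0 U).ι.opensFunctor.obj V

theorem up_le (V : ((rO h U).X 0).Opens) : up h U V ≤ U := by
  rintro _ ⟨x, -, rfl⟩
  exact (lvU_zero h U).le x.2

theorem preimage_up (V : ((rO h U).X 0).Opens) :
    (𝔛.lvU h 0 U).ι ⁻¹ᵁ up h U V = V :=
  (𝔛.lvU h 0 U).ι.preimage_image_eq V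

theorem lvU_preimage_ι (n : ℕ) (V : ((rO h U).X 0).Opens) :
    (𝔛.lvU h n U).ι ⁻¹ᵁ 𝔛.lvU h n (up h U V) = (rO h U).lvU h' n V :=
  (FSch.Hom.lvU_preimage (𝔛.restrictOpenι h U) h' h n (up h U V)).trans
    (congrArg ((rO h U).lvU h' n) (preimage_up h U V))

theorem image_lvU (n : ℕ) (V : ((rO h U).X 0).Opens) :
    (𝔛.lvU h n U).ι.opensFunctor.obj ((rO h U).lvU h' n V) = 𝔛.lvU h n (up h U V) := by
  rw [← lvU_preimage_ι h U h' n V]
  refine ((𝔛.lvU h n U).ι.image_preimage_eq_opensRange_inf _).trans ?_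
  rw [Scheme.Opens.opensRange_ι, inf_eq_right]
  exact fun x hx => up_le h U V hx

/-- Sections of a level over an open inside `U` are the sections of the induced level. -/
noncomputable def lvlRes (n : ℕ) (V : ((rO h U).X 0).Opens) :
    Rn h (up h U V) n →+* Rn h' V n :=
  ((𝔛.lvU h n U).ι.appLE _ _ (lvU_preimage_ι h U h' n V).ge).hom

theorem bijective_lvlRes (n : ℕ) (V : ((rO h U).X 0).Opens) :
    Function.Bijective (lvlRes h U h' n V) := by
  have e := image_lvU h U h' n V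
  have : IsIso ((𝔛.lvU h n U).ι.appLE _ _ (lvU_preimage_ι h U h' n V).ge) := by
    rw [Scheme.Opens.ι_appLE]
    have key : ∀ {A B : (𝔛.X n).Opens} (i : B ⟶ A), B = A → IsIso ((𝔛.X n).presheaf.map i.op) := by
      intro A B i hAB
      subst hAB
      rw [Subsingleton.elim i (𝟙 _), op_id, CategoryTheory.Functor.map_id]
      infer_instance
    exact key _ e
  exact ConcreteCategory.bijective_of_isIso ((𝔛.lvU h n U).ι.appLE _ _ (lvU_preimage_ι h U h' n V).ge)

theorem ρ_lvlRes (n : ℕ) (V : ((rO h U).X 0).Opens) (y : Rn h (up h U V) (n + 1)) :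
    ρ h' V n (lvlRes h U h' (n + 1) V y) = lvlRes h U h' n V (ρ h (up h U V) n y) := by
  have e₃ : (rO h U).lvU h' n V ≤
      ((𝔛.lvU h n U).ι ≫ 𝔛.ι n) ⁻¹ᵁ 𝔛.lvU h (n + 1) (up h U V) :=
    (lvU_preimage_ι h U h' n V).ge.trans (Scheme.Hom.preimage_mono _ (𝔛.lvU_le h n _))
  exact ConcreteCategory.congr_hom
    ((FSch.appLE_comp_appLE_of_eq ((rO h U).ι n) (𝔛.lvU h (n + 1) U).ι _
        (Scheme.Hom.resLE_comp_ι _ _) _ _ _ _ _ e₃).trans
      (FSch.appLE_comp_appLE_of_eq _ _ _ rfl _ _ _ _ _ e₃).symm) y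

/-- Functions on the formal scheme restricted to the induced system. -/
noncomputable def toRes (V : ((rO h U).X 0).Opens) :
    Ring (𝔛.Osh h) (up h U V) →+* Ring ((rO h U).Osh h') V :=
  (((rO h U).Osh h').obj.map (eqToHom (congrArg op (preimage_up h U V)))).hom.comp
    ((FSch.Hom.sharp (𝔛.restrictOpenι h U) h' h).hom.app (op (up h U V))).hom

theorem pr_toRes (n : ℕ) (V : ((rO h U).X 0).Opens) (s : Ring (𝔛.Osh h) (up h U V)) :
    pr h' V n (toRes h U h' V s) = lvlRes h U h' n V (pr h (up h U V) n s) := by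
  let f : rO h U ⟶ 𝔛 := 𝔛.restrictOpenι h U
  have e1 := ConcreteCategory.congr_hom
    (congrArg (fun t => t.hom.app (op (up h U V))) (FSch.Hom.sharp_proj f h' h n)) s
  change pr h' ((f : FSch.Hom _ _).app 0 ⁻¹ᵁ up h U V) n
      ((FSch.Hom.sharp f h' h).hom.app (op (up h U V)) s) =
    (FSch.Hom.levelPush f h' h n).hom.app (op (up h U V)) (pr h (up h U V) n s) at e1
  rw [FSch.Hom.levelPush_app] at e1
  have e2 := ConcreteCategory.congr_hom
    (((rO h U).OshProj h' n).hom.naturality (eqToHom (congrArg op (preimage_up h U V))))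
    ((FSch.Hom.sharp f h' h).hom.app (op (up h U V)) s)
  refine e2.trans ?_
  refine (congrArg (((rO h U).levelObj h' n).obj.map _) e1).trans ?_
  exact ConcreteCategory.congr_hom
    (Scheme.Hom.appLE_map ((f : FSch.Hom _ _).app n) _ _) (pr h (up h U V) n s)

theorem bijective_toRes (V : ((rO h U).X 0).Opens) : Function.Bijective (toRes h U h' V) := by
  refine ⟨fun s t hst => ring_ext h _ fun n => (bijective_lvlRes h U h' n V).1 ?_, fun y => ?_⟩
  · rw [← pr_toRes, ← pr_toRes, hst]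
  · choose z hz using fun n => (bijective_lvlRes h U h' n V).2 (pr h' V n y)
    obtain ⟨s, hs⟩ := exists_ring h (up h U V) z fun n => (bijective_lvlRes h U h' n V).1 <| by
      rw [← ρ_lvlRes, hz, hz, ρ_pr]
    exact ⟨s, ring_ext h' _ fun n => by rw [pr_toRes, hs, hz]⟩

theorem toRes_rres {V₁ V₂ : ((rO h U).X 0).Opens} (hle : V₂ ≤ V₁)
    (s : Ring (𝔛.Osh h) (up h U V₁)) :
    rres ((rO h U).Osh h') hle (toRes h U h' V₁ s) =
      toRes h U h' V₂ (rres (𝔛.Osh h)
        (leOfHom ((𝔛.lvU h 0 U).ι.opensFunctor.map (homOfLE hle))) s) := by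
  let f : rO h U ⟶ 𝔛 := 𝔛.restrictOpenι h U
  have e1 := ConcreteCategory.congr_hom ((FSch.Hom.sharp f h' h).hom.naturality
    (((𝔛.lvU h 0 U).ι.opensFunctor.map (homOfLE hle))).op) s
  change rres ((rO h U).Osh h') hle (toRes h U h' V₁ s) =
    ((rO h U).Osh h').obj.map _ ((FSch.Hom.sharp f h' h).hom.app _ _)
  refine Eq.trans ?_ (congrArg (((rO h U).Osh h').obj.map _) e1).symm
  change (((rO h U).Osh h').obj.map _ ≫ ((rO h U).Osh h').obj.map _) _ =
    (((rO h U).Osh h').obj.map _ ≫ ((rO h U).Osh h').obj.map _) _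
  rw [← Functor.map_comp, ← Functor.map_comp]
  rfl

end Groth.Agent.FTors52
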