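import Groth.Agent.FTors52.PushZero
import Groth.Agent.FTors52.LvlMul
import Groth.Agent.FTors52.RpushBound
import Groth.Agent.SiteBase.DerivedPrecompAcyclic
import Groth.Agent.SiteBase.DerivedComp
import Groth.Agent.SiteBase.Rpush
import Groth.Agent.SpObjSS.Grothendieck
import Groth.Agent.QCoh.RpushClosed
import Groth.Agent.KFlatLib.Scheme.RpushQCoh
import Groth.Agent.TriCat.RightDerivedBridge
import Groth.Agent.FTors52.AffVanish
import Groth.Agent.S0002
import Groth.Prelude.Def_FSch4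
import Groth.Prelude.Def_FSch6

/-!
# Higher direct images of the truncations of a coherent module along a proper morphism
-/

set_option autoImplicit false

universe u

open CategoryTheory CategoryTheory.Limits AlgebraicGeometry Opposite TopologicalSpace

namespace Groth.Agent.FTors52

open FMod90

/-- Direct images of modules are left exact. -/
theorem preservesFiniteLimits_rmorPush {C : Type u} [SmallCategory C] {J : GrothendieckTopology C}
    {D : Type u} [SmallCategory D] {K : GrothendieckTopology D} {O : Sheaf J CommRingCat.{u}}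
    {O' : Sheaf K CommRingCat.{u}} (g : ModSite.RMor O O') : PreservesFiniteLimits g.push := by
  have : g.push.IsRightAdjoint := g.adj.isRightAdjoint
  have : PreservesLimitsOfSize.{0, 0} g.push := inferInstance
  exact ⟨fun _ => inferInstance⟩

theorem allAcy_sheaf_of_injective {X : Scheme.{u}} (Q : X.Modules) (hQ : Injective Q) :
    AllAcy X.sheaf Q :=
  @allAcy_of_injective _ _ _ X.sheaf Q hQ

variable {𝔛 𝔜 : FSch.Sys.{u}} (f : 𝔛 ⟶ 𝔜) (hX : 𝔛.IsFormal) (hY : 𝔜.IsFormal)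
  [HasInjectiveResolutions (FSch.ModF 𝔛 hX)]

/-- Higher direct images of modules from the smallest level. -/
theorem nonempty_Rpush_push0_iso [HasInjectiveResolutions (𝔛.X 0).Modules] (q : ℕ) :
    Nonempty (push0 hX ⋙ FSch.RpushF f hX hY q ≅
      Coh.Rpush ((f : FSch.Hom 𝔛 𝔜).app 0) q ⋙ push0 hY) := by
  have := SpObjSS.enoughInjectives_of_hasInjectiveResolutions (C := (𝔛.X 0).Modules)
  have := SpObjSS.enoughInjectives_of_hasInjectiveResolutions (C := FSch.ModF 𝔛 hX)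
  have := preservesFiniteColimits_push0 (h := hX)
  have := preservesFiniteColimits_push0 (h := hY)
  have : PreservesFiniteLimits (push0 hX) := preservesFiniteLimits_rmorPush (FSch.levelMor 𝔛 hX 0)
  have : PreservesFiniteLimits (push0 hY) := preservesFiniteLimits_rmorPush (FSch.levelMor 𝔜 hY 0)
  have : PreservesFiniteLimits (FSch.pushF f hX hY) :=
    preservesFiniteLimits_rmorPush (FSch.homMor f hX hY)
  have : (push0 hX).Additive := inferInstanceAs (FSch.levelMor 𝔛 hX 0).push.Additive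
  have : (push0 hY).Additive := inferInstanceAs (FSch.levelMor 𝔜 hY 0).push.Additive
  obtain ⟨e⟩ := SiteBase.nonempty_rightDerived_precomp_of_acyclic (push0 hX) (FSch.pushF f hX hY)
    (fun Q hQ i => isZero_Rpush_of_bound (FSch.homMor f hX hY) (isCoveredBy_affine (𝔜.X 0)) _ 0
      (fun V _ k hk => by
        obtain ⟨k, rfl⟩ := Nat.exists_eq_add_of_le' hk
        exact allAcy_push (FSch.levelMor 𝔛 hX 0) (allAcy_sheaf_of_injective Q hQ) _ k)
      (i + 1) i.succ_pos) q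
  let e0 : push0 hX ⋙ FSch.pushF f hX hY ≅
      Scheme.Modules.pushforward ((f : FSch.Hom 𝔛 𝔜).app 0) ⋙ push0 hY := FSch.lvPushSq f hX hY 0
  exact ⟨e.symm ≪≫ SiteBase.rightDerivedCongr e0 q ≪≫
    SiteBase.rightDerivedCompIso (Scheme.Modules.pushforward ((f : FSch.Hom 𝔛 𝔜).app 0)) (push0 hY) q⟩

/-- Higher direct images of a coherent module from the smallest level are coherent. -/
theorem isCohF_Rpush_push0 (h𝔜 : 𝔜.IsLocNoethFormal) (hf : FSch.IsProperHom f)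
    {G : (𝔛.X 0).Modules} (hG : Coh.IsCoh G) (q : ℕ) :
    FSch.IsCohF 𝔜 hY ((FSch.RpushF f hX hY q).obj ((push0 hX).obj G)) := by
  have : HasInjectiveResolutions (𝔛.X 0).Modules := KFlatLib.hasInjectiveResolutions_modules
  have := hf.2
  have := h𝔜.2.2 0
  obtain ⟨e⟩ := nonempty_Rpush_push0_iso f hX hY q
  refine isCohF_of_iso h𝔜 (e.app G).symm (isCohF_push0 h𝔜 ?_)
  exact QCoh.isCoh_Rpush_of_finiteness (f := (f : FSch.Hom 𝔛 𝔜).app 0) hG q
    fun A _ _ Y _ _ N hN n => S0002.result A Y N hN n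

omit [HasInjectiveResolutions (FSch.ModF 𝔛 hX)] in
variable {hX} in
/-- A module killed by the ideal of definition comes from the smallest level. -/
theorem isIso_unit_kernel_lvlT (h𝔛 : 𝔛.IsLocNoethFormal) {𝔉 : FSch.ModF 𝔛 hX}
    (h𝔉 : FSch.IsCohF 𝔛 hX 𝔉) (k : ℕ) :
    IsIso ((FSch.levelMor 𝔛 hX 0).adj.unit.app (kernel (lvlT hX 𝔉 k))) := by
  have hG := isCohF_gr h𝔛 h𝔉 k
  refine isIso_of_isBasis _ isBasis_affine fun U hU => ?_
  obtain ⟨K, hK⟩ := exists_isAdicRing h𝔛 hU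
  obtain ⟨hs, hz⟩ := lvl_affine h𝔛 hG hU hK 0
  refine ⟨(injective_iff_map_eq_zero _).2 fun s hs0 => ?_, hs⟩
  have hmem := (hz s).1 hs0
  rw [pow_one] at hmem
  refine Submodule.smul_induction_on hmem (fun c hc w _ => ?_)
    fun x y hx hy => by rw [hx, hy, add_zero]
  refine injective_of_mono (kernel.ι (lvlT hX 𝔉 k)) U ?_
  obtain ⟨hs₁, hk₁⟩ := lvl_affine h𝔛 h𝔉 hU hK (k + 1)
  obtain ⟨y, hy⟩ := hs₁ (appL (kernel.ι (lvlT hX 𝔉 k)) U w)
  have hy0 : appL (lvlπ hX 𝔉 k) U y = 0 := by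
    rw [← π_T, appL_comp, hy]
    exact appL_kernel_condition _ w
  rw [map_smul, map_zero, ← hy, ← map_smul]
  refine (hk₁ _).2 ?_
  rw [pow_succ' K (k + 1), Submodule.mul_smul]
  exact Submodule.smul_mem_smul hc (((lvl_affine h𝔛 h𝔉 hU hK k).2 y).1 hy0)

omit [HasInjectiveResolutions (FSch.ModF 𝔛 hX)] in
variable {hY} in
/-- The middle term of an exact sequence between coherent modules, a cokernel and a kernel. -/
theorem isCohF_of_exact_four (h𝔜 : 𝔜.IsLocNoethFormal) {A B C D : FSch.ModF 𝔜 hY} (f' : A ⟶ B)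
    (g : B ⟶ C) (δ : C ⟶ D) (w : f' ≫ g = 0) (w' : g ≫ δ = 0)
    (e : (ShortComplex.mk f' g w).Exact) (e' : (ShortComplex.mk g δ w').Exact)
    (hker : ∃ (P : FSch.ModF 𝔜 hY) (a : P ⟶ A) (wa : a ≫ f' = 0), FSch.IsCohF 𝔜 hY P ∧
      (ShortComplex.mk a f' wa).Exact)
    (hA : FSch.IsCohF 𝔜 hY A) (hC : FSch.IsCohF 𝔜 hY C) (hD : FSch.IsCohF 𝔜 hY D) :
    FSch.IsCohF 𝔜 hY B := by
  obtain ⟨P, a, wa, hP, ea⟩ := hker
  let f₁ := cokernel.desc a f' wa
  let g₁ := kernel.lift δ g w'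
  have : Mono f₁ := ea.mono_cokernelDesc
  have : Epi g₁ := e'.epi_kernelLift
  have w₁ : f₁ ≫ g = 0 := by rw [← cancel_epi (cokernel.π a), cokernel.π_desc_assoc, w, comp_zero]
  have w₂ : f₁ ≫ g₁ = 0 := by
    rw [← cancel_mono (kernel.ι δ), Category.assoc, kernel.lift_ι, w₁, zero_comp]
  let φ : ShortComplex.mk f' g w ⟶ ShortComplex.mk f₁ g w₁ :=
    { τ₁ := cokernel.π a, τ₂ := 𝟙 B, τ₃ := 𝟙 C }
  have e₁ : (ShortComplex.mk f₁ g w₁).Exact :=
    (ShortComplex.exact_iff_of_epi_of_isIso_of_mono φ).1 e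
  let ψ : ShortComplex.mk f₁ g₁ w₂ ⟶ ShortComplex.mk f₁ g w₁ :=
    { τ₁ := 𝟙 _, τ₂ := 𝟙 B, τ₃ := kernel.ι δ }
  exact isCohF_of_exact h𝔜 (S := ShortComplex.mk f₁ g₁ w₂)
    ((ShortComplex.exact_iff_of_epi_of_isIso_of_mono ψ).2 e₁)
    (isCohF_cokernel h𝔜 a hP hA) (isCohF_kernel h𝔜 δ hC (isPC_of_isCohF h𝔜 hD))

/-- Higher direct images of the truncations of a coherent module are coherent. -/
theorem isCohF_Rpush_lvlF (h𝔛 : 𝔛.IsLocNoethFormal) (h𝔜 : 𝔜.IsLocNoethFormal)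
    (hf : FSch.IsProperHom f) {𝔉 : FSch.ModF 𝔛 hX} (h𝔉 : FSch.IsCohF 𝔛 hX 𝔉) :
    ∀ (k q : ℕ), FSch.IsCohF 𝔜 hY ((FSch.RpushF f hX hY q).obj (lvlF hX 𝔉 k))
  | 0, q => isCohF_Rpush_push0 f hX hY h𝔜 hf (isCoh_pull h𝔛 𝔉 h𝔉 0) q
  | k + 1, q => by
    have := SpObjSS.enoughInjectives_of_hasInjectiveResolutions (C := FSch.ModF 𝔛 hX)
    let := HasDerivedCategory.standard (FSch.ModF 𝔛 hX)
    let := HasDerivedCategory.standard (FSch.ModF 𝔜 hY)
    have := epi_lvlπ h𝔛 h𝔉 k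
    have : Epi (lvlπ hX 𝔉 (k + 1) ≫ lvlT hX 𝔉 k) := by rw [π_T]; infer_instance
    have : Epi (lvlT hX 𝔉 k) := epi_of_epi (lvlπ hX 𝔉 (k + 1)) _
    let T : ShortComplex (FSch.ModF 𝔛 hX) :=
      ShortComplex.mk (kernel.ι (lvlT hX 𝔉 k)) (lvlT hX 𝔉 k) (kernel.condition _)
    have hT : T.ShortExact :=
      { exact := ShortComplex.exact_kernel _, mono_f := inferInstance, epi_g := inferInstance }
    have h₁ : ∀ p, FSch.IsCohF 𝔜 hY ((FSch.RpushF f hX hY p).obj T.X₁) := fun p => by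
      have := isIso_unit_kernel_lvlT h𝔛 h𝔉 k
      exact isCohF_of_iso h𝔜
        ((FSch.RpushF f hX hY p).mapIso
          (asIso ((FSch.levelMor 𝔛 hX 0).adj.unit.app (kernel (lvlT hX 𝔉 k))))).symm
        (isCohF_Rpush_push0 f hX hY h𝔜 hf (isCoh_pull h𝔛 _ (isCohF_gr h𝔛 h𝔉 k) 0) p)
    have h₃ : ∀ p, FSch.IsCohF 𝔜 hY ((FSch.RpushF f hX hY p).obj T.X₃) := fun p =>
      isCohF_Rpush_lvlF h𝔛 h𝔜 hf h𝔉 k p
    obtain ⟨δ, w₁, w₂, w₃, e₁, e₂, -⟩ := TriCat.exists_rightDerived_ses (FSch.pushF f hX hY) hT q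
    refine isCohF_of_exact_four h𝔜 _ _ δ w₁ w₂ e₁ e₂ ?_ (h₁ q) (h₃ q) (h₁ (q + 1))
    rcases q with _ | p
    · have : PreservesFiniteLimits (FSch.pushF f hX hY) :=
        preservesFiniteLimits_rmorPush (FSch.homMor f hX hY)
      have e := (FSch.pushF f hX hY).rightDerivedZeroIsoSelf.hom.naturality T.f
      have : Mono ((FSch.RpushF f hX hY 0).map T.f) := by
        rw [← IsIso.eq_comp_inv] at e
        rw [show (FSch.RpushF f hX hY 0).map T.f = _ from e]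
        infer_instance
      exact ⟨_, 0, zero_comp, h₁ 0, (ShortComplex.exact_iff_mono _ rfl).2 this⟩
    · obtain ⟨δ', v₁, v₂, v₃, -, -, d₃⟩ :=
        TriCat.exists_rightDerived_ses (FSch.pushF f hX hY) hT p
      exact ⟨_, δ', v₃, h₃ p, d₃⟩

end Groth.Agent.FTors52
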