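import Groth.Agent.FTors52.AffineBase
import Groth.Agent.FTors52.RpushLevels
import Groth.Agent.ARLib.Basic
import Groth.Agent.FMod90.Levels
import Mathlib.CategoryTheory.Functor.OfSequence

/-!
# Higher direct images of a coherent module along a proper morphism as limits over the levels
-/

set_option autoImplicit false

universe u

open CategoryTheory CategoryTheory.Limits AlgebraicGeometry Opposite TopologicalSpace

namespace Groth.Agent.FTors52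

open FMod90

section Images

theorem imageSubobject_le_of_comp_cokernel {C : Type*} [Category C] [Abelian C] {X X' Y : C}
    (a : X ⟶ Y) (b : X' ⟶ Y) (h : a ≫ cokernel.π b = 0) :
    imageSubobject a ≤ imageSubobject b := by
  refine (ARLib.imageSubobject_le_iff _ _).2 ?_
  let l : X ⟶ Abelian.image b := kernel.lift _ a h
  have hl : l ≫ Abelian.image.ι b = a := kernel.lift_ι _ _ _
  refine ⟨pullback l (Abelian.factorThruImage b), pullback.fst _ _, inferInstance, pullback.snd _ _, ?_⟩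
  calc pullback.fst l (Abelian.factorThruImage b) ≫ a
      = (pullback.fst _ _ ≫ l) ≫ Abelian.image.ι b := by rw [Category.assoc, hl]
    _ = (pullback.snd _ _ ≫ Abelian.factorThruImage b) ≫ Abelian.image.ι b := by rw [pullback.condition]
    _ = pullback.snd _ _ ≫ b := by rw [Category.assoc, Abelian.image.fac]

end Images

variable {𝔛 𝔜 : FSch.Sys.{u}} {f : 𝔛 ⟶ 𝔜} {h𝔛 : 𝔛.IsLocNoethFormal} {h𝔜 : 𝔜.IsLocNoethFormal}
  [HasInjectiveResolutions (FSch.ModF 𝔛 h𝔛.1)] (hf : FSch.IsProperHom f)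
  {𝔉 : FSch.ModF 𝔛 h𝔛.1} (h𝔉 : FSch.IsCohF 𝔛 h𝔛.1 𝔉) (q : ℕ)

variable (f h𝔛 h𝔜 𝔉) in
/-- The system of higher direct images of the truncations. -/
noncomputable abbrev rlvl : ℕᵒᵖ ⥤ FSch.ModF 𝔜 h𝔜.1 :=
  Functor.ofOpSequence (X := fun k => (FSch.RpushF f h𝔛.1 h𝔜.1 q).obj (lvlF h𝔛.1 𝔉 k))
    fun k => (FSch.RpushF f h𝔛.1 h𝔜.1 q).map (lvlT h𝔛.1 𝔉 k)

variable (f h𝔛 h𝔜 𝔉) in
/-- The tower of sections over an open. -/
noncomputable abbrev secT (V : (𝔜.X 0).Opens) (k : ℕ) :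
    Sec ((FSch.RpushF f h𝔛.1 h𝔜.1 q).obj (lvlF h𝔛.1 𝔉 (k + 1))) V →+
      Sec ((FSch.RpushF f h𝔛.1 h𝔜.1 q).obj (lvlF h𝔛.1 𝔉 k)) V :=
  (appL ((FSch.RpushF f h𝔛.1 h𝔜.1 q).map (lvlT h𝔛.1 𝔉 k)) V).toAddMonoidHom

theorem appL_tr_rlvl (V : (𝔜.X 0).Opens) : ∀ (s n : ℕ)
    (x : Sec ((FSch.RpushF f h𝔛.1 h𝔜.1 q).obj (lvlF h𝔛.1 𝔉 (n + s))) V),
    appL (ARSys.tr (rlvl f h𝔛 h𝔜 𝔉 q) (Nat.le_add_right n s)) V x = trN (H := fun k => Sec ((FSch.RpushF f h𝔛.1 h𝔜.1 q).obj (lvlF h𝔛.1 𝔉 k)) V) (secT f h𝔛 h𝔜 𝔉 q V) s n x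
  | 0, n, x => by
    rw [ARLib.tr_refl]
    rfl
  | s + 1, n, x => by
    rw [← ARLib.tr_tr (rlvl f h𝔛 h𝔜 𝔉 q) (Nat.le_add_right n s) (Nat.le_succ (n + s)), appL_comp]
    refine Eq.trans ?_ (appL_tr_rlvl V s n (secT f h𝔛 h𝔜 𝔉 q V (n + s) x))
    refine congrArg (appL _ V) (congrArg (fun z => appL z V x) ?_)
    exact Functor.ofOpSequence_map_homOfLE_succ _ (n + s)

include hf h𝔉

/-- Classes of a truncation over the preimage of an affine open are sections. -/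
theorem bijective_edge_lvlF {V : (𝔜.X 0).Opens} (hV : IsAffineOpen V) (k : ℕ) :
    Function.Bijective (edge f h𝔛.1 h𝔜.1 V q (lvlF h𝔛.1 𝔉 k)) :=
  bijective_edge f h𝔛.1 h𝔜.1 h𝔜 q
    (fun i _ => isCohF_Rpush_lvlF f h𝔛.1 h𝔜.1 h𝔛 h𝔜 hf h𝔉 k i) hV

/-- The Mittag-Leffler bound for the sections over an affine open. -/
theorem exists_sec_bound {V : (𝔜.X 0).Opens} (hV : IsAffineOpen V) :
    ∃ r, ∀ k (x : Sec ((FSch.RpushF f h𝔛.1 h𝔜.1 q).obj (lvlF h𝔛.1 𝔉 k)) V), ∃ x',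
      Vanishes (H := fun k => Sec ((FSch.RpushF f h𝔛.1 h𝔜.1 q).obj (lvlF h𝔛.1 𝔉 k)) V)
        (secT f h𝔛 h𝔜 𝔉 q V) r k (secT f h𝔛 h𝔜 𝔉 q V k x' - x) := by
  obtain ⟨-, -, r, hr⟩ := cls_lim (f := f) (h𝔛 := h𝔛) (h𝔜 := h𝔜) hf h𝔉 q hV
  let ψ := fun k => AddEquiv.ofBijective _ (bijective_edge_lvlF (f := f) (h𝔛 := h𝔛) (h𝔜 := h𝔜) hf h𝔉 q hV k)
  have hψ : ∀ k x, ψ k ((clsV f h𝔛.1 h𝔜.1 V q).map (lvlT h𝔛.1 𝔉 k) x) =
      secT f h𝔛 h𝔜 𝔉 q V k (ψ (k + 1) x) :=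
    fun k x => edge_natural f h𝔛.1 h𝔜.1 V q (lvlT h𝔛.1 𝔉 k) x
  refine ⟨r, fun k x => ?_⟩
  obtain ⟨c', hc'⟩ := hr k ((ψ k).symm x)
  refine ⟨ψ (k + 1) c', vanishes_congr (t' := fun k => ((clsV f h𝔛.1 h𝔜.1 V q).map (lvlT h𝔛.1 𝔉 k)).hom) (fun k => (ψ k).symm.toAddMonoidHom)
    (fun k => (ψ k).symm.injective) (fun k z => ?_) r k _ ?_⟩
  · refine (ψ k).injective ?_
    refine ((ψ k).apply_symm_apply _).trans (Eq.symm ((hψ k _).trans ?_))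
    exact congrArg _ ((ψ (k + 1)).apply_symm_apply z)
  · have e : (ψ k).symm (secT f h𝔛 h𝔜 𝔉 q V k (ψ (k + 1) c') - x) =
        (clsV f h𝔛.1 h𝔜.1 V q).map (lvlT h𝔛.1 𝔉 k) c' - (ψ k).symm x := by
      rw [map_sub, ← hψ, AddEquiv.symm_apply_apply]
    exact (congrArg (Vanishes (H := fun k => (clsV f h𝔛.1 h𝔜.1 V q).obj (lvlF h𝔛.1 𝔉 k))
      (fun k => ((clsV f h𝔛.1 h𝔜.1 V q).map (lvlT h𝔛.1 𝔉 k)).hom) r k) e).mpr hc'

/-- The images of the transition maps are eventually the same. -/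
theorem isML_rlvl [CompactSpace (𝔜.X 0)] : ARSys.IsML (rlvl f h𝔛 h𝔜 𝔉 q) := by
  classical
  intro n
  obtain ⟨t, ht⟩ := isCompact_univ.elim_finite_subcover
    (fun V : (𝔜.X 0).affineOpens => ((V : (𝔜.X 0).Opens) : Set (𝔜.X 0))) (fun V => V.1.isOpen)
    fun x _ => Set.mem_iUnion.2 (exists_affine_nhd x)
  choose r hr using fun V : (𝔜.X 0).affineOpens =>
    exists_sec_bound (f := f) (h𝔛 := h𝔛) (h𝔜 := h𝔜) hf h𝔉 q V.2
  refine ⟨t.sup r, fun s hs => le_antisymm ?_ ?_⟩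
  · exact (ARLib.imageSubobject_le_iff _ _).2 ⟨_, 𝟙 _, inferInstance,
      ARSys.tr (rlvl f h𝔛 h𝔜 𝔉 q) (show n + t.sup r ≤ n + s by omega),
      (Category.id_comp _).trans (ARLib.tr_tr (rlvl f h𝔛 h𝔜 𝔉 q) _ _).symm⟩
  refine imageSubobject_le_of_comp_cokernel _ _ (hom_ext fun U y => ?_)
  rw [appL_zero]
  refine eq_zero_of_locally fun x hx => ?_
  obtain ⟨V, hV, hxV⟩ : ∃ V ∈ t, x ∈ V.1 := by simpa using ht (Set.mem_univ x)
  obtain ⟨m, g, hg⟩ := exists_isGen_affine h𝔜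
    (isCohF_Rpush_lvlF f h𝔛.1 h𝔜.1 h𝔛 h𝔜 hf h𝔉 (n + t.sup r) q) V.2
  obtain ⟨W, hW, a, hxW, ha⟩ := hg (U ⊓ V.1) inf_le_right
    (res _ inf_le_left y) x ⟨hx, hxV⟩
  refine ⟨W, hW.trans inf_le_left, hxW, ?_⟩
  refine (res_appL _ _ y).trans ((congrArg (appL _ W)
    ((res_res inf_le_left hW y).symm.trans ha.symm)).trans ((appL_comb _ g _ a).trans ?_))
  refine Finset.sum_eq_zero fun i _ => ?_
  refine (congrArg (fun z => a i • res _ (hW.trans inf_le_right) z) ?_).trans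
    ((congrArg (a i • ·) (map_zero _)).trans (smul_zero _))
  have hle : r V ≤ t.sup r := Finset.le_sup hV
  obtain ⟨z, hz⟩ := exists_trN_eq (secT f h𝔛 h𝔜 𝔉 q V.1) (t.sup r)
    (fun k x => (hr V k x).imp fun x' hx' => vanishes_of_le _ hle hx') n s hs (g i)
  refine (appL_comp _ _ V.1 _).trans ?_
  let R := rlvl f h𝔛 h𝔜 𝔉 q
  have e1 : appL (ARSys.shiftMap R (t.sup r) n) V.1 (g i) = appL (ARSys.shiftMap R s n) V.1 z :=
    (appL_tr_rlvl q V.1 (t.sup r) n (g i)).trans (hz.symm.trans (appL_tr_rlvl q V.1 s n z).symm)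
  refine (congrArg (appL _ V.1) e1).trans ((appL_comp _ _ V.1 z).symm.trans ?_)
  exact (congrArg (fun φ => appL φ V.1 z) (cokernel.condition _)).trans (appL_zero V.1 z)

/-- The higher direct image is the limit of those of the truncations. -/
theorem exists_iso_limit_rlvl :
    ∃ e : (FSch.RpushF f h𝔛.1 h𝔜.1 q).obj 𝔉 ≅ limit (rlvl f h𝔛 h𝔜 𝔉 q),
      ∀ k : ℕ, e.hom ≫ limit.π (rlvl f h𝔛 h𝔜 𝔉 q) (op k) =
        (FSch.RpushF f h𝔛.1 h𝔜.1 q).map (lvlπ h𝔛.1 𝔉 k) := by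
  let P := (FSch.RpushF f h𝔛.1 h𝔜.1 q).obj 𝔉
  let c : Cone (rlvl f h𝔛 h𝔜 𝔉 q) :=
    { pt := P
      π := NatTrans.ofOpSequence (fun k => (FSch.RpushF f h𝔛.1 h𝔜.1 q).map (lvlπ h𝔛.1 𝔉 k)) fun k => by
        simp only [Functor.const_obj_obj, Functor.const_obj_map, Category.id_comp,
          Functor.ofOpSequence_map_homOfLE_succ]
        exact (congrArg _ (π_T 𝔉 k)).symm.trans (Functor.map_comp _ _ _) }
  let φ : P ⟶ limit (rlvl f h𝔛 h𝔜 𝔉 q) := limit.lift _ c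
  have hφ : ∀ k, φ ≫ limit.π _ (op k) = (FSch.RpushF f h𝔛.1 h𝔜.1 q).map (lvlπ h𝔛.1 𝔉 k) :=
    fun k => limit.lift_π _ _
  have : IsIso φ := isIso_of_isBasis φ (𝔜.X 0).isBasis_affineOpens fun V hV => by
    refine ⟨(injective_iff_map_eq_zero _).2 fun s hs => eq_zero_of_locally fun x hx => ?_, fun l => ?_⟩
    · obtain ⟨W, hW, hWa, hxW, c, hc⟩ := exists_edge_eq f h𝔛.1 h𝔜.1 q 𝔉 s hx
      refine ⟨W, hW, hxW, hc.symm.trans ?_⟩
      rw [(cls_lim (f := f) (h𝔛 := h𝔛) (h𝔜 := h𝔜) hf h𝔉 q hWa).1 c fun k => ?_, map_zero]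
      refine (bijective_edge_lvlF (f := f) (h𝔛 := h𝔛) (h𝔜 := h𝔜) hf h𝔉 q hWa k).1 ?_
      refine ((edge_natural f h𝔛.1 h𝔜.1 W q _ c).trans ((congrArg (appL _ W) hc).trans ?_)).trans
        (map_zero _).symm
      refine (res_appL _ hW s).symm.trans ((congrArg (res _ hW) ?_).trans (map_zero _))
      exact (congrArg (fun z => appL z V s) (hφ k)).symm.trans ((appL_comp φ _ V s).trans
        ((congrArg (appL _ V) hs).trans (map_zero _)))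
    · have hb := fun k => bijective_edge_lvlF (f := f) (h𝔛 := h𝔛) (h𝔜 := h𝔜) hf h𝔉 q hV k
      choose y hy using fun k => (hb k).2 (appL (limit.π (rlvl f h𝔛 h𝔜 𝔉 q) (op k)) V l)
      obtain ⟨c, hc⟩ := (cls_lim (f := f) (h𝔛 := h𝔛) (h𝔜 := h𝔜) hf h𝔉 q hV).2.1 y fun k => (hb k).1 (by
        refine (edge_natural f h𝔛.1 h𝔜.1 V q _ _).trans ((congrArg (appL _ V) (hy (k + 1))).trans
          (((appL_comp _ _ V l).symm.trans (congrArg (fun z => appL z V l) ?_)).trans (hy k).symm))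
        rw [← limit.w (rlvl f h𝔛 h𝔜 𝔉 q) (homOfLE (Nat.le_add_right k 1)).op,
          Functor.ofOpSequence_map_homOfLE_succ]
        rfl)
      refine ⟨edge f h𝔛.1 h𝔜.1 V q 𝔉 c, eq_of_proj (rlvl f h𝔛 h𝔜 𝔉 q) (secMod h𝔜.1 V) fun k => ?_⟩
      change appL (limit.π _ (op k)) V (appL φ V _) = appL (limit.π _ (op k)) V l
      refine (appL_comp _ _ V _).symm.trans ((congrArg (fun z => appL z V _) (hφ k)).trans ?_)
      exact ((edge_natural f h𝔛.1 h𝔜.1 V q _ c).symm.trans (congrArg _ (hc k))).trans (hy k)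
  exact ⟨asIso φ, hφ⟩

end Groth.Agent.FTors52
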