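import Groth.Agent.FTors52.Inj
import Mathlib.RingTheory.Flat.EquationalCriterion

/-!
# Bounded torsion from flatness of the restriction maps
-/

set_option autoImplicit false

universe u

open CategoryTheory CategoryTheory.Limits Opposite TopologicalSpace

namespace Groth.Agent.FTors52

open FMod90

variable {T : TopCat.{u}} {O : Sheaf (Opens.grothendieckTopology T) CommRingCat.{u}}
variable {I : FTors.IdealFam O}

theorem exists_uniform_colon {A : Type u} [CommRing A] [IsNoetherianRing A] (a : Ideal A) (τ : A) :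
    ∃ N, ∀ (m : ℕ) (b : A), τ ^ m * b ∈ a → τ ^ N * b ∈ a := by
  obtain ⟨N, hN⟩ := monotone_stabilizes_iff_noetherian.2 (inferInstance : IsNoetherian A A)
    ⟨fun m => Submodule.comap (LinearMap.mulLeft A (τ ^ m)) a, fun m m' h b hb => by
      change τ ^ m' * b ∈ a
      rw [← Nat.sub_add_cancel h, pow_add, mul_assoc]
      exact Ideal.mul_mem_left _ _ hb⟩
  refine ⟨N, fun m b hb => ?_⟩
  by_cases h : N ≤ m
  · exact (SetLike.ext_iff.1 (hN m h) b).2 hb
  · rw [← Nat.sub_add_cancel (le_of_not_ge h), pow_add, mul_assoc]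
    exact Ideal.mul_mem_left _ _ hb

/-- The bound survives a flat base change. -/
theorem colon_mem_map_of_flat {A B : Type u} [CommRing A] [CommRing B] (φ : A →+* B) (hφ : φ.Flat)
    {r : ℕ} (g : Fin r → A) (τ : A) (m N : ℕ)
    (hN : ∀ b, τ ^ m * b ∈ Ideal.span (Set.range g) → τ ^ N * b ∈ Ideal.span (Set.range g))
    (b : B) (hb : φ τ ^ m * b ∈ (Ideal.span (Set.range g)).map φ) :
    φ τ ^ N * b ∈ (Ideal.span (Set.range g)).map φ := by
  letI := φ.toAlgebra
  haveI : Module.Flat A B := hφ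
  rw [Ideal.map_span, ← Set.range_comp, Ideal.mem_span_range_iff_exists_fun] at hb
  obtain ⟨c, hc⟩ := hb
  have hrel : ∑ i, (Fin.cons (τ ^ m) (fun i => - g i) : Fin (r + 1) → A) i •
      (Fin.cons b c : Fin (r + 1) → B) i = 0 := by
    simp only [Fin.sum_univ_succ, Fin.cons_zero, Fin.cons_succ, Algebra.smul_def,
      RingHom.algebraMap_toAlgebra, map_pow, map_neg, neg_mul, Finset.sum_neg_distrib]
    rw [← hc]
    simp [mul_comm]
  obtain ⟨q, a, y, hx, ha⟩ := Module.Flat.iff_forall_isTrivialRelation.1 ‹_› hrel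
  have hb' := hx 0
  simp only [Fin.cons_zero] at hb'
  rw [hb', Finset.mul_sum]
  refine Ideal.sum_mem _ fun k _ => ?_
  rw [Algebra.smul_def, RingHom.algebraMap_toAlgebra, ← mul_assoc, ← map_pow, ← map_mul]
  refine Ideal.mul_mem_right _ _ (Ideal.mem_map_of_mem _ (hN _ ?_))
  have h0 := ha k
  simp only [Fin.sum_univ_succ, Fin.cons_zero, Fin.cons_succ, neg_mul, Finset.sum_neg_distrib,
    add_neg_eq_zero] at h0
  rw [h0]
  exact Ideal.sum_mem _ fun i _ => Ideal.mul_mem_right _ _ (Ideal.subset_span ⟨i, rfl⟩)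

theorem Datum.idl_eq_span (D : Datum I) (j k : ℕ) :
    D.idl j k = Ideal.span (Set.range fun i : Fin D.r => if (i : ℕ) < j then D.t i ^ k else 0) := by
  refine le_antisymm (Ideal.span_le.2 ?_) (Ideal.span_le.2 ?_)
  · rintro _ ⟨i, hi, rfl⟩
    exact Ideal.subset_span ⟨i, if_pos hi⟩
  · rintro _ ⟨i, rfl⟩
    by_cases hi : (i : ℕ) < j
    · simp only [if_pos hi]
      exact Ideal.subset_span ⟨i, hi, rfl⟩
    · simp only [if_neg hi]
      exact Ideal.zero_mem _

/-- A datum over a Noetherian ring with a basis of opens with flat restriction maps has bounded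
torsion. -/
theorem isSat_of_flat (D : Datum I) [IsNoetherianRing (Ring O D.U)]
    (hflat : ∀ (W : Opens T), W ≤ D.U → ∀ x ∈ W, ∃ (W' : Opens T) (h' : W' ≤ D.U),
      W' ≤ W ∧ x ∈ W' ∧ (rres O h').Flat) : D.IsSat := by
  intro j k
  obtain ⟨N, hN⟩ := exists_uniform_colon (D.idl j k) (D.t j)
  refine ⟨N, fun W h b m hb x hx => ?_⟩
  obtain ⟨W', h', hW', hx', hfl⟩ := hflat W h x hx
  refine ⟨W', hW', hx', ?_⟩
  rw [Datum.idl_eq_span] at hN ⊢
  refine colon_mem_map_of_flat _ hfl _ _ m N (fun c hc => hN m c hc) _ ?_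
  have := mem_map_rres hb hW'
  rwa [map_mul, map_pow, rres_rres, Datum.idl_eq_span] at this

end Groth.Agent.FTors52
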