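import Groth.Agent.FTors52.QCClosure
import Groth.Agent.FComplLib.Spf

/-!
# Filtered colimits of coherent modules on an affine formal scheme
-/

set_option autoImplicit false

universe u

open CategoryTheory CategoryTheory.Limits AlgebraicGeometry Opposite TopologicalSpace

namespace Groth.Agent.FTors52

open FMod90

/-- The cokernel of a cover of the kernel of an epimorphism. -/
noncomputable def cokernelCompKernelIso {C : Type*} [Category C] [Abelian C] {P Q R : C} (π : Q ⟶ R)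
    [Epi π] (q : P ⟶ kernel π) [Epi q] : cokernel (q ≫ kernel.ι π) ≅ R :=
  cokernelEpiComp q (kernel.ι π) ≪≫
    IsColimit.coconePointUniqueUpToIso (cokernelIsCokernel (kernel.ι π))
      (ShortComplex.exact_of_f_is_kernel (ShortComplex.mk (kernel.ι π) π (kernel.condition π))
        (kernelIsKernel π)).gIsCokernel

/-- A module generated by its global sections is a quotient of a free one. -/
theorem exists_epi_free {T : TopCat.{u}} {O : Sheaf (Opens.grothendieckTopology T) CommRingCat.{u}}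
    {M : ModSite.Mod O} (hM : GenBy M (⊤ : Opens T)) :
    ∃ (α : Type u) (π : (SheafOfModules.free α : ModSite.Mod O) ⟶ M), Epi π := by
  let sec : Sec M ⊤ → M.sections := fun s =>
    ⟨fun U => res M (le_top : U.unop ≤ ⊤) s, fun {U V} f => res_res le_top (leOfHom f.unop) s⟩
  let π : (SheafOfModules.free (Sec M ⊤) : ModSite.Mod O) ⟶ M := M.freeHomEquiv.symm sec
  refine ⟨_, π, epi_of_locLift π fun V y x hx => ?_⟩
  obtain ⟨W, hW, k, g, a, hxW, ha⟩ := hM V le_top y x hx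
  let e : Fin k → Sec (SheafOfModules.free (Sec M ⊤) : ModSite.Mod O) (⊤ : Opens T) := fun i =>
    appL (M := ModSite.unit O) (SheafOfModules.ιFree (g i)) ⊤ (1 : Ring O ⊤)
  refine ⟨W, hW, comb e le_top a, hxW, ?_⟩
  rw [appL_comb, ← ha]
  refine congrArg (fun v => comb v le_top a) (funext fun i => ?_)
  have h1 : (M.freeHomEquiv π (g i)).val (op ⊤) = g i := by
    simp only [π, Equiv.apply_symm_apply]
    exact res_refl _ (g i)
  exact h1

theorem pc_genC_free {𝔛 : FSch.Sys.{u}} (h𝔛 : 𝔛.IsLocNoethFormal) (β : Type u) :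
    PC (SheafOfModules.free β : FSch.ModF 𝔛 h𝔛.1) ∧
      GenC (SheafOfModules.free β : FSch.ModF 𝔛 h𝔛.1) :=
  pc_genC_of_isColimit h𝔛 (SheafOfModules.isColimitFreeCofan β)
    (fun _ => isPC_of_isCohF h𝔛 (isCohF_unit h𝔛)) fun _ => GenC.of_isCohF (isCohF_unit h𝔛)

/-- On an affine formal scheme filtered colimits of coherent modules are cokernels of morphisms of
free modules. -/
theorem ind_iff_exists_cokernel_free {𝔛 : FSch.Sys.{u}} (h𝔛 : 𝔛.IsLocNoethFormal)
    [IsAffine (𝔛.X 0)] (M : FSch.ModF 𝔛 h𝔛.1) :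
    (ObjectProperty.ind.{u} fun 𝔊 : FSch.ModF 𝔛 h𝔛.1 => FSch.IsCohF 𝔛 h𝔛.1 𝔊) M ↔
      ∃ (α β : Type u) (φ : (SheafOfModules.free α : FSch.ModF 𝔛 h𝔛.1) ⟶ SheafOfModules.free β),
        Nonempty (cokernel φ ≅ M) := by
  refine ⟨fun hM => ?_, fun ⟨α, β, φ, ⟨e⟩⟩ => ?_⟩
  · obtain ⟨p, g⟩ := pc_genC_of_ind h𝔛 hM
    obtain ⟨β, π, _⟩ := exists_epi_free (g.genBy h𝔛 (isAffineOpen_top _))
    obtain ⟨α, q, _⟩ := exists_epi_free
      (((pc_genC_free h𝔛 β).2.kernel h𝔛 p π).genBy h𝔛 (isAffineOpen_top _))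
    exact ⟨α, β, q ≫ kernel.ι π, ⟨cokernelCompKernelIso π q⟩⟩
  · obtain ⟨_, g₁⟩ := pc_genC_free h𝔛 α
    obtain ⟨p₂, g₂⟩ := pc_genC_free h𝔛 β
    exact ind_of_pc_genC h𝔛 ((PC.cokernel h𝔛 p₂ (g₁.gen h𝔛) φ).of_mono e.inv)
      ((g₂.of_epi (cokernel.π φ)).of_epi e.hom)

end Groth.Agent.FTors52
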