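import Groth.Agent.FTors52.Derived
import Groth.Agent.H9Misc.AdjDescend
import Groth.Agent.DSites.TExact
import Mathlib.CategoryTheory.ObjectProperty.FullSubcategory

/-!
# The derived category of torsion modules

The derived category of torsion modules maps fully faithfully onto the objects with torsion cohomology.
-/

set_option autoImplicit false

universe u

open CategoryTheory CategoryTheory.Limits Opposite TopologicalSpace

attribute [local instance] HasDerivedCategory.standard

namespace Groth.Agent.FTors52

open FMod90

/-- An exact faithful functor induces a conservative functor of derived categories. -/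
theorem reflectsIso_mapDerivedCategory {A B : Type*} [Category A] [Abelian A] [Category B] [Abelian B]
    [HasDerivedCategory A] [HasDerivedCategory B] (F : A ⥤ B) [F.Additive] [PreservesFiniteLimits F]
    [PreservesFiniteColimits F] [F.ReflectsIsomorphisms] {X Y : DerivedCategory A} (f : X ⟶ Y)
    [IsIso (F.mapDerivedCategory.map f)] : IsIso f := by
  rw [DerivedCategory.isIso_iff]
  intro i
  have h := (KFlatLib.mapDCHomologyIso F i).hom.naturality f
  haveI : IsIso ((F.mapDerivedCategory ⋙ DerivedCategory.homologyFunctor B i).map f) :=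
    Functor.map_isIso (DerivedCategory.homologyFunctor B i) (F.mapDerivedCategory.map f)
  haveI : IsIso ((KFlatLib.mapDCHomologyIso F i).hom.app X ≫
      (DerivedCategory.homologyFunctor A i ⋙ F).map f) := by
    rw [← h]
    exact IsIso.comp_isIso
  have h' : IsIso ((DerivedCategory.homologyFunctor A i ⋙ F).map f) :=
    IsIso.of_isIso_comp_left ((KFlatLib.mapDCHomologyIso F i).hom.app X) _
  exact @isIso_of_reflects_iso _ _ _ _ _ _ ((DerivedCategory.homologyFunctor A i).map f) F h' _

theorem isIso_of_comp_id_right {C : Type*} [Category C] {X Y : C} {f : X ⟶ Y} (g : Y ⟶ X) [IsIso g]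
    (h : f ≫ g = 𝟙 X) : IsIso f :=
  haveI : IsIso (f ≫ g) := h ▸ IsIso.id X
  IsIso.of_isIso_comp_right f g

theorem isIso_of_comp_id_left {C : Type*} [Category C] {X Y : C} (f : X ⟶ Y) {g : Y ⟶ X} [IsIso f]
    (h : f ≫ g = 𝟙 X) : IsIso g :=
  haveI : IsIso (f ≫ g) := h ▸ IsIso.id X
  IsIso.of_isIso_comp_left f g

variable {T : TopCat.{u}} {O : Sheaf (Opens.grothendieckTopology T) CommRingCat.{u}}
variable (I : FTors.IdealFam O)

/-- The torsion functor with values in torsion modules. -/
noncomputable def gammaToSub : ModSite.Mod O ⥤ (FTors.IsTors I).FullSubcategory :=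
  (FTors.IsTors I).lift (FTors.gamma O I) isTors_gammaObj

/-- The inverse of the inclusion of the torsion sections of a torsion module. -/
noncomputable def gammaInv {M : ModSite.Mod O} (h : FTors.IsTors I M) :
    M ⟶ (FTors.gamma O I).obj M :=
  (@asIso _ _ _ _ ((FTors.gammaι I).app M) (isIso_gammaι_of_isTors h)).inv

@[reassoc]
theorem gammaInv_ι {M : ModSite.Mod O} (h : FTors.IsTors I M) :
    gammaInv I h ≫ (FTors.gammaι I).app M = 𝟙 M :=
  (@asIso _ _ _ _ ((FTors.gammaι I).app M) (isIso_gammaι_of_isTors h)).inv_hom_id

/-- The torsion functor is right adjoint to the inclusion of torsion modules. -/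
noncomputable def gammaSubAdj : (FTors.IsTors I).ι ⊣ gammaToSub I :=
  Adjunction.mkOfUnitCounit
    { unit :=
        { app := fun A => ObjectProperty.homMk (gammaInv I A.2)
          naturality := fun A B f => ObjectProperty.hom_ext _ (by
            change f.hom ≫ gammaInv I B.2 = gammaInv I A.2 ≫ (FTors.gamma O I).map f.hom
            rw [← cancel_mono ((FTors.gammaι I).app B.obj), Category.assoc, Category.assoc,
              (FTors.gammaι I).naturality, gammaInv_ι, gammaInv_ι_assoc]
            exact Category.comp_id _) }
      counit :=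
        { app := fun M => (FTors.gammaι I).app M
          naturality := fun M N f => (FTors.gammaι I).naturality f }
      left_triangle := by
        ext A : 2
        change gammaInv I A.2 ≫ 𝟙 _ ≫ (FTors.gammaι I).app A.obj = 𝟙 _
        rw [Category.id_comp, gammaInv_ι]
      right_triangle := by
        ext M : 2
        apply ObjectProperty.hom_ext
        change gammaInv I (isTors_gammaObj M) ≫ 𝟙 _ ≫
          (FTors.gamma O I).map ((FTors.gammaι I).app M) = 𝟙 _
        rw [Category.id_comp, ← cancel_mono ((FTors.gammaι I).app M), Category.assoc]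
        erw [(FTors.gammaι I).naturality]
        erw [gammaInv_ι_assoc]
        exact (Category.id_comp _).symm }

variable {I} [FTors.HasRgamma I]
  [(FTors.IsTors I).ContainsZero] [(FTors.IsTors I).IsClosedUnderKernels]
  [(FTors.IsTors I).IsClosedUnderCokernels] [(FTors.IsTors I).IsClosedUnderFiniteProducts]
  [PreservesFiniteLimits (FTors.IsTors I).ι] [PreservesFiniteColimits (FTors.IsTors I).ι]

/-- The derived category of torsion modules is the full subcategory of objects with torsion
cohomology. -/
theorem full_faithful_essImage (𝒜 : Atlas I) :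
    (FTors.IsTors I).ι.mapDerivedCategory.Full ∧ (FTors.IsTors I).ι.mapDerivedCategory.Faithful ∧
      ∀ G : DerivedCategory (ModSite.Mod O),
        (FTors.IsTors I).ι.mapDerivedCategory.essImage G ↔ FTors.IsDTors I G := by
  haveI : (gammaToSub I).Additive := (gammaSubAdj I).right_adjoint_additive
  let adjQ := DSites.kinjAdj O
  let adj := H9Misc.AdjDescend.derivedAdj (gammaSubAdj I) adjQ
  have himg : ∀ A, FTors.IsDTors I ((FTors.IsTors I).ι.mapDerivedCategory.obj A) := fun A p =>
    isTors_of_epi ((KFlatLib.mapDCHomologyIso (FTors.IsTors I).ι p).inv.app A)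
      ((DerivedCategory.homologyFunctor _ p).obj A).2
  haveI hc : IsIso adjQ.counit := by
    haveI : ∀ X, IsIso (adjQ.counit.app X) := fun X => by
      obtain ⟨L, u, hL, hu, -⟩ :=
        TriCat.exists_kInjective_resolution' ((DerivedCategory.Q).objPreimage X)
      let e : X ≅ DerivedCategory.Qh.obj ((HomotopyCategory.quotient _ _).obj L) :=
        ((DerivedCategory.Q).objObjPreimageIso X).symm ≪≫
          (@asIso _ _ _ _ _ ((DerivedCategory.isIso_Q_map_iff_quasiIso _ u).2 hu)) ≪≫
          ((DerivedCategory.quotientCompQhIso _).app L).symm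
      rw [NatTrans.isIso_app_iff_of_iso _ e]
      haveI := TriCat.isIso_unit_of_isKInjective adjQ L
      exact @isIso_of_comp_id_left _ _ _ _ _ _
        (Functor.map_isIso DerivedCategory.Qh (adjQ.unit.app ((HomotopyCategory.quotient _ _).obj L)))
        (adjQ.left_triangle_components _)
    exact NatIso.isIso_of_isIso_app _
  have hcounit : ∀ X, FTors.IsDTors I X → IsIso (adj.counit.app X) := by
    intro X hX
    let R := (DSites.kinjRes O).obj X
    have hu : IsIso ((DSites.kinjAdj O).unit.app R) := by
      haveI : IsIso ((DSites.kinjRes O).map ((DSites.kinjAdj O).counit.app X)) := inferInstance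
      haveI : IsIso ((DSites.kinjAdj O).unit.app R ≫
          (DSites.kinjRes O).map ((DSites.kinjAdj O).counit.app X)) := by
        rw [(DSites.kinjAdj O).right_triangle_components]
        exact IsIso.id _
      exact IsIso.of_isIso_comp_right _ ((DSites.kinjRes O).map ((DSites.kinjAdj O).counit.app X))
    have hτ : IsIso ((FTors.gammaτ I).app R) := by
      rw [← gammaUnit_ε]
      haveI : IsIso ((FTors.Rgammaε I).app (DerivedCategory.Qh.obj R)) :=
        isIso_ε_of_isDTors 𝒜 (isDTors_of_iso (asIso (adjQ.counit.app X)).symm hX)
      haveI : IsIso ((gammaUnit I).app R) := isIso_gammaUnit_of_isIso_unit I R hu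
      exact IsIso.comp_isIso
    have hK : IsIso (DerivedCategory.Qh.map
        ((H9Misc.SerreDerived.adjHtpy (ComplexShape.up ℤ) (gammaSubAdj I)).counit.app R)) := by
      have e : DerivedCategory.Qh.map
          ((H9Misc.SerreDerived.adjHtpy (ComplexShape.up ℤ) (gammaSubAdj I)).counit.app R) =
          (FTors.gammaτ I).app R := by
        refine Eq.trans ?_ (gammaτ_app R.as).symm
        refine congrArg DerivedCategory.Qh.map (congrArg (HomotopyCategory.quotient _ _).map ?_)
        exact HomologicalComplex.hom_ext _ _ fun i => (gammaC_f i).symm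
      rw [e]
      exact hτ
    have : IsIso (((H9Misc.SerreDerived.adjHtpy (ComplexShape.up ℤ) (gammaSubAdj I)).comp
        adjQ).counit.app X) := by
      rw [Adjunction.comp_counit_app]
      exact IsIso.comp_isIso' hK (NatIso.isIso_app_of_isIso _ _)
    exact IsIso.comp_isIso' (Iso.isIso_hom ((FTors.IsTors I).ι.mapDerivedCategoryFactorsh.app _)) this
  haveI : IsIso adj.unit := by
    haveI : ∀ A, IsIso (adj.unit.app A) := fun A => by
      haveI := hcounit _ (himg A)
      haveI : IsIso ((FTors.IsTors I).ι.mapDerivedCategory.map (adj.unit.app A)) :=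
        @isIso_of_comp_id_right _ _ _ _ _ _ (hcounit _ (himg A)) (adj.left_triangle_components A)
      exact reflectsIso_mapDerivedCategory (FTors.IsTors I).ι _
    exact NatIso.isIso_of_isIso_app _
  haveI := adj.fullyFaithfulLOfIsIsoUnit.full
  haveI := adj.fullyFaithfulLOfIsIsoUnit.faithful
  refine ⟨inferInstance, inferInstance, fun G => ⟨fun ⟨A, ⟨e⟩⟩ => isDTors_of_iso e (himg A),
    fun hG => ?_⟩⟩
  haveI := hcounit G hG
  exact ⟨_, ⟨asIso (adj.counit.app G)⟩⟩

end Groth.Agent.FTors52
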