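import Groth.Agent.FTors52.QCClosure
import Groth.Agent.FTors52.Key

/-!
# Torsion modules: extensions, colimits, and generators of the torsion submodule

Over an affine open generated by sections, the torsion sections are generated by torsion sections.
-/

set_option autoImplicit false

universe u

open CategoryTheory CategoryTheory.Limits AlgebraicGeometry Opposite TopologicalSpace

namespace Groth.Agent.FTors52

open FMod90

section general

variable {T : TopCat.{u}} {O : Sheaf (Opens.grothendieckTopology T) CommRingCat.{u}}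
  {M : ModSite.Mod O} {U V W : Opens T} {I : FTors.IdealFam O}

/-- A section which locally is a finite sum of torsion sections is torsion. -/
theorem isTorsSect_of_locally {s : Sec M V}
    (hs : ∀ x ∈ V, ∃ (W : Opens T) (hW : W ≤ V), x ∈ W ∧ FTors.IsTorsSect I M (FMod90.res M hW s)) :
    FTors.IsTorsSect I M s := (isTorsSect_iff_exists s).2 fun x hx => by
  obtain ⟨W, hW, hxW, hs'⟩ := hs x hx
  obtain ⟨W', hW', hxW', n, hn⟩ := (isTorsSect_iff_exists _).1 hs' x hxW
  rw [res_res] at hn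
  exact ⟨W', hW'.trans hW, hxW', n, hn⟩

theorem isTors_of_isColimit {J : Type*} [Category J] {K : J ⥤ ModSite.Mod O} {c : Cocone K}
    (hc : IsColimit c) (hK : ∀ j, FTors.IsTors I (K.obj j)) : FTors.IsTors I c.pt := fun V s =>
  isTorsSect_of_locally fun x hx => by
    obtain ⟨W, hW, k, σ, z, hxW, hz⟩ := exists_sum_of_isColimit hc s hx
    refine ⟨W, hW, hxW, ?_⟩
    rw [hz]
    exact Submodule.sum_mem (FTors.torsSub I c.pt W) fun t _ => (hK (σ t) W (z t)).hom (c.ι.app (σ t))

theorem isTors_of_exact {𝒜 : Set (Datum I)} (h𝒜 : Covers 𝒜) {S : ShortComplex (ModSite.Mod O)}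
    (hS : S.Exact) [Mono S.f] (h₁ : FTors.IsTors I S.X₁) (h₃ : FTors.IsTors I S.X₃) :
    FTors.IsTors I S.X₂ := fun V s => isTorsSect_of_locally fun x hx => by
  obtain ⟨D, -, hxD⟩ := h𝒜 x
  obtain ⟨W, hW, hxW, k, hk⟩ := upto_of_isTorsSect (D := D)
    (h₃ (V ⊓ D.U) (appL S.g _ (FMod90.res S.X₂ inf_le_left s))) inf_le_right D.r x ⟨hx, hxD⟩
  refine ⟨W, hW.trans inf_le_left, hxW, isTorsSect_of_upto (D := D) (h := hW.trans inf_le_right)
    fun y hy => ?_⟩
  let s' := FMod90.res S.X₂ (hW.trans inf_le_left) s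
  have hker : ∀ i : Fin D.r, appL S.g W (rres O (hW.trans inf_le_right) (D.t i) ^ k • s') = 0 :=
    fun i => by
      rw [map_smul]
      refine Eq.trans (congrArg _ ?_) (hk i i.isLt)
      simp only [s']
      rw [← res_res (inf_le_left : V ⊓ D.U ≤ V) hW, ← res_appL]
  choose a ha using fun i => exists_lift_of_mono S.f (locLift_of_exact hS (hker i))
  choose Wi hWi hyWi ki hki using fun i =>
    upto_of_isTorsSect (D := D) (h₁ W (a i)) (hW.trans inf_le_right) D.r y hy
  let W' : Opens T := ⟨⋂ i, (Wi i : Set T), isOpen_iInter_of_finite fun i => (Wi i).2⟩ ⊓ W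
  have hW' : ∀ i, W' ≤ Wi i := fun i w hw => Set.mem_iInter.1 hw.1 i
  refine ⟨W', inf_le_right, ⟨Set.mem_iInter.2 hyWi, hy⟩, Finset.univ.sup ki + k, fun i _ => ?_⟩
  have h2 := (((hki i).res (hW' i)).mono (Finset.le_sup (f := ki) (Finset.mem_univ i))) i i.isLt
  rw [res_res] at h2
  rw [pow_add, mul_smul, ← rres_rres (hW.trans inf_le_right) (inf_le_right : W' ≤ W), ← map_pow _ _ k,
    ← res_smul', ← ha i, res_appL, ← map_smul, rres_rres, h2, map_zero]

theorem genBy_gamma {D : Datum I} {M : ModSite.Mod O}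
    (hgen : ∀ (k : ℕ) (V : Opens T) (h : V ≤ D.U) (y : Sec M V), Kill D D.r k h y → ∀ x ∈ V,
      ∃ (W : Opens T) (hW : W ≤ V) (n : ℕ) (g : Fin n → Sec M D.U) (a : Fin n → Ring O W),
        x ∈ W ∧ (∀ i, Kill D D.r k le_rfl (g i)) ∧ comb g (hW.trans h) a = res M hW y) :
    GenBy ((FTors.gamma O I).obj M) D.U := fun V hV y x hx => by
  obtain ⟨W, hW, hxW, k, hk⟩ :=
    upto_of_isTorsSect (D := D) (s := appL ((FTors.gammaι I).app M) V y) y.2 hV D.r x hx
  obtain ⟨W', hW', n, g, a, hxW', hg, ha⟩ := hgen k W (hW.trans hV) _ hk x hxW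
  choose g' hg' using fun i => exists_gamma_lift
    (isTorsSect_of_upto (Upto.of_kill (hg i)) : FTors.IsTorsSect I M (g i))
  refine ⟨W', hW'.trans hW, n, g', a, hxW', injective_of_mono ((FTors.gammaι I).app M) W' ?_⟩
  rw [appL_comb, funext hg']
  refine ha.trans ((res_res (M := M) hW hW' _).trans ?_)
  exact res_appL ((FTors.gammaι I).app M) (hW'.trans hW) y

end general

variable {𝔛 : FSch.Sys.{u}} {h : 𝔛.IsFormal} {M : FSch.ModF 𝔛 h} (h𝔛 : 𝔛.IsLocNoethFormal)

include h𝔛

/-- Killed sections are combinations of killed sections. -/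
theorem exists_comb_kill (hM : PC M) {D : Datum (FTors.openIdealFam 𝔛 h)} (hU : IsAffineOpen D.U)
    (hgen : GenBy M D.U) (k j : ℕ) (V : (𝔛.X 0).Opens) (hV : V ≤ D.U) (y : Sec M V)
    (hy : Kill D j k hV y) : ∀ x ∈ V, ∃ (W : (𝔛.X 0).Opens) (hW : W ≤ V) (n : ℕ)
      (g : Fin n → Sec M D.U) (a : Fin n → Ring (𝔛.Osh h) W),
      x ∈ W ∧ (∀ i, Kill D j k le_rfl (g i)) ∧ comb g (hW.trans hV) a = res M hW y := by
  induction j generalizing V y with
  | zero =>
    intro x hx
    obtain ⟨W, hW, n, g, a, hxW, ha⟩ := hgen V hV y x hx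
    exact ⟨W, hW, n, g, a, hxW, fun i l hl => absurd hl (Nat.not_lt_zero _), ha⟩
  | succ j ih =>
    intro x hx
    obtain ⟨W, hW, n, g, a, hxW, hg, ha⟩ := ih V hV y (fun i hi => hy i (Nat.lt_succ_of_lt hi)) x hx
    by_cases hj : j < D.r
    · let τ := D.t ⟨j, hj⟩ ^ k
      obtain ⟨m, r, hr⟩ := hM.exists_isRel h𝔛 hU fun i => τ • g i
      have h0 : comb (fun i => τ • g i) (hW.trans hV) a = 0 := by
        have h1 := (hy.res hW) ⟨j, hj⟩ (Nat.lt_succ_self j)
        rw [← ha, comb, Finset.smul_sum] at h1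
        refine Eq.trans ?_ h1
        refine Finset.sum_congr rfl fun i _ => ?_
        simp only [τ]
        rw [res_smul', map_pow, smul_comm]
      obtain ⟨W', hW', hxW', hmem⟩ := hr.exact W _ a h0 x hxW
      obtain ⟨c, hc⟩ := (Submodule.mem_span_range_iff_exists_fun _).1 hmem
      refine ⟨W', hW'.trans hW, m, fun l => comb g le_rfl (r l), c, hxW', fun l i hi => ?_, ?_⟩
      · simp only [comb, res_refl, Finset.smul_sum]
        rcases Nat.lt_succ_iff_lt_or_eq.1 hi with hi' | hi'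
        · refine Finset.sum_eq_zero fun q _ => ?_
          rw [smul_comm, hg q i hi', smul_zero]
        · have e : i = ⟨j, hj⟩ := Fin.ext hi'
          subst e
          have h2 := hr.rel l
          simp only [comb, res_refl] at h2
          refine Eq.trans (Finset.sum_congr rfl fun q _ => ?_) h2
          simp only [τ, rres_refl]
          exact smul_comm _ _ _
      · rw [← res_res hW hW', ← ha, ← comb_rv, ← hc, ← combL_apply g, map_sum]
        refine Finset.sum_congr rfl fun l _ => ?_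
        rw [map_smul, combL_apply, comb_rv g le_rfl ((hW'.trans hW).trans hV)]
    · exact ⟨W, hW, n, g, a, hxW, fun i l hl =>
        hg i l (lt_of_lt_of_le l.isLt (le_of_not_gt hj)), ha⟩

/-- The torsion submodule of a quasi-coherent module is generated over small affine opens. -/
theorem gen_gamma (hM : PC M) (hgen : Gen M) :
    Gen ((FTors.gammaT 𝔛 h).obj M) := fun x => by
  obtain ⟨U₁, hxU₁, hU₁⟩ := hgen x
  obtain ⟨U, hU, hle, hxU⟩ := exists_affine_le hxU₁
  obtain ⟨D, rfl, -⟩ := exists_datum_formal (h := h) h𝔛 hU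
  exact ⟨D.U, hxU, genBy_gamma fun k V hV y hy =>
    exists_comb_kill h𝔛 hM hU (hU₁.restrict hle) k D.r V hV y hy⟩

theorem isQCT_gamma [SheafOfModules.IsQuasicoherent.{u} M] :
    FTors.IsQCT 𝔛 h ((FTors.gammaT 𝔛 h).obj M) :=
  ⟨isTors_gammaObj M, isQuasicoherent_of_pc h𝔛
    (((pc_gen_of_isQuasicoherent h𝔛 (M := M)).1).of_mono (N := M) ((FTors.gammaι _).app M))
    (gen_gamma h𝔛 (pc_gen_of_isQuasicoherent h𝔛).1 (pc_gen_of_isQuasicoherent h𝔛).2)⟩

end Groth.Agent.FTors52
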